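import Cfsg.Agent.H48.QdAux
import Mathlib.Algebra.Group.Hom.End
import Mathlib.GroupTheory.QuotientGroup.Basic

/-!
# The abstract kernel theorem for `p`-rank two groups over `Qd(p)`
-/

set_option autoImplicit false
set_option linter.unusedSectionVars false

namespace Cfsg.Agent.H48

open Subgroup
open scoped commutatorElement MatrixGroups

variable {G : Type*} [Group G] [Finite G] {p : ℕ} [Fact p.Prime]


/-- The data over `Qd(p)`: a map onto `SL₂` and an equivariant map of its kernel onto the module. -/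
structure QdData (f : G →* SL(2, ZMod p)) (τ : G → (Fin 2 → ZMod p)) : Prop where
  hp : 3 < p
  surj : Function.Surjective f
  pgroup : IsPGroup p f.ker
  add : ∀ r ∈ f.ker, ∀ s ∈ f.ker, τ (r * s) = τ r + τ s
  equiv : ∀ g, ∀ r ∈ f.ker, τ (g * r * g⁻¹) = (↑(f g) : (Matrix (Fin 2) (Fin 2) (ZMod p))).mulVec (τ r)
  onto : ∀ v, ∃ r ∈ f.ker, τ r = v
  rank : Cfsg.PRankLE p 2 G

variable {f : G →* SL(2, ZMod p)} {τ : G → (Fin 2 → ZMod p)}

theorem QdData.ne_two (h : QdData f τ) : p ≠ 2 := by have := h.hp; omega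

theorem QdData.natCast_ne_zero (h : QdData f τ) {n : ℕ} (h0 : 0 < n) (hn : n < 5) :
    ((n : ℕ) : ZMod p) ≠ 0 := by
  rw [Ne, ZMod.natCast_eq_zero_iff]
  intro hd
  have := Nat.le_of_dvd h0 hd
  have := h.hp
  have h4 : p = 4 := by omega
  exact absurd (h4 ▸ (Fact.out : p.Prime)) (by norm_num)

theorem QdData.tau_one (h : QdData f τ) : τ 1 = 0 := by
  have := h.add 1 (one_mem _) 1 (one_mem _)
  simpa using this

theorem QdData.tau_inv (h : QdData f τ) {r : G} (hr : r ∈ f.ker) : τ r⁻¹ = - τ r := by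
  have := h.add r hr r⁻¹ (inv_mem hr)
  rw [mul_inv_cancel, h.tau_one] at this
  exact eq_neg_of_add_eq_zero_right this.symm

theorem QdData.tau_pow (h : QdData f τ) {r : G} (hr : r ∈ f.ker) (n : ℕ) :
    τ (r ^ n) = (n : ℕ) • τ r := by
  induction n with
  | zero => simpa using h.tau_one
  | succ n ih => rw [pow_succ, h.add _ (pow_mem hr n) r hr, ih, succ_nsmul]

/-- The upper unipotent. -/
def uMat (p : ℕ) : SL(2, ZMod p) := ⟨!![1, 1; 0, 1], by simp [Matrix.det_fin_two]⟩

/-- The Weyl element. -/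
def wMat (p : ℕ) : SL(2, ZMod p) := ⟨!![0, -1; 1, 0], by simp [Matrix.det_fin_two]⟩

theorem uMat_pow (n : ℕ) : ((uMat p ^ n : SL(2, ZMod p)) : (Matrix (Fin 2) (Fin 2) (ZMod p))) = !![1, (n : ZMod p); 0, 1] := by
  induction n with
  | zero => rw [pow_zero, Matrix.SpecialLinearGroup.coe_one]; ext i j; fin_cases i <;> fin_cases j <;> simp
  | succ n ih =>
    rw [pow_succ, Matrix.SpecialLinearGroup.coe_mul, ih]
    ext i j
    fin_cases i <;> fin_cases j <;> simp [uMat, Matrix.mul_apply, add_comm]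

theorem uMat_pow_p : uMat p ^ p = 1 := by
  apply Subtype.ext
  rw [uMat_pow, Matrix.SpecialLinearGroup.coe_one]
  ext i j
  fin_cases i <;> fin_cases j <;> simp

theorem exists_involution (h : QdData f τ) : ∃ j : G, f j = -1 ∧ j * j = 1 := by
  obtain ⟨g, hg⟩ := h.surj (-1)
  have hg2 : g * g ∈ f.ker := by rw [MonoidHom.mem_ker, map_mul, hg, neg_mul_neg, one_mul]
  obtain ⟨n, hn⟩ := h.pgroup ⟨g * g, hg2⟩
  refine ⟨g ^ p ^ n, ?_, ?_⟩
  · rw [map_pow, hg]; exact (((Fact.out : p.Prime).odd_of_ne_two h.ne_two).pow).neg_one_pow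
  · have := congrArg Subtype.val hn
    simp only [Subgroup.coe_pow, OneMemClass.coe_one] at this
    rw [← (Commute.refl g).mul_pow, this]

theorem tau_conj_j (h : QdData f τ) {j : G} (hf : f j = -1) (hj : j * j = 1) {r : G}
    (hr : r ∈ f.ker) : τ (j * r * j) = - τ r := by
  have := h.equiv j r hr
  rw [inv_eq_of_mul_eq_one_right hj, hf] at this
  simpa [Matrix.neg_mulVec] using this

theorem conj_j_mem {j : G} (hj : j * j = 1) {r : G} (hr : r ∈ f.ker) : j * r * j ∈ f.ker := by
  have := f.normal_ker.conj_mem r hr j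
  rwa [inv_eq_of_mul_eq_one_right hj] at this

theorem exists_centralizing_lift (h : QdData f τ) {j : G} (hf : f j = -1) (hj : j * j = 1) (g : G) :
    ∃ c : G, f c = f g ∧ c * j = j * c := by
  have hjinv : j⁻¹ = j := inv_eq_of_mul_eq_one_right hj
  have hs : g * j * g⁻¹ * j ∈ f.ker := by
    rw [MonoidHom.mem_ker, map_mul, map_mul, map_mul, hf, map_inv, neg_one_comm (f g),
      mul_inv_cancel_right, neg_mul_neg, one_mul]
  set s := g * j * g⁻¹ * j with hsdef
  obtain ⟨m, hm⟩ := exists_sqrt_pow h.ne_two h.pgroup hs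
  set t := s ^ m
  have hsinv : j * s * j⁻¹ = s⁻¹ := by
    rw [hsdef, mul_inv_rev, mul_inv_rev, mul_inv_rev, inv_inv, hjinv]
    simp [mul_assoc, hj]
  have htinv : j * t * j = t⁻¹ := by
    have : (j * s * j⁻¹) ^ m = j * t * j⁻¹ := conj_pow
    rw [hsinv, inv_pow, hjinv] at this
    exact this.symm
  refine ⟨t⁻¹ * g, ?_, ?_⟩
  · have : t ∈ f.ker := pow_mem hs m
    rw [map_mul, map_inv, MonoidHom.mem_ker.mp this, inv_one, one_mul]
  · have e1 : g * j * g⁻¹ = t * t * j := by
      rw [hm, hsdef, mul_assoc _ j j, hj, mul_one]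
    have e2 : t * j = j * t⁻¹ := by
      rw [← htinv]; simp [← mul_assoc, hj]
    calc t⁻¹ * g * j = t⁻¹ * (g * j * g⁻¹) * g := by group
      _ = t * j * g := by rw [e1]; group
      _ = j * (t⁻¹ * g) := by rw [e2, mul_assoc]

theorem exists_not_fixed (h : QdData f τ) {j : G} (hf : f j = -1) (hj : j * j = 1) :
    ∃ r ∈ f.ker, r * j ≠ j * r := by
  obtain ⟨r, hr, hτ⟩ := h.onto ![1, 0]
  refine ⟨r, hr, fun hc => ?_⟩
  have h1 := tau_conj_j h hf hj hr
  rw [mul_assoc, hc, ← mul_assoc, hj, one_mul, hτ] at h1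
  have h3 := congrFun h1 0
  simp at h3
  have h4 : (2 : ZMod p) = 0 := by linear_combination h3
  exact h.natCast_ne_zero (n := 2) (by norm_num) (by norm_num) (by simpa using h4)

/-- If `j` has no fixed points on the kernel, the map `τ` is injective. -/
theorem eq_one_of_fixedPointFree (h : QdData f τ) {j : G} (hf : f j = -1) (hj : j * j = 1)
    (hK : ∀ r ∈ f.ker, r * j = j * r → r = 1) : ∀ r ∈ f.ker, τ r = 0 → r = 1 := by
  classical
  have hjinv : j⁻¹ = j := inv_eq_of_mul_eq_one_right hj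
  set R := f.ker with hR
  -- every element of `R` is inverted by `j`, so `R` is abelian
  have hinv : ∀ r ∈ R, j * r * j = r⁻¹ := by
    let σ : R → R := fun r => ⟨(r : G)⁻¹ * (j * r * j), mul_mem (inv_mem r.2) (conj_j_mem hj r.2)⟩
    have hinj : Function.Injective σ := by
      intro a b hab
      have h2 : (a : G)⁻¹ * j * a = (b : G)⁻¹ * j * b := by
        have := congrArg Subtype.val hab
        simp only [σ] at this
        apply mul_right_cancel (b := j)
        simpa [mul_assoc] using this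
      refine Subtype.ext (mul_inv_eq_one.mp ?_)
      refine hK _ (mul_mem a.2 (inv_mem b.2)) ?_
      calc (a : G) * (b : G)⁻¹ * j = (a : G) * ((b : G)⁻¹ * j * b) * (b : G)⁻¹ := by group
        _ = j * ((a : G) * (b : G)⁻¹) := by rw [← h2]; group
    intro r hr
    obtain ⟨a, ha⟩ := (Finite.injective_iff_surjective.mp hinj) ⟨r, hr⟩
    have he : r = (a : G)⁻¹ * (j * a * j) := (congrArg Subtype.val ha).symm
    rw [he, mul_inv_rev, inv_inv, mul_inv_rev, mul_inv_rev, hjinv]
    simp [mul_assoc, hj]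
  have hab : ∀ r ∈ R, ∀ s ∈ R, r * s = s * r := by
    intro r hr s hs
    have h1 := hinv _ (mul_mem hr hs)
    have h2 : j * (r * s) * j = r⁻¹ * s⁻¹ := by
      rw [← hinv r hr, ← hinv s hs]
      calc j * (r * s) * j = j * r * (j * j) * s * j := by rw [hj]; group
        _ = j * r * j * (j * s * j) := by group
    rw [h2, mul_inv_rev] at h1
    have := congrArg (fun z => z⁻¹) h1
    simpa using this.symm
  letI : CommGroup R := { (inferInstance : Group R) with
    mul_comm := fun a b => Subtype.ext (hab a a.2 b b.2) }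
  -- `τ` on `R`, and the two kernels
  let τh : R →* Multiplicative (Fin 2 → ZMod p) := MonoidHom.mk' (fun r => Multiplicative.ofAdd (τ (r : G)))
    (fun a b => by show Multiplicative.ofAdd (τ ((a : G) * b)) = _; rw [h.add _ a.2 _ b.2]; rfl)
  have hτsurj : Function.Surjective τh := fun v => by
    obtain ⟨r, hr, hv⟩ := h.onto (Multiplicative.toAdd v)
    exact ⟨⟨r, hr⟩, by show Multiplicative.ofAdd (τ r) = v; rw [hv]; rfl⟩
  have hV : Nat.card (Multiplicative (Fin 2 → ZMod p)) = p ^ 2 := by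
    rw [Nat.card_congr Multiplicative.toAdd, Nat.card_fun, Nat.card_zmod, Nat.card_fin]
  let P : R →* R := powMonoidHom p
  have hΩle : Nat.card P.ker ≤ p ^ 2 := by
    rw [Nat.card_congr (Subgroup.equivMapOfInjective P.ker R.subtype R.subtype_injective).toEquiv]
    refine h.rank _ ⟨⟨?_⟩⟩ ?_
    · rintro ⟨_, a, -, rfl⟩ ⟨_, b, -, rfl⟩
      exact Subtype.ext (hab a a.2 b b.2)
    · rintro _ ⟨a, ha, rfl⟩
      exact congrArg Subtype.val (MonoidHom.mem_ker.mp ha)
  have hPτ : P.range ≤ τh.ker := by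
    rintro _ ⟨a, rfl⟩
    show τh (a ^ p) = 1
    show Multiplicative.ofAdd (τ ((a ^ p : R) : G)) = 1
    rw [Subgroup.coe_pow, h.tau_pow a.2]
    simp
  have hU : τh.ker = P.range := by
    refine (eq_of_le_of_card_le hPτ ?_).symm
    have e1 : Nat.card R = p ^ 2 * Nat.card τh.ker := by
      rw [Subgroup.card_eq_card_quotient_mul_card_subgroup τh.ker,
        Nat.card_congr (QuotientGroup.quotientKerEquivOfSurjective _ hτsurj).toEquiv, hV]
    have e2 : Nat.card R = Nat.card P.range * Nat.card P.ker := by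
      rw [Subgroup.card_eq_card_quotient_mul_card_subgroup P.ker,
        Nat.card_congr (QuotientGroup.quotientKerEquivRange P).toEquiv]
    have e3 : p ^ 2 * Nat.card τh.ker ≤ p ^ 2 * Nat.card P.range := by
      calc p ^ 2 * Nat.card τh.ker = Nat.card P.range * Nat.card P.ker := by rw [← e1, e2]
        _ ≤ Nat.card P.range * p ^ 2 := Nat.mul_le_mul_left _ hΩle
        _ = p ^ 2 * Nat.card P.range := mul_comm _ _
    exact Nat.le_of_mul_le_mul_left e3 (pow_pos (Fact.out : p.Prime).pos 2)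
  -- the action of a lift of the transvection
  obtain ⟨c₀, hc₀⟩ := h.surj (uMat p)
  obtain ⟨c, hc, hcj⟩ := exists_centralizing_lift h hf hj c₀
  rw [hc₀] at hc
  have hcp : c ^ p = 1 :=
    hK _ (by rw [hR, MonoidHom.mem_ker, map_pow, hc, uMat_pow_p]) ((Commute.pow_left (show Commute c j from hcj) p).eq)
  let φm : R →* R := MonoidHom.mk' (fun r => ⟨c * r * c⁻¹, f.normal_ker.conj_mem r r.2 c⟩)
    (fun a b => Subtype.ext (by simp [mul_assoc]))
  let φ : AddMonoid.End (Additive R) := MonoidHom.toAdditive φm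
  let δ : AddMonoid.End (Additive R) := φ - 1
  have hτδ : ∀ y : Additive R, τ ((Additive.toMul (δ y) : R) : G)
      = ![τ ((Additive.toMul y : R) : G) 1, 0] := by
    intro y
    show τ (((φm (Additive.toMul y)) / Additive.toMul y : R) : G) = _
    rw [div_eq_mul_inv, Subgroup.coe_mul, Subgroup.coe_inv,
      h.add _ (φm _).2 _ (inv_mem (Additive.toMul y).2), h.tau_inv (Additive.toMul y).2]
    show τ (c * _ * c⁻¹) + _ = _
    rw [h.equiv c _ (Additive.toMul y).2, hc]
    ext i
    fin_cases i <;> simp [uMat, Matrix.mulVec, dotProduct]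
  have hp2 : ∀ y : Additive R, ∃ a, δ (δ y) = p • a := by
    intro y
    have : Additive.toMul (δ (δ y)) ∈ P.range := by
      rw [← hU, MonoidHom.mem_ker]
      show Multiplicative.ofAdd (τ ((Additive.toMul (δ (δ y)) : R) : G)) = 1
      rw [hτδ, hτδ]
      simp only [Matrix.cons_val_one, Matrix.cons_val_zero]
      rw [ofAdd_eq_one]
      ext i; fin_cases i <;> simp
    obtain ⟨a, ha⟩ := this
    exact ⟨Additive.ofMul a, ha.symm⟩
  have hδk : ∀ k, 2 ≤ k → ∀ y : Additive R, ∃ a, (δ ^ k) y = p • a := by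
    intro k hk
    induction k, hk using Nat.le_induction with
    | base => intro y; rw [pow_two]; exact hp2 y
    | succ k _ ih =>
      intro y
      obtain ⟨a, ha⟩ := ih y
      refine ⟨δ a, ?_⟩
      rw [pow_succ']
      show δ ((δ ^ k) y) = _
      rw [ha]
      exact map_nsmul δ p a
  have hkey : ∀ y : Additive R, ∃ b, p • δ y = (p * p) • b := by
    intro y
    have hφp : (φ ^ p) y = y := by
      have hiter : ∀ n : ℕ, ((φ ^ n) y) = Additive.ofMul
          (⟨c ^ n * (Additive.toMul y : R) * (c ^ n)⁻¹, f.normal_ker.conj_mem _ (Additive.toMul y).2 _⟩ : R) := by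
        intro n
        induction n with
        | zero => apply Additive.toMul.injective; apply Subtype.ext; simp
        | succ n ih =>
          rw [pow_succ']
          show φ ((φ ^ n) y) = _
          rw [ih]
          apply Additive.toMul.injective
          apply Subtype.ext
          show c * (c ^ n * _ * (c ^ n)⁻¹) * c⁻¹ = c ^ (n + 1) * _ * (c ^ (n + 1))⁻¹
          rw [pow_succ']; group
      rw [hiter]
      apply Additive.toMul.injective
      apply Subtype.ext
      simp [hcp]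
    have hsum : (φ ^ p) y = ∑ m ∈ Finset.range (p + 1), (p.choose m) • (δ ^ m) y := by
      have e : φ = δ + 1 := by simp [δ]
      rw [e, (Commute.one_right δ).add_pow]
      rw [show ∀ (s : Finset ℕ) (g : ℕ → AddMonoid.End (Additive R)), (∑ m ∈ s, g m) y = ∑ m ∈ s, g m y from
        fun s g => map_sum ({ toFun := fun ψ => ψ y, map_zero' := rfl, map_add' := fun _ _ => rfl } :
          AddMonoid.End (Additive R) →+ Additive R) g s]
      refine Finset.sum_congr rfl fun m _ => ?_
      rw [one_pow, mul_one, ← nsmul_one (p.choose m)]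
      simp
    have hp5 : 5 ≤ p := by
      have := h.hp
      by_contra hlt
      have h4 : p = 4 := by omega
      exact absurd (h4 ▸ (Fact.out : p.Prime)) (by norm_num)
    rw [hφp, Finset.sum_range_succ'] at hsum
    obtain ⟨q, hq⟩ : ∃ q, p = q + 1 := ⟨p - 1, by omega⟩
    rw [hq, Finset.sum_range_succ'] at hsum
    rw [← hq] at hsum
    have hterm : ∀ m ∈ Finset.range q, ∃ b, (p.choose (m + 1 + 1)) • (δ ^ (m + 1 + 1)) y = (p * p) • b := by
      intro m hm
      rw [Finset.mem_range] at hm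
      rcases Nat.lt_or_ge (m + 1 + 1) p with hlt | hge
      · obtain ⟨e, he⟩ := (Fact.out : p.Prime).dvd_choose_self (Nat.succ_ne_zero _) hlt
        obtain ⟨a, ha⟩ := hδk (m + 1 + 1) (by omega) y
        refine ⟨e • a, ?_⟩
        rw [he, ha, ← mul_nsmul', ← mul_nsmul']
        congr 1; ring
      · have hmp : m + 1 + 1 = p := by omega
        rw [hmp, Nat.choose_self, one_nsmul]
        obtain ⟨k, hk⟩ : ∃ k, p = 2 + (2 + k) := ⟨p - 4, by omega⟩
        obtain ⟨a, ha⟩ := hp2 ((δ ^ k) y)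
        obtain ⟨b, hb⟩ := hp2 a
        refine ⟨b, ?_⟩
        nth_rw 1 [hk]
        rw [pow_add, pow_add]
        show δ (δ (δ (δ ((δ ^ k) y)))) = _
        rw [ha, map_nsmul δ, map_nsmul δ, hb, ← mul_nsmul']
    choose b hb using hterm
    refine ⟨- ∑ m ∈ (Finset.range q).attach, b m m.2, ?_⟩
    have h0 : (∑ m ∈ Finset.range q, p.choose (m + 1 + 1) • (δ ^ (m + 1 + 1)) y) + p • δ y = 0 := by
      simpa using hsum.symm
    rw [eq_neg_of_add_eq_zero_right h0, smul_neg, Finset.smul_sum, ← Finset.sum_attach]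
    exact congrArg Neg.neg (Finset.sum_congr rfl fun m _ => hb m m.2)
  -- the image of `Ω₁` contains both basis vectors
  intro u hu huτ
  by_contra hne
  obtain ⟨r₀, hr₀, hr₀τ⟩ := h.onto ![0, 1]
  obtain ⟨b, hb⟩ := hkey (Additive.ofMul (⟨r₀, hr₀⟩ : R))
  set ω : R := Additive.toMul (δ (Additive.ofMul (⟨r₀, hr₀⟩ : R)) - p • b) with hω
  have hω1 : ω ^ p = 1 := by
    show Additive.toMul (p • (δ (Additive.ofMul (⟨r₀, hr₀⟩ : R)) - p • b)) = 1
    rw [nsmul_sub, hb, ← mul_nsmul', sub_self]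
    rfl
  have hωτ : τ (ω : G) = ![1, 0] := by
    rw [hω, toMul_sub, div_eq_mul_inv, Subgroup.coe_mul, Subgroup.coe_inv,
      h.add _ (Additive.toMul (δ _)).2 _ (inv_mem (Additive.toMul (p • b)).2),
      h.tau_inv (Additive.toMul (p • b)).2, hτδ, toMul_nsmul, Subgroup.coe_pow,
      h.tau_pow (Additive.toMul b).2]
    simp [hr₀τ]
  obtain ⟨g, hg⟩ := h.surj (wMat p)
  have hω'p : (g * (ω : G) * g⁻¹) ^ p = 1 := by
    rw [conj_pow, ← Subgroup.coe_pow, hω1]; simp
  have hω'τ : τ (g * (ω : G) * g⁻¹) = ![0, 1] := by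
    rw [h.equiv g _ ω.2, hg, hωτ]
    ext i; fin_cases i <;> simp [wMat, Matrix.mulVec, dotProduct]
  have hsurjΩ : Function.Surjective (τh.comp P.ker.subtype) := by
    intro v
    obtain ⟨a, b', hv⟩ : ∃ a b : ℕ, Multiplicative.toAdd v = a • ![(1 : ZMod p), 0] + b • ![(0 : ZMod p), 1] := by
      refine ⟨(Multiplicative.toAdd v 0).val, (Multiplicative.toAdd v 1).val, ?_⟩
      ext i; fin_cases i <;> simp [ZMod.natCast_val, ZMod.cast_id]
    have hω' : (⟨g * (ω : G) * g⁻¹, f.normal_ker.conj_mem _ ω.2 g⟩ : R) ∈ P.ker := Subtype.ext hω'p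
    refine ⟨⟨ω, hω1⟩ ^ a * ⟨_, hω'⟩ ^ b', ?_⟩
    show Multiplicative.ofAdd (τ ((ω : G) ^ a * (g * (ω : G) * g⁻¹) ^ b')) = v
    rw [h.add _ (pow_mem ω.2 a) _ (pow_mem (f.normal_ker.conj_mem _ ω.2 g) b'), h.tau_pow ω.2,
      h.tau_pow (f.normal_ker.conj_mem _ ω.2 g), hωτ, hω'τ, ← hv]
    rfl
  have hbij : Function.Injective (τh.comp P.ker.subtype) := by
    haveI : Finite (Multiplicative (Fin 2 → ZMod p)) := Nat.finite_of_card_ne_zero (by rw [hV]; exact pow_ne_zero _ (Fact.out : p.Prime).ne_zero)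
    exact (Function.Bijective.injective
      ((Nat.bijective_iff_surjective_and_card _).mpr ⟨hsurjΩ,
        le_antisymm (hΩle.trans hV.ge) (Nat.card_le_card_of_surjective _ hsurjΩ)⟩))
  have hu' : (⟨u, hu⟩ : R) ∈ τh.ker := by
    show Multiplicative.ofAdd (τ u) = 1
    rw [huτ]; rfl
  obtain ⟨n, hn⟩ := IsPGroup.iff_orderOf.mp h.pgroup ⟨u, hu⟩
  obtain ⟨n, rfl⟩ : ∃ n', n = n' + 1 := Nat.exists_eq_succ_of_ne_zero (fun h0 => by
    rw [h0, pow_zero, orderOf_eq_one_iff] at hn; exact hne (congrArg Subtype.val hn))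
  have hz1 : (⟨u, hu⟩ : R) ^ p ^ n ∈ P.ker := by
    show ((⟨u, hu⟩ : R) ^ p ^ n) ^ p = 1
    rw [← pow_mul, ← pow_succ, ← hn, pow_orderOf_eq_one]
  have hz2 : τh ((⟨u, hu⟩ : R) ^ p ^ n) = 1 := by rw [map_pow, MonoidHom.mem_ker.mp hu', one_pow]
  have hz3 : (⟨_, hz1⟩ : P.ker) = 1 := hbij (by
    show τh _ = τh _
    exact hz2.trans (_root_.map_one τh).symm)
  have := orderOf_dvd_of_pow_eq_one (congrArg Subtype.val hz3)
  rw [hn] at this
  exact absurd ((Nat.pow_dvd_pow_iff_le_right (Fact.out : p.Prime).one_lt).mp this) (by omega)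

/-- `τ` is injective on the kernel. -/
theorem QdData.eq_one (h : QdData f τ) : ∀ r ∈ f.ker, τ r = 0 → r = 1 := by
  obtain ⟨j, hf, hj⟩ := exists_involution h
  have hjinv : j⁻¹ = j := inv_eq_of_mul_eq_one_right hj
  set R := f.ker with hR
  set K : Subgroup G := R ⊓ centralizer ({j} : Set G) with hKdef
  have hKmem : ∀ k, k ∈ K ↔ k ∈ R ∧ k * j = j * k := fun k =>
    and_congr Iff.rfl mem_centralizer_singleton_iff
  by_cases hK : K = ⊥
  · exact eq_one_of_fixedPointFree h hf hj
      fun r hr hrj => mem_bot.mp (hK ▸ (hKmem r).mpr ⟨hr, hrj⟩)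
  exfalso
  have hKR : K ≤ R := inf_le_left
  have hKp : IsPGroup p K := h.pgroup.to_le hKR
  have hjK : ∀ k ∈ K, j * k * j = k := fun k hk => by
    rw [mul_assoc, ((hKmem k).mp hk).2, ← mul_assoc, hj, one_mul]
  -- an inverted element centralizing `K`
  set Y : Subgroup G := R ⊓ centralizer (K : Set G) with hYdef
  have hYp : IsPGroup p Y := h.pgroup.to_le inf_le_left
  have hjY : ∀ y ∈ Y, j * y * j ∈ Y := by
    intro y hy
    refine ⟨conj_j_mem hj hy.1, mem_centralizer_iff.mpr fun k hk => ?_⟩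
    have h1 := mem_centralizer_iff.mp hy.2 k hk
    have h2 := hjK k hk
    calc k * (j * y * j) = j * (k * y) * j := by nth_rw 1 [← h2]; simp [mul_assoc, hj, ← mul_assoc j j]
      _ = j * y * (j * (j * k * j)) := by rw [h1]; simp [mul_assoc, ← mul_assoc j j, hj]
      _ = j * y * j * k := by rw [h2]; group
  have hsY : ∃ y ∈ Y, y * j ≠ j * y := by
    have hne : K ≠ R := by
      intro he
      obtain ⟨r, hr, hrj⟩ := exists_not_fixed h hf hj
      exact hrj ((hKmem r).mp (he.ge hr)).2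
    have hlt := card_lt_card_inf_normalizer h.pgroup hKR hne
    obtain ⟨r, hr, hrK⟩ := SetLike.exists_of_lt (lt_of_le_of_ne (le_inf hKR le_normalizer)
      (fun he => hlt.ne (congrArg (fun H : Subgroup G => Nat.card H) he)))
    have hrj : r * j ≠ j * r := fun he => hrK ((hKmem r).mpr ⟨hr.1, he⟩)
    have hjN : j ∈ normalizer (K : Set G) := by
      rw [mem_normalizer_iff]
      intro k
      rw [hjinv]
      refine ⟨fun hk => by rwa [hjK k hk], fun hk => ?_⟩
      have := hjK _ hk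
      have e : j * (j * k * j) * j = k := by
        calc j * (j * k * j) * j = (j * j) * k * (j * j) := by group
          _ = k := by rw [hj, one_mul, mul_one]
      rw [e] at this
      rwa [this]
    set s := r⁻¹ * j * r * j with hs
    have hsR : s ∈ R := by
      have := R.mul_mem (R.inv_mem hr.1) (conj_j_mem hj hr.1)
      simpa [hs, mul_assoc] using this
    have hsN : s ∈ normalizer (K : Set G) := mul_mem (mul_mem (mul_mem (inv_mem hr.2) hjN) hr.2) hjN
    have hsinv : j * s * j = s⁻¹ := by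
      rw [hs, mul_inv_rev, mul_inv_rev, mul_inv_rev, inv_inv, hjinv]
      simp [mul_assoc, hj]
    have hs1 : s ≠ 1 := fun he => by
      apply hrj
      have h2 : r⁻¹ * j * r = j := (eq_inv_of_mul_eq_one_left he).trans hjinv
      calc r * j = r * (r⁻¹ * j * r) := by rw [h2]
        _ = j * r := by group
    refine ⟨s, ⟨hsR, mem_centralizer_iff.mpr fun k hk => ?_⟩, fun he => ?_⟩
    · have h2 : Commute (s * s) k := by
        have h3 := hjK _ ((mem_normalizer_iff.mp hsN k).mp hk)
        have h4 : j * (s * k * s⁻¹) * j = s⁻¹ * k * s := by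
          calc j * (s * k * s⁻¹) * j = (j * s * j) * (j * k * j) * (j * s * j)⁻¹ := by
                simp [mul_assoc, hjinv, hj, ← mul_assoc j j]
            _ = s⁻¹ * k * s := by rw [hsinv, hjK k hk, inv_inv]
        rw [h4] at h3
        show s * s * k = k * (s * s)
        calc s * s * k = s * (s * k * s⁻¹) * s := by group
          _ = k * (s * s) := by rw [← h3]; group
      obtain ⟨m, hm⟩ := exists_sqrt_pow h.ne_two h.pgroup hsR
      have h5 : Commute s k := by
        have h6 : s = (s * s) ^ m := by rw [(Commute.refl s).mul_pow, hm]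
        rw [h6]; exact h2.pow_left m
      exact h5.eq.symm
    · apply hs1
      have h7 : j * s * j = s := by rw [mul_assoc, he, ← mul_assoc, hj, one_mul]
      rw [hsinv] at h7
      obtain ⟨m, hm⟩ := exists_sqrt_pow h.ne_two h.pgroup hsR
      have h8 : s * s = 1 := by nth_rw 1 [← h7]; exact inv_mul_cancel s
      rw [← hm, ← (Commute.refl s).mul_pow, h8, one_pow]
  -- `K` is cyclic
  have hYcomm : ∀ v ∈ Y, ∀ a ∈ K, a * v = v * a := fun v hv a ha => mem_centralizer_iff.mp hv.2 a ha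
  have hinvK : ∀ v : G, v ^ p = 1 → j * v * j = v⁻¹ → v ∈ K → v = 1 := by
    intro v hvp hvinv hv
    have h1 : v⁻¹ = v := hvinv.symm.trans (hjK v hv)
    have h2 : v ^ 2 = 1 := by rw [pow_two]; nth_rw 1 [← h1]; exact inv_mul_cancel v
    have h3 := Nat.dvd_gcd (orderOf_dvd_of_pow_eq_one hvp) (orderOf_dvd_of_pow_eq_one h2)
    rw [(Nat.coprime_primes (Fact.out : p.Prime) Nat.prime_two).mpr h.ne_two] at h3
    exact orderOf_eq_one_iff.mp (Nat.dvd_one.mp h3)
  have hcyc : IsCyclic K := by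
    by_contra hnc
    obtain ⟨A, -, hAc, hAe, hAcard⟩ := PGroups.exists_normal_elementary_sq hKp h.ne_two hnc
    obtain ⟨v, hv, hv1, hvinv, hvp, -⟩ := exists_fixed_inverted (x := 1) (m := 0) hYp hj hjY
      (by simp) (by simp) (one_mem _) hsY
    refine false_of_rank_le_two h.rank (E := A.map K.subtype) ?_ ?_ ?_ (v := v) ?_ hvp ?_
    · exact Subgroup.map_isMulCommutative A _
    · rintro _ ⟨a, ha, rfl⟩
      simpa using congrArg Subtype.val (hAe a ha)
    · rw [Subgroup.card_map_of_injective K.subtype_injective, hAcard]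
    · rintro ⟨a, -, rfl⟩; exact hv1 (hinvK _ hvp hvinv a.2)
    · rintro _ ⟨a, -, rfl⟩; exact hYcomm v hv a a.2
  -- lifts centralizing `j` and `K`
  set D : Subgroup G := centralizer ({j} : Set G) ⊓ centralizer (K : Set G) with hD
  have hCK : ∀ c : G, c * j = j * c → ∀ k ∈ K, c * k * c⁻¹ ∈ K := by
    intro c hc k hk
    rw [hKmem] at hk ⊢
    refine ⟨f.normal_ker.conj_mem k hk.1 c, ?_⟩
    have hcc : Commute c j := hc
    exact ((hcc.mul_left hk.2).mul_left hcc.inv_left).eq
  obtain ⟨z₀, hz₀⟩ := hcyc.exists_generator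
  have hcommK : ∀ a b : G, a * j = j * a → b * j = j * b → ⁅a, b⁆ ∈ centralizer (K : Set G) := by
    intro a b ha hb
    have hpow : ∀ c : G, c * j = j * c →
        ∃ n : ℤ, ∀ k ∈ K, c * k * c⁻¹ = k ^ n := by
      intro c hc
      obtain ⟨n, hn⟩ := Subgroup.mem_zpowers_iff.mp (hz₀ ⟨_, hCK c hc z₀ z₀.2⟩)
      refine ⟨n, fun k hk => ?_⟩
      obtain ⟨i, hi⟩ := Subgroup.mem_zpowers_iff.mp (hz₀ ⟨k, hk⟩)
      have hn' : (z₀ : G) ^ n = c * z₀ * c⁻¹ := by rw [← Subgroup.coe_zpow, hn]
      have hi' : (z₀ : G) ^ i = k := by rw [← Subgroup.coe_zpow, hi]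
      rw [← hi', ← conj_zpow, ← hn', ← _root_.zpow_mul, ← _root_.zpow_mul, mul_comm]
    obtain ⟨na, hna⟩ := hpow a ha
    obtain ⟨nb, hnb⟩ := hpow b hb
    refine mem_centralizer_iff.mpr fun k hk => ?_
    have hab : a * b * k * (a * b)⁻¹ = b * a * k * (b * a)⁻¹ := by
      calc a * b * k * (a * b)⁻¹ = a * (b * k * b⁻¹) * a⁻¹ := by group
        _ = (a * k * a⁻¹) ^ nb := by rw [hnb k hk, conj_zpow]
        _ = (k ^ nb) ^ na := by rw [hna k hk, ← _root_.zpow_mul, mul_comm, _root_.zpow_mul]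
        _ = (b * k * b⁻¹) ^ na := by rw [hnb k hk]
        _ = b * (a * k * a⁻¹) * b⁻¹ := by rw [hna k hk, conj_zpow]
        _ = b * a * k * (b * a)⁻¹ := by group
    -- substitute `k ↦ (b a)⁻¹ k (b a)`
    have hk2 : (b * a)⁻¹ * k * (b * a) ∈ K := by
      have := hCK (b * a)⁻¹ (Commute.inv_left (Commute.mul_left (show Commute b j from hb) ha)).eq k hk
      simpa using this
    have hab2 : a * b * ((b * a)⁻¹ * k * (b * a)) * (a * b)⁻¹ = k := by
      have e : ∀ x : G, x ∈ K → a * b * x * (a * b)⁻¹ = b * a * x * (b * a)⁻¹ := by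
        intro x hx
        calc a * b * x * (a * b)⁻¹ = a * (b * x * b⁻¹) * a⁻¹ := by group
          _ = (a * x * a⁻¹) ^ nb := by rw [hnb x hx, conj_zpow]
          _ = (x ^ nb) ^ na := by rw [hna x hx, ← _root_.zpow_mul, mul_comm, _root_.zpow_mul]
          _ = (b * x * b⁻¹) ^ na := by rw [hnb x hx]
          _ = b * (a * x * a⁻¹) * b⁻¹ := by rw [hna x hx, conj_zpow]
          _ = b * a * x * (b * a)⁻¹ := by group
      rw [e _ hk2]; group
    calc k * ⁅a, b⁆ = a * b * ((b * a)⁻¹ * k * (b * a)) * (a * b)⁻¹ * ⁅a, b⁆ := by rw [hab2]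
      _ = ⁅a, b⁆ * k := by rw [commutatorElement_def]; group
  have hDsurj : ∀ g : SL(2, ZMod p), ∃ c ∈ D, f c = g := by
    have hcom : (⊤ : Subgroup SL(2, ZMod p)) ≤ D.map f := by
      rw [← Linear.commutator_SL_eq_top_of_card (ι := Fin 2) (F := ZMod p)
        (Or.inr (by rw [Nat.card_zmod]; have := h.hp; omega)), commutator_eq_closure, closure_le]
      rintro _ ⟨A, B, rfl⟩
      obtain ⟨a₀, rfl⟩ := h.surj A
      obtain ⟨b₀, rfl⟩ := h.surj B
      obtain ⟨a, ha, haj⟩ := exists_centralizing_lift h hf hj a₀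
      obtain ⟨b, hb, hbj⟩ := exists_centralizing_lift h hf hj b₀
      refine ⟨⁅a, b⁆, ⟨?_, hcommK a b haj hbj⟩, by rw [map_commutatorElement, ha, hb]⟩
      have hC : ∀ {y : G}, y * j = j * y → y ∈ centralizer ({j} : Set G) :=
        fun hy => mem_centralizer_singleton_iff.mpr hy
      show ⁅a, b⁆ ∈ centralizer ({j} : Set G)
      rw [commutatorElement_def]
      exact mul_mem (mul_mem (mul_mem (hC haj) (hC hbj)) (inv_mem (hC haj))) (inv_mem (hC hbj))
    intro g
    obtain ⟨c, hc, rfl⟩ := hcom (mem_top g)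
    exact ⟨c, hc, rfl⟩
  obtain ⟨c, hcD, hc⟩ := hDsurj (uMat p)
  have h2ne : (2 : ZMod p) ≠ 0 := by
    simpa using h.natCast_ne_zero (n := 2) (by norm_num) (by norm_num)
  obtain ⟨d, hdD, hd⟩ := hDsurj ⟨!![2, 0; 0, 2⁻¹], by simp [Matrix.det_fin_two, h2ne]⟩
  have hDj : ∀ {y : G}, y ∈ D → y * j = j * y := fun hy => mem_centralizer_singleton_iff.mp hy.1
  have hDK : ∀ {y : G}, y ∈ D → ∀ k ∈ K, k * y = y * k := fun hy k hk =>
    mem_centralizer_iff.mp hy.2 k hk
  set c' := d * c * d⁻¹ with hc'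
  have hc'D : c' ∈ D := mul_mem (mul_mem hdD hcD) (inv_mem hdD)
  set x := c' * c⁻¹ with hx
  have hxD : x ∈ D := mul_mem hc'D (inv_mem hcD)
  have hfc' : f c' = f (c ^ 4) := by
    rw [hc', map_mul, map_mul, map_inv, hc, map_pow, hc]
    have e : f d * uMat p = uMat p ^ 4 * f d := by
      apply Subtype.ext
      rw [Matrix.SpecialLinearGroup.coe_mul, Matrix.SpecialLinearGroup.coe_mul, uMat_pow, hd]
      ext i k
      fin_cases i <;> fin_cases k <;> simp [uMat, Matrix.mul_apply]
      · field_simp; norm_num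
    rw [e, mul_inv_cancel_right]
  have hfx : f x ≠ 1 := by
    rw [hx, map_mul, hfc', map_inv, map_pow, hc, pow_succ, mul_inv_cancel_right]
    intro he
    have := congrArg (fun A : SL(2, ZMod p) => (A : (Matrix (Fin 2) (Fin 2) (ZMod p))) 0 1) he
    simp only [uMat_pow] at this
    exact h.natCast_ne_zero (n := 3) (by norm_num) (by norm_num) (by simpa using this)
  have hcpK : c ^ p ∈ K := (hKmem _).mpr ⟨by rw [hR, MonoidHom.mem_ker, map_pow, hc, uMat_pow_p],
    (Commute.pow_left (show Commute c j from hDj hcD) p).eq⟩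
  have hxp : x ^ p = 1 := by
    have hk : (c ^ 4)⁻¹ * c' ∈ K := (hKmem _).mpr
      ⟨by rw [hR, MonoidHom.mem_ker, map_mul, map_inv, hfc', inv_mul_cancel],
        hDj (mul_mem (inv_mem (pow_mem hcD 4)) hc'D)⟩
    have hcc' : Commute c' c⁻¹ := by
      have h1 : c' = c ^ 4 * ((c ^ 4)⁻¹ * c') := by group
      rw [h1]
      exact ((Commute.pow_self c 4).mul_left (show Commute _ c from hDK hcD _ hk)).inv_right
    rw [hx, hcc'.mul_pow, hc', conj_pow, ← hDK hdD _ hcpK, inv_pow]
    simp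
  have hxY : x ∈ normalizer (Y : Set G) := by
    have hmem : ∀ y ∈ D, ∀ v ∈ Y, y * v * y⁻¹ ∈ Y := by
      intro y hy v hv
      refine ⟨f.normal_ker.conj_mem v hv.1 y, mem_centralizer_iff.mpr fun k hk => ?_⟩
      have e1 : Commute k y := hDK hy k hk
      have e2 : Commute k v := hYcomm v hv k hk
      exact ((e1.mul_right e2).mul_right e1.inv_right).eq
    rw [mem_normalizer_iff]
    refine fun v => ⟨hmem x hxD v, fun hv => ?_⟩
    have := hmem x⁻¹ (inv_mem hxD) _ hv
    simpa [mul_assoc] using this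
  obtain ⟨v, hv, hv1, hvinv, hvp, hxv⟩ := exists_fixed_inverted (x := x) (m := 1) hYp hj hjY
    (hDj hxD) (by rw [pow_one]; exact hxp) hxY hsY
  obtain ⟨z, hzK, hz⟩ := PGroups.exists_orderOf_eq h.pgroup (G := R)
    (H := K.subgroupOf R) (by
      rw [Ne, Subgroup.subgroupOf_eq_bot, disjoint_iff, inf_eq_left.mpr hKR]; exact hK)
  have hzp : (z : G) ^ p = 1 := by
    rw [← Subgroup.coe_pow, ← hz, pow_orderOf_eq_one]; rfl
  have hz1 : (z : G) ≠ 1 := fun he => by
    have : orderOf z = 1 := orderOf_eq_one_iff.mpr (Subtype.ext he)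
    exact (Fact.out : p.Prime).one_lt.ne (this.symm.trans hz)
  have hzK' : (z : G) ∈ K := hzK
  have hcomm : ∀ a ∈ ({(z : G), v} : Set G), ∀ b ∈ ({(z : G), v} : Set G), a * b = b * a := by
    rintro a (ha | ha) b (hb | hb) <;>
      (try simp only [Set.mem_singleton_iff] at ha hb ⊢) <;> rw [ha, hb]
    · exact hYcomm v hv _ hzK'
    · exact (hYcomm v hv _ hzK').symm
  set E := closure ({(z : G), v} : Set G) with hE
  have hEcomm : IsMulCommutative E := isMulCommutative_closure hcomm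
  have hEe : ∀ a ∈ E, a ^ p = 1 := by
    intro a ha
    induction ha using closure_induction with
    | mem a ha =>
      rcases ha with ha | ha
      · rw [ha]; exact hzp
      · rw [Set.mem_singleton_iff.mp ha]; exact hvp
    | one => exact one_pow p
    | mul a b ha hb hap hbp =>
      have : Commute a b := congrArg Subtype.val (hEcomm.is_comm.comm ⟨a, ha⟩ ⟨b, hb⟩)
      rw [this.mul_pow, hap, hbp, one_mul]
    | inv a _ hap => rw [inv_pow, hap, inv_one]
  have hER : E ≤ R := (closure_le R).mpr (by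
    rintro a (rfl | rfl)
    · exact hKR hzK'
    · exact hv.1)
  have hEcard : p ^ 2 ≤ Nat.card E := by
    obtain ⟨e, he⟩ := IsPGroup.iff_card.mp (h.pgroup.to_le hER)
    rw [he]
    refine Nat.pow_le_pow_right (Fact.out : p.Prime).pos ?_
    have h1 : zpowers (z : G) ≤ E := zpowers_le.mpr (subset_closure (Set.mem_insert _ _))
    have hvE : v ∈ E := subset_closure (Set.mem_insert_of_mem _ rfl)
    have h2 : v ∉ zpowers (z : G) := fun hvz => hv1 (hinvK v hvp hvinv (zpowers_le.mpr hzK' hvz))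
    have h3 : Nat.card (zpowers (z : G)) = p := by
      rw [Nat.card_zpowers]; exact orderOf_eq_prime hzp hz1
    have h4 : Nat.card (zpowers (z : G)) < Nat.card E := lt_of_not_ge fun hle =>
      h2 ((eq_of_le_of_card_le h1 hle).ge hvE)
    rw [h3, he] at h4
    by_contra h5
    have h6 : p ^ e ≤ p ^ 1 := Nat.pow_le_pow_right (Fact.out : p.Prime).pos (by omega)
    rw [pow_one] at h6
    omega
  refine false_of_rank_le_two h.rank hEcomm hEe hEcard (v := x)
    (fun hxE => hfx (MonoidHom.mem_ker.mp (hER hxE))) hxp fun a ha => ?_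
  have hsub : E ≤ centralizer ({x} : Set G) := (closure_le _).mpr (by
    rintro a (rfl | rfl)
    · exact mem_centralizer_singleton_iff.mpr (hDK hxD _ hzK')
    · exact mem_centralizer_singleton_iff.mpr hxv.symm)
  exact mem_centralizer_singleton_iff.mp (hsub ha)

end Cfsg.Agent.H48
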