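import Cfsg.Prelude.Def_PLocal
import Cfsg.Agent.H48.QdMain
import Cfsg.Agent.Cores.PCore
import Mathlib.GroupTheory.Frattini

/-!
# `Qd(p)`, and the sections of a `p`-rank two group isomorphic to it

For `p > 3`: if a group of `p`-rank at most two maps onto `Qd(p)` with a `p`-group kernel, the map is
injective; so a `Qd(p)` section can be realised with a kernel of order prime to `p`.
-/

set_option autoImplicit false
set_option linter.unusedSectionVars false

namespace Cfsg.Agent.H48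

open Subgroup
open scoped MatrixGroups

variable {p : ℕ} [Fact p.Prime]

theorem mem_qd_iff (M : SL(3, ZMod p)) :
    M ∈ Cfsg.qd p ↔ (M : Matrix (Fin 3) (Fin 3) (ZMod p)) 2 0 = 0 ∧
      (M : Matrix (Fin 3) (Fin 3) (ZMod p)) 2 1 = 0 ∧
      (M : Matrix (Fin 3) (Fin 3) (ZMod p)) 2 2 = 1 := by
  refine ⟨fun h => ?_, fun h => subset_closure h⟩
  let S : Submonoid SL(3, ZMod p) :=
    { carrier := {M | (M : Matrix (Fin 3) (Fin 3) (ZMod p)) 2 0 = 0 ∧
        (M : Matrix (Fin 3) (Fin 3) (ZMod p)) 2 1 = 0 ∧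
        (M : Matrix (Fin 3) (Fin 3) (ZMod p)) 2 2 = 1}
      one_mem' := by simp
      mul_mem' := by
        rintro A B ⟨a0, a1, a2⟩ ⟨b0, b1, b2⟩
        simp [Matrix.mul_apply, Fin.sum_univ_three, a0, a1, a2, b0, b1, b2] }
  show M ∈ S
  induction h using closure_induction with
  | mem x hx => exact hx
  | one => exact S.one_mem
  | mul x y _ _ hx hy => exact S.mul_mem hx hy
  | inv x _ hx =>
    obtain ⟨n, hn⟩ := (isOfFinOrder_of_finite x).mem_powers_iff_mem_zpowers.mpr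
      (inv_mem (mem_zpowers x))
    rw [← hn]
    exact S.pow_mem hx n

/-- The upper left `2 × 2` block. -/
noncomputable def qdBlock (p : ℕ) [Fact p.Prime] : ↥(Cfsg.qd p) →* SL(2, ZMod p) where
  toFun M := ⟨!![((M : SL(3, ZMod p)) : Matrix (Fin 3) (Fin 3) (ZMod p)) 0 0,
      ((M : SL(3, ZMod p)) : Matrix (Fin 3) (Fin 3) (ZMod p)) 0 1;
      ((M : SL(3, ZMod p)) : Matrix (Fin 3) (Fin 3) (ZMod p)) 1 0,
      ((M : SL(3, ZMod p)) : Matrix (Fin 3) (Fin 3) (ZMod p)) 1 1], by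
    obtain ⟨h0, h1, h2⟩ := (mem_qd_iff _).mp M.2
    have h := (M : SL(3, ZMod p)).2
    rw [Matrix.det_fin_three, h0, h1, h2] at h
    rw [Matrix.det_fin_two]
    simp only [Matrix.of_apply, Matrix.cons_val', Matrix.cons_val_zero, Matrix.cons_val_one,
      Matrix.empty_val', Matrix.cons_val_fin_one]
    linear_combination h⟩
  map_one' := by
    apply Subtype.ext
    ext i j
    fin_cases i <;> fin_cases j <;> simp
  map_mul' A B := by
    obtain ⟨b0, b1, b2⟩ := (mem_qd_iff _).mp B.2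
    apply Subtype.ext
    show (_ : Matrix (Fin 2) (Fin 2) (ZMod p)) = (_ : Matrix (Fin 2) (Fin 2) (ZMod p)) * (_ : Matrix (Fin 2) (Fin 2) (ZMod p))
    ext i j
    fin_cases i <;> fin_cases j <;>
      simp [Matrix.mul_apply, Fin.sum_univ_three, Fin.sum_univ_two, b0, b1]

theorem coe_qdBlock (M : ↥(Cfsg.qd p)) :
    ((qdBlock p M : SL(2, ZMod p)) : Matrix (Fin 2) (Fin 2) (ZMod p)) =
      !![((M : SL(3, ZMod p)) : Matrix (Fin 3) (Fin 3) (ZMod p)) 0 0,
        ((M : SL(3, ZMod p)) : Matrix (Fin 3) (Fin 3) (ZMod p)) 0 1;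
        ((M : SL(3, ZMod p)) : Matrix (Fin 3) (Fin 3) (ZMod p)) 1 0,
        ((M : SL(3, ZMod p)) : Matrix (Fin 3) (Fin 3) (ZMod p)) 1 1] := rfl

/-- The affine transformation `(g, v)` as an element of `Qd(p)`. -/
def qdMk (g : SL(2, ZMod p)) (v : Fin 2 → ZMod p) : ↥(Cfsg.qd p) :=
  ⟨⟨!![(g : Matrix (Fin 2) (Fin 2) (ZMod p)) 0 0, (g : Matrix (Fin 2) (Fin 2) (ZMod p)) 0 1, v 0;
      (g : Matrix (Fin 2) (Fin 2) (ZMod p)) 1 0, (g : Matrix (Fin 2) (Fin 2) (ZMod p)) 1 1, v 1;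
      0, 0, 1], by
    have h := g.2
    rw [Matrix.det_fin_two] at h
    rw [Matrix.det_fin_three]
    simp
    linear_combination h⟩, (mem_qd_iff _).mpr (by simp)⟩

/-- The translation part. -/
def qdVec (M : ↥(Cfsg.qd p)) : Fin 2 → ZMod p :=
  ![((M : SL(3, ZMod p)) : Matrix (Fin 3) (Fin 3) (ZMod p)) 0 2,
    ((M : SL(3, ZMod p)) : Matrix (Fin 3) (Fin 3) (ZMod p)) 1 2]

theorem qdBlock_qdMk (g : SL(2, ZMod p)) (v : Fin 2 → ZMod p) : qdBlock p (qdMk g v) = g := by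
  apply Subtype.ext
  ext i j
  fin_cases i <;> fin_cases j <;> simp [coe_qdBlock, qdMk]

theorem qdVec_qdMk (g : SL(2, ZMod p)) (v : Fin 2 → ZMod p) : qdVec (qdMk g v) = v := by
  ext i; fin_cases i <;> simp [qdVec, qdMk]

theorem entries_of_qdBlock_eq_one {M : ↥(Cfsg.qd p)} (h : qdBlock p M = 1) :
    ((M : SL(3, ZMod p)) : Matrix (Fin 3) (Fin 3) (ZMod p)) 0 0 = 1 ∧
    ((M : SL(3, ZMod p)) : Matrix (Fin 3) (Fin 3) (ZMod p)) 0 1 = 0 ∧
    ((M : SL(3, ZMod p)) : Matrix (Fin 3) (Fin 3) (ZMod p)) 1 0 = 0 ∧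
    ((M : SL(3, ZMod p)) : Matrix (Fin 3) (Fin 3) (ZMod p)) 1 1 = 1 := by
  have e := fun i j => congrArg (fun A : SL(2, ZMod p) => (A : Matrix (Fin 2) (Fin 2) (ZMod p)) i j) h
  have e00 := e 0 0
  have e01 := e 0 1
  have e10 := e 1 0
  have e11 := e 1 1
  simp [coe_qdBlock] at e00 e01 e10 e11
  exact ⟨e00, e01, e10, e11⟩

theorem qdVec_mul {A B : ↥(Cfsg.qd p)} (hA : qdBlock p A = 1) :
    qdVec (A * B) = qdVec A + qdVec B := by
  obtain ⟨a00, a01, a10, a11⟩ := entries_of_qdBlock_eq_one hA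
  obtain ⟨b0, b1, b2⟩ := (mem_qd_iff _).mp B.2
  ext i
  fin_cases i <;> simp [qdVec, Matrix.mul_apply, Fin.sum_univ_three, a00, a01, a10, a11, b2, add_comm]

theorem qdVec_conj {A M : ↥(Cfsg.qd p)} (hA : qdBlock p A = 1) :
    qdVec (M * A * M⁻¹)
      = ((qdBlock p M : SL(2, ZMod p)) : Matrix (Fin 2) (Fin 2) (ZMod p)).mulVec (qdVec A) := by
  have hN : qdBlock p (M * A * M⁻¹) = 1 := by
    rw [map_mul, map_mul, hA, mul_one, map_inv, mul_inv_cancel]
  obtain ⟨m0, m1, m2⟩ := (mem_qd_iff _).mp M.2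
  obtain ⟨-, -, a2⟩ := (mem_qd_iff _).mp A.2
  have h1 : qdVec (M * A) = qdVec (M * A * M⁻¹) + qdVec M := by
    rw [← qdVec_mul hN, inv_mul_cancel_right]
  rw [eq_sub_of_add_eq h1.symm]
  ext i
  fin_cases i <;>
    simp [qdVec, coe_qdBlock, Matrix.mulVec, dotProduct, Matrix.mul_apply, Fin.sum_univ_three,
      Fin.sum_univ_two, a2]

theorem eq_one_of_qd {M : ↥(Cfsg.qd p)} (h : qdBlock p M = 1) (hv : qdVec M = 0) : M = 1 := by
  obtain ⟨a00, a01, a10, a11⟩ := entries_of_qdBlock_eq_one h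
  obtain ⟨b0, b1, b2⟩ := (mem_qd_iff _).mp M.2
  have v0 := congrFun hv 0
  have v1 := congrFun hv 1
  simp [qdVec] at v0 v1
  apply Subtype.ext; apply Subtype.ext
  ext i j
  fin_cases i <;> fin_cases j <;> simp [a00, a01, a10, a11, b0, b1, b2, v0, v1]

theorem qdVec_pow {A : ↥(Cfsg.qd p)} (hA : qdBlock p A = 1) (n : ℕ) :
    qdVec (A ^ n) = n • qdVec A := by
  induction n with
  | zero => ext i; fin_cases i <;> simp [qdVec]
  | succ n ih => rw [pow_succ', qdVec_mul hA, ih, succ_nsmul', ]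

/-- **The kernel theorem.** -/
theorem ker_eq_bot_of_qd {G : Type*} [Group G] [Finite G] (hp : 3 < p) (ψ : G →* ↥(Cfsg.qd p))
    (hs : Function.Surjective ψ) (hk : IsPGroup p ψ.ker) (hr : Cfsg.PRankLE p 2 G) :
    ψ.ker = ⊥ := by
  have hblock : ∀ {g : G}, g ∈ ((qdBlock p).comp ψ).ker → qdBlock p (ψ g) = 1 := fun hg => hg
  have hfix : ∀ {g : G}, g ∈ ((qdBlock p).comp ψ).ker → g ^ p ∈ ψ.ker := by
    intro g hg
    rw [MonoidHom.mem_ker, map_pow]
    refine eq_one_of_qd ?_ ?_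
    · rw [map_pow, hblock hg, one_pow]
    · rw [qdVec_pow (hblock hg)]; simp
  have h : QdData ((qdBlock p).comp ψ) (fun g => qdVec (ψ g)) :=
    { hp := hp
      surj := fun g => by
        obtain ⟨x, hx⟩ := hs (qdMk g 0)
        exact ⟨x, by simp [hx, qdBlock_qdMk]⟩
      pgroup := fun r => by
        obtain ⟨n, hn⟩ := hk ⟨(r : G) ^ p, hfix r.2⟩
        refine ⟨n + 1, Subtype.ext ?_⟩
        have := congrArg Subtype.val hn
        simp only [Subgroup.coe_pow, OneMemClass.coe_one] at this ⊢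
        rwa [pow_succ', pow_mul]
      add := fun r hr s _ => by rw [map_mul]; exact qdVec_mul (hblock hr)
      equiv := fun g r hr => by rw [map_mul, map_mul, map_inv]; exact qdVec_conj (hblock hr)
      onto := fun v => by
        obtain ⟨x, hx⟩ := hs (qdMk 1 v)
        exact ⟨x, by simp [MonoidHom.mem_ker, hx, qdBlock_qdMk], by rw [hx, qdVec_qdMk]⟩
      rank := hr }
  rw [eq_bot_iff]
  intro g hg
  rw [MonoidHom.mem_ker] at hg
  refine Subgroup.mem_bot.mpr (h.eq_one g ?_ ?_)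
  · simp [MonoidHom.mem_ker, hg]
  · show qdVec (ψ g) = 0
    rw [hg]; ext i; fin_cases i <;> simp [qdVec]

variable {G : Type*} [Group G] [Finite G]

/-- The `p`-rank does not grow modulo a normal subgroup of order prime to `p`. -/
theorem pRankLE_quotient {k : ℕ} (hr : Cfsg.PRankLE p k G) {M : Subgroup G} [M.Normal]
    (hM : (Nat.card M).Coprime p) : Cfsg.PRankLE p k (G ⧸ M) := by
  intro A hAc hAe
  obtain ⟨n, hn⟩ : ∃ n, Nat.card A = p ^ n := by
    refine IsPGroup.iff_card.mp fun a => ⟨1, Subtype.ext ?_⟩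
    simpa using hAe a a.2
  set B := A.comap (QuotientGroup.mk' M) with hB
  have hMB : M ≤ B := fun m hm => by
    rw [hB, mem_comap, QuotientGroup.mk'_apply, (QuotientGroup.eq_one_iff m).mpr hm]; exact one_mem _
  have hcB : Nat.card B = Nat.card A * Nat.card M := by
    let φ : B →* A := MonoidHom.mk' (fun b => ⟨QuotientGroup.mk' M (b : G), b.2⟩)
      (fun a b => Subtype.ext (map_mul _ _ _))
    have hφ : Function.Surjective φ := fun a => by
      obtain ⟨g, hg⟩ := QuotientGroup.mk'_surjective M (a : G ⧸ M)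
      exact ⟨⟨g, by rw [hB, mem_comap, hg]; exact a.2⟩, Subtype.ext hg⟩
    have hk : φ.ker = M.subgroupOf B := by
      ext b
      rw [MonoidHom.mem_ker, mem_subgroupOf, ← QuotientGroup.eq_one_iff]
      exact ⟨fun h => congrArg Subtype.val h, fun h => Subtype.ext h⟩
    rw [Subgroup.card_eq_card_quotient_mul_card_subgroup φ.ker,
      Nat.card_congr (QuotientGroup.quotientKerEquivOfSurjective φ hφ).toEquiv, hk,
      Nat.card_congr (Subgroup.subgroupOfEquivOfLe hMB).toEquiv]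
  obtain ⟨P, hP, -⟩ := exists_isSylowIn_ge (p := p) (H := B) (IsPGroup.of_bot) bot_le
  have hPc : Nat.card P = p ^ n := by
    obtain ⟨m, hm⟩ := IsPGroup.iff_card.mp hP.isPGroup
    have hidx := Subgroup.card_mul_index (P.subgroupOf B)
    rw [Nat.card_congr (Subgroup.subgroupOfEquivOfLe hP.le).toEquiv, hm, hcB, hn] at hidx
    have h1 : p ^ n ∣ p ^ m := by
      refine (Nat.Coprime.dvd_of_dvd_mul_right (Nat.Coprime.pow_left n ?_) (Dvd.intro _ hidx.symm))
      exact (Fact.out : p.Prime).coprime_iff_not_dvd.mpr hP.ndvd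
    have h2 : p ^ m ∣ p ^ n :=
      Nat.Coprime.dvd_of_dvd_mul_right (Nat.Coprime.pow_left m hM.symm) ⟨_, hidx.symm⟩
    rw [hm, Nat.dvd_antisymm h2 h1]
  have hinj : ∀ a ∈ P, ∀ b ∈ P, QuotientGroup.mk' M a = QuotientGroup.mk' M b → a = b := by
    intro a ha b hb hab
    have h1 : a⁻¹ * b ∈ P ⊓ M := mem_inf.mpr ⟨mul_mem (inv_mem ha) hb, QuotientGroup.eq.mp hab⟩
    have hbot : P ⊓ M = ⊥ := Coprime.inf_eq_bot (hPc ▸ Nat.Coprime.pow_left n hM.symm)
    rw [hbot, mem_bot] at h1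
    exact inv_mul_eq_one.mp h1
  have hPA : ∀ a ∈ P, QuotientGroup.mk' M a ∈ A := fun a ha => hP.le ha
  rw [hn, ← hPc]
  refine hr P ⟨⟨fun a b => Subtype.ext (hinj _ (mul_mem a.2 b.2) _ (mul_mem b.2 a.2) ?_)⟩⟩
    fun a ha => hinj _ (pow_mem ha p) _ (one_mem P) (by rw [map_pow, map_one, hAe _ (hPA a ha)])
  simp only [Subgroup.coe_mul, map_mul]
  exact congrArg Subtype.val (hAc.is_comm.comm ⟨_, hPA a a.2⟩ ⟨_, hPA b b.2⟩)

/-- **A `Qd(p)` section can be taken with a `p'`-kernel.** -/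
theorem exists_p_prime_qd_section (hp : 3 < p) (hr : Cfsg.PRankLE p 2 G) {H₀ : Subgroup G}
    (ψ₀ : H₀ →* ↥(Cfsg.qd p)) (hψ₀ : Function.Surjective ψ₀) :
    ∃ (H : Subgroup G) (ψ : H →* ↥(Cfsg.qd p)), Function.Surjective ψ ∧
      (Nat.card ψ.ker).Coprime p := by
  obtain ⟨H, ⟨ψ, hψ⟩, hmin⟩ := Finset.exists_min_image
    (Set.toFinite {H : Subgroup G | ∃ ψ : H →* ↥(Cfsg.qd p), Function.Surjective ψ}).toFinset
    (fun H : Subgroup G => Nat.card H) ⟨H₀, by simpa using ⟨ψ₀, hψ₀⟩⟩ |>.imp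
      (fun H h => And.intro ((Set.Finite.mem_toFinset _).mp h.1) h.2)
  refine ⟨H, ψ, hψ, ?_⟩
  set N := ψ.ker with hN
  have hNΦ : N ≤ frattini H := by
    refine le_iInf₂ fun M hM => ?_
    by_contra hc
    have hsup : M ⊔ N = ⊤ := hM.2 _ (lt_of_le_of_ne le_sup_left fun he => hc (he ▸ le_sup_right))
    let e := Subgroup.equivMapOfInjective M H.subtype H.subtype_injective
    have hs : Function.Surjective ((ψ.comp M.subtype).comp e.symm.toMonoidHom) := by
      intro q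
      obtain ⟨x, rfl⟩ := hψ q
      obtain ⟨m, hm, k, hk, rfl⟩ : ∃ m ∈ M, ∃ k ∈ N, m * k = x := by
        have := (hsup.ge (mem_top x))
        rwa [← SetLike.mem_coe, Subgroup.mul_normal, Set.mem_mul] at this
      exact ⟨e ⟨m, hm⟩, by simp [MonoidHom.mem_ker.mp hk]⟩
    have h1 := hmin (M.map H.subtype) ((Set.Finite.mem_toFinset _).mpr ⟨_, hs⟩)
    rw [Subgroup.card_map_of_injective H.subtype_injective] at h1
    exact hM.1 (Subgroup.eq_top_of_le_card _ h1)
  haveI hnil : Group.IsNilpotent N := by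
    haveI := frattini_nilpotent (G := H)
    exact (Group.isNilpotent_congr (Subgroup.subgroupOfEquivOfLe hNΦ)).mp inferInstance
  set M0 := Cfsg.pPrimeCore p N with hM0
  haveI : (M0.map N.subtype).Normal := inferInstance
  set M := M0.map N.subtype with hM
  have hMc : (Nat.card M).Coprime p := by
    rw [hM, Subgroup.card_map_of_injective N.subtype_injective]
    exact Cores.coprime_card_pPrimeCore
  have hMN : M ≤ N := map_subtype_le _
  have hidx : ∃ k, M0.index = p ^ k := by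
    by_cases h1 : M0.index = 1
    · exact ⟨0, by rw [h1, pow_zero]⟩
    refine ⟨_, Nat.eq_prime_pow_of_unique_prime_dvd Subgroup.index_ne_zero_of_finite ?_⟩
    intro q hq hdvd
    by_contra hqp
    haveI := Fact.mk hq
    obtain ⟨Q⟩ := (inferInstance : Nonempty (Sylow q N))
    have hQn : (Q : Subgroup N).Normal :=
      Sylow.normal_of_normalizerCondition Group.normalizerCondition_of_isNilpotent Q
    haveI := hQn
    have hQM : (Q : Subgroup N) ≤ M0 := Cores.le_pPrimeCore (by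
      obtain ⟨k, hk⟩ := IsPGroup.iff_card.mp Q.isPGroup'
      rw [hk]
      exact Nat.Coprime.pow_left k ((Nat.coprime_primes hq Fact.out).mpr hqp))
    exact Q.not_dvd_index (hdvd.trans (Subgroup.index_dvd_of_le hQM))
  obtain ⟨k, hk⟩ := hidx
  let ψ' : H ⧸ M →* ↥(Cfsg.qd p) := QuotientGroup.lift M ψ hMN
  have hs' : Function.Surjective ψ' := fun q => by
    obtain ⟨x, hx⟩ := hψ q; exact ⟨QuotientGroup.mk x, hx⟩
  have hker : IsPGroup p ψ'.ker := by
    rintro ⟨q, hq⟩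
    obtain ⟨x, rfl⟩ := QuotientGroup.mk_surjective q
    refine ⟨k, Subtype.ext ?_⟩
    have hx : x ∈ N := hq
    have h1 : (⟨x, hx⟩ : N) ^ p ^ k ∈ M0 := hk ▸ Subgroup.pow_index_mem M0 _
    show (QuotientGroup.mk x : H ⧸ M) ^ p ^ k = 1
    rw [← QuotientGroup.mk_pow, QuotientGroup.eq_one_iff]
    exact ⟨_, h1, by simp⟩
  have hbot := ker_eq_bot_of_qd hp ψ' hs' hker
    (pRankLE_quotient (fun A hA he => by
      have := hr (A.map H.subtype) (Subgroup.map_isMulCommutative A _) (by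
        rintro _ ⟨a, ha, rfl⟩; simpa using congrArg Subtype.val (he a ha))
      rwa [Subgroup.card_map_of_injective H.subtype_injective] at this) hMc)
  have hNM : N ≤ M := fun x hx => by
    rw [← QuotientGroup.eq_one_iff, ← Subgroup.mem_bot, ← hbot, MonoidHom.mem_ker]
    exact hx
  rwa [le_antisymm hNM hMN]

end Cfsg.Agent.H48
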