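import Cfsg.Agent.H48.WellPlaced
import Mathlib.GroupTheory.Focal

/-!
# From local to global control of fusion and of transfer
-/

set_option autoImplicit false
set_option linter.unusedSectionVars false

namespace Cfsg.Agent.H48

open Subgroup
open scoped commutatorElement

variable {G : Type*} [Group G]

/-- The image of `A` under `a ↦ g a g⁻¹`. -/
abbrev limg (A : Set G) (g : G) : Set G := (fun a => g * a * g⁻¹) '' A

theorem limg_limg (A : Set G) (g h : G) : limg (limg A g) h = limg A (h * g) := by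
  simp only [limg, Set.image_image]
  exact Set.image_congr' fun a => by group

theorem limg_one (A : Set G) : limg A 1 = A := by simp [limg]

theorem limg_congr {A : Set G} {g h : G} (e : ∀ a ∈ A, g * a * g⁻¹ = h * a * h⁻¹) :
    limg A g = limg A h := Set.image_congr e

/-- `a ↦ g a g⁻¹` on `A` is a composite of conjugations by elements of `M`, staying in `T`. -/
inductive Steps (M : Set G) (T : Set G) : Set G → G → Prop
  | nil (A : Set G) (hA : A ⊆ T) : Steps M T A 1
  | cons (A : Set G) (x g : G) (hA : A ⊆ T) (hx : x ∈ M) (h : Steps M T (limg A x) g) :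
      Steps M T A (g * x)

variable {M : Set G} {T : Set G}

theorem Steps.subset {A : Set G} {g : G} (h : Steps M T A g) : A ⊆ T := by
  cases h with
  | nil _ hA => exact hA
  | cons _ _ _ hA _ _ => exact hA

theorem Steps.subset_limg {A : Set G} {g : G} (h : Steps M T A g) : limg A g ⊆ T := by
  induction h with
  | nil A hA => rwa [limg_one]
  | cons A x g hA hx h ih => rwa [← limg_limg]

theorem Steps.trans {A : Set G} {g : G} (h : Steps M T A g) :
    ∀ {k : G}, Steps M T (limg A g) k → Steps M T A (k * g) := by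
  induction h with
  | nil A hA => intro k hk; rw [limg_one] at hk; rwa [mul_one]
  | cons A x g hA hx h ih =>
    intro k hk
    rw [← mul_assoc]
    exact Steps.cons A x _ hA hx (ih (by rwa [limg_limg]))

theorem Steps.mono {A : Set G} {g : G} (h : Steps M T A g) :
    ∀ {B : Set G}, B ⊆ A → Steps M T B g := by
  induction h with
  | nil A hA => intro B hB; exact Steps.nil B (hB.trans hA)
  | cons A x g hA hx h ih =>
    intro B hB
    exact Steps.cons B x g (hB.trans hA) hx (ih (Set.image_mono hB))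

theorem Steps.to_def {A : Set G} {g : G} (h : Steps M T A g) :
    ∃ (n : ℕ) (c : Fin (n + 1) → G), c 0 = 1 ∧
      (∀ i : Fin n, c i.succ * (c i.castSucc)⁻¹ ∈ M) ∧
      (∀ i : Fin (n + 1), (fun a => c i * a * (c i)⁻¹) '' A ⊆ T) ∧ c (Fin.last n) = g := by
  induction h with
  | nil A hA => exact ⟨0, fun _ => 1, rfl, fun i => i.elim0, fun _ => by simpa using hA, rfl⟩
  | cons A x g hA hx h ih =>
    obtain ⟨n, c, h0, hs, hi, hl⟩ := ih
    refine ⟨n + 1, Fin.cons 1 (fun i => c i * x), rfl, ?_, ?_, ?_⟩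
    · refine Fin.cases ?_ (fun i => ?_)
      · simpa [h0] using hx
      · have := hs i
        simpa [mul_assoc] using this
    · refine Fin.cases ?_ (fun i => ?_)
      · simpa using hA
      · have := hi i
        rw [show limg A x = (fun a => x * a * x⁻¹) '' A from rfl, Set.image_image] at this
        simpa [mul_assoc] using this
    · rw [← Fin.succ_last, Fin.cons_succ, hl]

theorem Steps.of_def : ∀ (n : ℕ) (A : Set G) (c : Fin (n + 1) → G), c 0 = 1 →
    (∀ i : Fin n, c i.succ * (c i.castSucc)⁻¹ ∈ M) →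
    (∀ i : Fin (n + 1), (fun a => c i * a * (c i)⁻¹) '' A ⊆ T) →
    Steps M T A (c (Fin.last n)) := by
  intro n
  induction n with
  | zero =>
    intro A c h0 _ hi
    have h2 : c (Fin.last 0) = 1 := h0
    rw [h2]
    exact Steps.nil A (by simpa [h0] using hi 0)
  | succ n ih =>
    intro A c h0 hs hi
    have h1 : c 1 ∈ M := by simpa [h0] using hs 0
    have := ih (limg A (c 1)) (fun i => c i.succ * (c 1)⁻¹) (by simp) (fun i => by
      have := hs i.succ
      simpa [mul_assoc, Fin.castSucc_succ] using this) (fun i => by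
      rw [show limg A (c 1) = (fun a => c 1 * a * (c 1)⁻¹) '' A from rfl, Set.image_image]
      refine Eq.trans_subset (Set.image_congr' fun a => ?_) (hi i.succ)
      group)
    have h2 := Steps.cons A (c 1) _ (by simpa [h0] using hi 0) h1 this
    simpa [mul_assoc, Fin.succ_last] using h2

/-- `a ↦ h a h⁻¹` on `A` agrees with a composite of steps. -/
def Agree (M T A : Set G) (h : G) : Prop :=
  ∃ g, Steps M T A g ∧ ∀ a ∈ A, g * a * g⁻¹ = h * a * h⁻¹

theorem Agree.trans {A : Set G} {h k : G} (h1 : Agree M T A h) (h2 : Agree M T (limg A h) k) :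
    Agree M T A (k * h) := by
  obtain ⟨g, hg, e⟩ := h1
  obtain ⟨g', hg', e'⟩ := h2
  refine ⟨g' * g, hg.trans (by rwa [limg_congr e]), fun a ha => ?_⟩
  calc g' * g * a * (g' * g)⁻¹ = g' * (g * a * g⁻¹) * g'⁻¹ := by group
    _ = g' * (h * a * h⁻¹) * g'⁻¹ := by rw [e a ha]
    _ = k * (h * a * h⁻¹) * k⁻¹ := e' _ ⟨a, ha, rfl⟩
    _ = k * h * a * (k * h)⁻¹ := by group

theorem Agree.mono {A B : Set G} {h : G} (h1 : Agree M T A h) (hB : B ⊆ A) : Agree M T B h := by
  obtain ⟨g, hg, e⟩ := h1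
  exact ⟨g, hg.mono hB, fun a ha => e a (hB ha)⟩

theorem limg_coe (U : Subgroup G) (g : G) : limg (U : Set G) g = ((cj g U : Subgroup G) : Set G) :=
  (Subgroup.coe_map (MulAut.conj g).toMonoidHom U).symm

theorem coe_subset_one_of_eq_bot {A : Set G} {U : Subgroup G} (hA : A ⊆ U) (hU : U = ⊥)
    {a : G} (ha : a ∈ A) : a = 1 := Subgroup.mem_bot.mp (hU ▸ hA ha)

variable [Finite G] {p : ℕ} [Fact p.Prime]

/-- Downward induction over a Sylow `p`-subgroup: a property `Φ` of the local subgroups and a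
relation `Rel` extended to all of the fusion in `S`. -/
theorem local_induction (P : Sylow p G) (Rel : Set G → G → Prop) (Φ : Subgroup G → Prop)
    (htrans : ∀ A h k, Rel A h → Rel (limg A h) k → Rel A (k * h))
    (hmono : ∀ A B h, Rel A h → B ⊆ A → Rel B h)
    (hgood : ∀ V : Subgroup G, V ≤ (P : Subgroup G) → V ≠ ⊥ →
      IsSylowIn p ((P : Subgroup G) ⊓ normalizer (V : Set G)) (normalizer (V : Set G)) →
      (∀ V₂ : Subgroup G, V₂ ≤ (P : Subgroup G) → V₂ ≠ ⊥ →
        Nat.card ↥((P : Subgroup G) ⊓ normalizer (V : Set G))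
          < Nat.card ↥((P : Subgroup G) ⊓ normalizer (V₂ : Set G)) → Φ V₂) → Φ V)
    (hΦ : ∀ V : Subgroup G, V ≤ (P : Subgroup G) → V ≠ ⊥ →
      IsSylowIn p ((P : Subgroup G) ⊓ normalizer (V : Set G)) (normalizer (V : Set G)) → Φ V →
      ∀ (A : Set G) (y : G), y ∈ normalizer (V : Set G) →
        A ⊆ ((P : Subgroup G) ⊓ normalizer (V : Set G) : Subgroup G) →
        limg A y ⊆ ((P : Subgroup G) ⊓ normalizer (V : Set G) : Subgroup G) → Rel A y)
    (hmove : ∀ (V : Subgroup G) (h : G), V ≤ (P : Subgroup G) → V ≠ ⊥ →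
      cj h ((P : Subgroup G) ⊓ normalizer (V : Set G))
        ≤ (P : Subgroup G) ⊓ normalizer ((cj h V : Subgroup G) : Set G) →
      IsSylowIn p ((P : Subgroup G) ⊓ normalizer ((cj h V : Subgroup G) : Set G))
        (normalizer ((cj h V : Subgroup G) : Set G)) →
      Rel (((P : Subgroup G) ⊓ normalizer (V : Set G) : Subgroup G) : Set G) h →
      Rel ((cj h ((P : Subgroup G) ⊓ normalizer (V : Set G)) : Subgroup G) : Set G) h⁻¹ →
      Φ (cj h V) → Φ V) :
    (∀ T : Subgroup G, T ≤ (P : Subgroup G) → T ≠ ⊥ → ∀ g : G, cj g T ≤ (P : Subgroup G) →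
      Rel (T : Set G) g) ∧
    ∀ V : Subgroup G, V ≤ (P : Subgroup G) → V ≠ ⊥ → Φ V := by
  set S : Subgroup G := (P : Subgroup G) with hSdef
  have hS : IsPGroup p S := P.isPGroup'
  have hid : Cfsg.IsConjugacyFunctor p (id : Subgroup G → Subgroup G) :=
    fun Q _ => ⟨le_rfl, fun h => h, fun g => rfl⟩
  -- every nontrivial subgroup moves to one with Sylow normalizer, taking `N_S` along
  have move : ∀ T : Subgroup G, T ≤ S → ∀ U : Subgroup G, (∃ k, cj k T = U) →
      IsSylowIn p (S ⊓ normalizer (U : Set G)) (normalizer (U : Set G)) →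
      ∃ h : G, cj h T = U ∧ cj h (S ⊓ normalizer (T : Set G)) ≤ S ⊓ normalizer (U : Set G) := by
    rintro T - U ⟨k, hk⟩ hU
    have hR : cj k (S ⊓ normalizer (T : Set G)) ≤ normalizer (U : Set G) := by
      rw [← hk, ← cj_normalizer]; exact cj_mono inf_le_right
    obtain ⟨m, hm, hm'⟩ := hU.exists_cj_le (isPGroup_cj (hS.to_le inf_le_left)) hR
    exact ⟨m * k, by rw [← cj_cj, hk, cj_eq_of_mem_normalizer hm], by rwa [← cj_cj]⟩
  suffices key : ∀ (d r : ℕ), Nat.card S - r = d →
      (∀ T : Subgroup G, T ≤ S → T ≠ ⊥ → Nat.card T = r → ∀ g : G, cj g T ≤ S → Rel (T : Set G) g) ∧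
      (∀ V : Subgroup G, V ≤ S → V ≠ ⊥ → Nat.card ↥(S ⊓ normalizer (V : Set G)) = r → Φ V) from
    ⟨fun T h1 h2 g h3 => (key _ _ rfl).1 T h1 h2 rfl g h3,
      fun V h1 h2 => (key _ _ rfl).2 V h1 h2 rfl⟩
  intro d
  induction d using Nat.strong_induction_on with
  | _ d ih =>
  intro r hd
  have ihQ : ∀ T : Subgroup G, T ≤ S → T ≠ ⊥ → r < Nat.card T →
      ∀ g : G, cj g T ≤ S → Rel (T : Set G) g := fun T h1 h2 h3 =>
    (ih _ (by have := Subgroup.card_le_of_le h1; omega) (Nat.card T) rfl).1 T h1 h2 rfl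
  have ihΦ : ∀ V : Subgroup G, V ≤ S → V ≠ ⊥ →
      r < Nat.card ↥(S ⊓ normalizer (V : Set G)) → Φ V := fun V h1 h2 h3 =>
    (ih _ (by have := Subgroup.card_le_of_le (inf_le_left : S ⊓ normalizer (V : Set G) ≤ S); omega)
      _ rfl).2 V h1 h2 rfl
  have good : ∀ V : Subgroup G, V ≤ S → V ≠ ⊥ → r ≤ Nat.card ↥(S ⊓ normalizer (V : Set G)) →
      IsSylowIn p (S ⊓ normalizer (V : Set G)) (normalizer (V : Set G)) → Φ V :=
    fun V h1 h2 h3 h4 => hgood V h1 h2 h4 fun V₂ h5 h6 h7 => ihΦ V₂ h5 h6 (by omega)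
  have hQ : ∀ T : Subgroup G, T ≤ S → T ≠ ⊥ → Nat.card T = r →
      ∀ g : G, cj g T ≤ S → Rel (T : Set G) g := by
    intro T hT hne hr g hg
    by_cases hTS : T = S
    · subst hr
      have hgN : g ∈ normalizer (T : Set G) :=
        mem_normalizer_of_cj_eq (cj_eq_self_of_le (hg.trans hTS.ge))
      have hRT : S ⊓ normalizer (T : Set G) = S := by
        rw [hTS]; exact inf_eq_left.mpr le_normalizer
      have hsyl : IsSylowIn p (S ⊓ normalizer (T : Set G)) (normalizer (T : Set G)) := by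
        refine (isSylowIn_iff hS T).mpr fun hdvd => ?_
        rw [hRT] at hdvd
        apply P.not_dvd_index
        rw [← hSdef, ← Subgroup.relIndex_top_right]
        exact hdvd.trans (Dvd.intro _ (Subgroup.relIndex_mul_relIndex S (normalizer (T : Set G)) ⊤
          (hTS ▸ le_normalizer) le_top))
      refine hΦ T hT hne hsyl
        (good T hT hne (by rw [hRT]; exact Subgroup.card_le_of_le hT) hsyl) _ g hgN ?_ ?_
      · rw [hRT]; exact hT
      · rw [hRT, limg_coe]; exact hg
    · obtain ⟨k, hk⟩ := exists_isWellPlaced P hid hT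
      have hU := IsWellPlaced.isSylowIn hS hk
      set U := cj k T
      have hUr : Nat.card U = r := (card_cj k T).trans hr
      have hU0 : U ≠ ⊥ := cj_ne_bot hne
      obtain ⟨h₁, e₁, l₁⟩ := move T hT U ⟨k, rfl⟩ hU
      have hT2ne : cj g T ≠ S := fun he => hTS (eq_of_le_of_card_le hT (by rw [← he, card_cj]))
      obtain ⟨h₂, e₂, l₂⟩ := move (cj g T) hg U ⟨k * g⁻¹, by rw [cj_cj, inv_mul_cancel_right]⟩ hU
      have r₁ : Rel (T : Set G) h₁ := by
        have hlt := card_lt_card_inf_normalizer hS hT hTS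
        refine hmono _ _ _ (ihQ _ inf_le_left ?_ (hr ▸ hlt) h₁ (l₁.trans inf_le_left))
          (le_inf hT le_normalizer : T ≤ _)
        exact fun hb => hne (eq_bot_iff.mpr (hb ▸ le_inf hT le_normalizer))
      have r₂ : Rel (U : Set G) h₂⁻¹ := by
        have hlt := card_lt_card_inf_normalizer hS hg hT2ne
        refine hmono _ _ _ (ihQ (cj h₂ (S ⊓ normalizer ((cj g T : Subgroup G) : Set G)))
          (l₂.trans inf_le_left) ?_ (by rw [card_cj, ← hr, ← card_cj g T]; exact hlt) h₂⁻¹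
          (by rw [cj_inv_cj]; exact inf_le_left)) ?_
        · refine cj_ne_bot fun hb => cj_ne_bot (g := g) hne (eq_bot_iff.mpr ?_)
          exact hb ▸ le_inf hg le_normalizer
        · rw [← e₂]; exact cj_mono (le_inf hg le_normalizer)
      have hy : h₂ * g * h₁⁻¹ ∈ normalizer (U : Set G) := by
        refine mem_normalizer_of_cj_eq ?_
        nth_rw 1 [← e₁]
        rw [cj_cj, inv_mul_cancel_right, ← cj_cj, e₂]
      have hUR : U ≤ S ⊓ normalizer (U : Set G) := le_inf hk.1 le_normalizer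
      have r₃ : Rel (U : Set G) (h₂ * g * h₁⁻¹) := by
        refine hΦ U hk.1 hU0 hU (good U hk.1 hU0 (hUr ▸ Subgroup.card_le_of_le hUR) hU) _ _ hy hUR ?_
        rw [limg_coe, cj_eq_of_mem_normalizer hy]; exact hUR
      have := htrans _ _ _ r₁ (by
        rw [limg_coe, e₁]
        exact htrans _ _ h₂⁻¹ r₃ (by rw [limg_coe, cj_eq_of_mem_normalizer hy]; exact r₂))
      simpa [mul_assoc] using this
  refine ⟨hQ, fun V hV hne hr => ?_⟩
  obtain ⟨k, hk⟩ := exists_isWellPlaced P hid hV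
  have hU := IsWellPlaced.isSylowIn hS hk
  obtain ⟨h, e, l⟩ := move V hV _ ⟨k, rfl⟩ hU
  rw [← e] at hU l hk
  have hRne : S ⊓ normalizer (V : Set G) ≠ ⊥ := fun hb =>
    hne (eq_bot_iff.mpr (hb ▸ le_inf hV le_normalizer))
  refine hmove V h hV hne l hU (hQ _ inf_le_left hRne hr h (l.trans inf_le_left))
    (hQ _ (l.trans inf_le_left) (cj_ne_bot hRne) (by rw [card_cj, hr]) h⁻¹
      (by rw [cj_inv_cj]; exact inf_le_left))
    (good _ hk.1 (cj_ne_bot hne) ?_ hU)
  rw [← hr, ← card_cj h]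
  exact Subgroup.card_le_of_le l

/-- Induction along the towers of well-placed subgroups. -/
theorem wellPlaced_induction {W : Subgroup G → Subgroup G} {S : Subgroup G} (hS : IsPGroup p S)
    (hW : Cfsg.IsConjugacyFunctor p W) (Φ : Subgroup G → Prop)
    (h : ∀ T : Subgroup G, T ≠ ⊥ → Cfsg.IsWellPlaced p W S T →
      (S ⊓ normalizer (T : Set G) ≠ S → Φ (W (S ⊓ normalizer (T : Set G)))) → Φ T)
    (T : Subgroup G) (hne : T ≠ ⊥) (hT : Cfsg.IsWellPlaced p W S T) : Φ T := by
  suffices key : ∀ (d : ℕ) (T : Subgroup G),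
      Nat.card S - Nat.card ↥(S ⊓ normalizer (T : Set G)) = d → T ≠ ⊥ →
      Cfsg.IsWellPlaced p W S T → Φ T from key _ T rfl hne hT
  intro d
  induction d using Nat.strong_induction_on with
  | _ d ih =>
  intro T hd hne hT
  refine h T hne hT fun hRS => ?_
  set R := S ⊓ normalizer (T : Set G) with hR
  have hRne : R ≠ ⊥ := fun hb => hne (eq_bot_iff.mpr (hb ▸ le_inf hT.1 le_normalizer))
  have hlt := card_lt_card_inf_normalizer hS (inf_le_left : R ≤ S) hRS
  have hle : S ⊓ normalizer (R : Set G) ≤ S ⊓ normalizer ((W R : Subgroup G) : Set G) :=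
    inf_le_inf le_rfl (normalizer_le_normalizer_functor hW (hS.to_le inf_le_left))
  refine ih _ ?_ (W R) rfl (functor_ne_bot hW (hS.to_le inf_le_left) hRne)
    (isWellPlaced_succ hW hS hT)
  have h1 := Subgroup.card_le_of_le hle
  have h3 : Nat.card R < Nat.card ↥(S ⊓ normalizer ((W R : Subgroup G) : Set G)) := hlt.trans_le h1
  have h4 : Nat.card S - Nat.card R = d := hd
  have h2 := Subgroup.card_le_of_le (inf_le_left : S ⊓ normalizer ((W R : Subgroup G) : Set G) ≤ S)
  omega

theorem conj_transfer_mem {J : Subgroup G} {A : Set G} {h k : G}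
    (h1 : ∀ t ∈ A, t⁻¹ * (h * t * h⁻¹) ∈ J)
    (h2 : ∀ t ∈ limg A h, t⁻¹ * (k * t * k⁻¹) ∈ J) :
    ∀ t ∈ A, t⁻¹ * (k * h * t * (k * h)⁻¹) ∈ J := fun t ht => by
  have := J.mul_mem (h1 t ht) (h2 _ ⟨t, ht, rfl⟩)
  simpa [mul_assoc] using this

/-- The focal subgroup theorem as a criterion: `S ∩ G' ≤ J`. -/
theorem inf_commutator_le (P : Sylow p G) (J : Subgroup G)
    (h : ∀ t ∈ (P : Subgroup G), ∀ g : G, g * t * g⁻¹ ∈ (P : Subgroup G) →
      t⁻¹ * (g * t * g⁻¹) ∈ J) :
    (P : Subgroup G) ⊓ ⁅(⊤ : Subgroup G), (⊤ : Subgroup G)⁆ ≤ J := by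
  rw [inf_comm, ← commutator_def, commutator_inf_eq_focalSubgroup, focalSubgroup_def, closure_le]
  rintro z ⟨hz, x, hx, u, rfl⟩
  have h1 : u * x⁻¹ * u⁻¹ ∈ (P : Subgroup G) := by
    have := mul_mem (inv_mem hx) hz
    simpa [commutatorElement_def, mul_assoc] using this
  have h2 := h x⁻¹ (inv_mem hx) u h1
  simpa [commutatorElement_def, mul_assoc] using h2

theorem conj_diff_mem_commutator {H : Subgroup G} {t y : G} (ht : t ∈ H) (hy : y ∈ H) :
    t⁻¹ * (y * t * y⁻¹) ∈ ⁅H, H⁆ := by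
  have := commutator_mem_commutator (inv_mem ht) hy
  simpa [commutatorElement_def, mul_assoc] using this

end Cfsg.Agent.H48
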