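import Cfsg.Agent.H48.SylowIn
import Cfsg.Agent.Cores.Constrained

/-!
# A Sylow subgroup inside `O_{p',p}(G)`

For a Sylow subgroup `P` of `G` write `H = P ∩ O_{p',p}(G)`; then `G = O_{p'}(G) N_G(H)`, and
`N_G(H)` controls the fusion of elements of `P`.
-/

set_option autoImplicit false
set_option linter.unusedSectionVars false

namespace Cfsg.Agent.H48

open Subgroup

theorem mem_normalizer_of_normal {G : Type*} [Group G] {K : Subgroup G} [K.Normal] (g : G) :
    g ∈ normalizer (K : Set G) :=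
  mem_normalizer_iff.mpr fun h => ⟨fun hh => Subgroup.Normal.conj_mem inferInstance h hh g,
    fun hh => by simpa [mul_assoc] using Subgroup.Normal.conj_mem (inferInstance : K.Normal) _ hh g⁻¹⟩

variable {G : Type*} [Group G] [Finite G] {p : ℕ} [Fact p.Prime]

/-- A Sylow subgroup meets a normal subgroup in a Sylow subgroup of it. -/
theorem isSylowIn_inf_normal (P : Sylow p G) (K : Subgroup G) [K.Normal] :
    IsSylowIn p ((P : Subgroup G) ⊓ K) K := by
  obtain ⟨T, hT, hle⟩ := exists_isSylowIn_ge (p := p) (Q := (P : Subgroup G) ⊓ K)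
    (P.isPGroup'.to_le inf_le_left) inf_le_right
  refine hT.of_card inf_le_right (P.isPGroup'.to_le inf_le_left) ?_
  obtain ⟨x, -, hx⟩ := (isSylowIn_sylow P).exists_cj_le hT.isPGroup le_top
  rw [← card_cj x]
  exact Subgroup.card_le_of_le (le_inf hx ((cj_mono hT.le).trans
    (cj_le.mpr fun k hk => Subgroup.Normal.conj_mem inferInstance k hk x)))

/-- `P ∩ O_{p',p}(G)`. -/
abbrev sylowCore (P : Sylow p G) : Subgroup G := (P : Subgroup G) ⊓ Cfsg.pPrimePCore p G

theorem isSylowIn_sylowCore (P : Sylow p G) :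
    IsSylowIn p (sylowCore P) (Cfsg.pPrimePCore p G) := isSylowIn_inf_normal P _

theorem pPrimePCore_eq_sup (P : Sylow p G) :
    Cfsg.pPrimePCore p G = Cfsg.pPrimeCore p G ⊔ sylowCore P := by
  refine le_antisymm ?_ (sup_le Cores.pPrimeCore_le_pPrimePCore inf_le_right)
  have h := isSylowIn_sylowCore P
  have h1 := Cores.map_sylow_pPrimePCore h.toSylow
  rw [h.coe_toSylow, subgroupOf_map_subtype, inf_eq_left.mpr h.le, ← Cores.map_pPrimePCore] at h1
  intro g hg
  obtain ⟨x, hx, hxg⟩ := h1.ge ⟨g, hg, rfl⟩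
  have hd : g * x⁻¹ ∈ Cfsg.pPrimeCore p G := by
    rw [← QuotientGroup.eq_one_iff, QuotientGroup.mk_mul, QuotientGroup.mk_inv]
    simp only [QuotientGroup.mk'_apply] at hxg
    rw [hxg, mul_inv_cancel]
  have := (Cfsg.pPrimeCore p G ⊔ sylowCore P).mul_mem (mem_sup_left hd) (mem_sup_right hx)
  simpa using this

/-- Frattini: `G = O_{p'}(G) N_G(H)`. -/
theorem exists_mul_normalizer (P : Sylow p G) (g : G) :
    ∃ d ∈ Cfsg.pPrimeCore p G, ∃ n ∈ normalizer ((sylowCore P : Subgroup G) : Set G), g = d * n := by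
  have h := isSylowIn_sylowCore P
  obtain ⟨k, hk, hkH⟩ := (h.cj g).exists_conj (T' := sylowCore P) (by
    rw [cj_eq_of_mem_normalizer (mem_normalizer_of_normal g)]; exact h)
  rw [cj_eq_of_mem_normalizer (mem_normalizer_of_normal g)] at hk
  rw [cj_cj] at hkH
  have hn : k * g ∈ normalizer ((sylowCore P : Subgroup G) : Set G) := mem_normalizer_of_cj_eq hkH
  have hk' : k⁻¹ ∈ Cfsg.pPrimeCore p G ⊔ sylowCore P := (pPrimePCore_eq_sup P) ▸ inv_mem hk
  obtain ⟨d, hd, x, hx, hdx⟩ := Subgroup.mem_sup_of_normal_left.mp hk'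
  exact ⟨d, hd, x * (k * g), mul_mem (le_normalizer hx) hn, by
    rw [← mul_assoc, hdx]; group⟩

theorem mem_centralizer_sylowCore (P : Sylow p G) {d : G} (hd : d ∈ Cfsg.pPrimeCore p G)
    (hn : d ∈ normalizer ((sylowCore P : Subgroup G) : Set G)) :
    d ∈ centralizer ((sylowCore P : Subgroup G) : Set G) := by
  refine Coprime.mem_centralizer_of_mem_normalizer (fun x _ => mem_normalizer_of_normal x) ?_ hd hn
  exact Cores.disjoint_of_isPGroup_of_coprime (P.isPGroup'.to_le inf_le_left)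
      Cores.coprime_card_pPrimeCore

/-- Elements of `O_{p'}(G)` carrying a `p`-element of `N_G(H)` into `N_G(H)` factorize. -/
theorem exists_factorization (P : Sylow p G) {y : G}
    (hy : y ∈ normalizer ((sylowCore P : Subgroup G) : Set G)) {k : ℕ} (hk : orderOf y = p ^ k)
    {d : G} (hd : d ∈ Cfsg.pPrimeCore p G)
    (hz : d⁻¹ * y * d ∈ normalizer ((sylowCore P : Subgroup G) : Set G)) :
    ∃ d₁ ∈ Cfsg.pPrimeCore p G ⊓ centralizer ({y} : Set G),
      ∃ d₂ ∈ Cfsg.pPrimeCore p G ⊓ centralizer ((sylowCore P : Subgroup G) : Set G), d = d₁ * d₂ := by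
  set H := sylowCore P
  set D := Cfsg.pPrimeCore p G
  set C := D ⊓ centralizer (H : Set G)
  set z := d⁻¹ * y * d with hzdef
  have hNC : normalizer (H : Set G) ≤ normalizer (C : Set G) := by
    have key : ∀ n ∈ normalizer (H : Set G), ∀ c ∈ C, n * c * n⁻¹ ∈ C := by
      intro n hn c hc
      refine ⟨Subgroup.Normal.conj_mem inferInstance c hc.1 n, mem_centralizer_iff.mpr fun h hh => ?_⟩
      have h2 := mem_centralizer_iff.mp hc.2 (n⁻¹ * h * n)
        (by simpa using (mem_normalizer_iff.mp (inv_mem hn) h).mp hh)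
      calc h * (n * c * n⁻¹) = n * (n⁻¹ * h * n * c) * n⁻¹ := by group
        _ = n * c * n⁻¹ * h := by rw [h2]; group
    intro n hn
    rw [mem_normalizer_iff]
    exact fun c => ⟨key n hn c, fun hc => by
      simpa [mul_assoc] using key n⁻¹ (inv_mem hn) _ hc⟩
  have hu : y⁻¹ * z ∈ C := by
    have h1 : y⁻¹ * z ∈ D := by
      have h2 : y⁻¹ * d⁻¹ * y ∈ D := by
        simpa using Subgroup.Normal.conj_mem (inferInstance : D.Normal) _ (inv_mem hd) y⁻¹
      simpa [hzdef, mul_assoc] using mul_mem h2 hd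
    exact ⟨h1, mem_centralizer_sylowCore P h1 (mul_mem (inv_mem hy) hz)⟩
  have hCcop : (Nat.card C).Coprime p :=
    Nat.Coprime.coprime_dvd_left (card_dvd_of_le inf_le_left) Cores.coprime_card_pPrimeCore
  have hzord : orderOf z = p ^ k := by
    rw [← hk, hzdef]
    exact (MulEquiv.orderOf_eq (MulAut.conj d⁻¹) y ▸ by simp : orderOf (d⁻¹ * y * d) = orderOf y)
  have hsyl : ∀ w : G, w ∈ normalizer (C : Set G) → orderOf w = p ^ k →
      IsSylowIn p (zpowers w) (C ⊔ zpowers w) ∧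
        C ⊓ zpowers w = ⊥ ∧ Nat.card ↥(C ⊔ zpowers w) = Nat.card C * p ^ k := by
    intro w hw ho
    have hc : Nat.card (zpowers w) = p ^ k := by rw [Nat.card_zpowers, ho]
    have hd0 : C ⊓ zpowers w = ⊥ :=
      Coprime.inf_eq_bot (by rw [hc]; exact Nat.Coprime.pow_right k hCcop)
    have hcard := Coprime.card_sup (zpowers_le.mpr hw) hd0
    rw [hc] at hcard
    refine ⟨⟨le_sup_right, IsPGroup.of_card hc, fun hdvd => ?_⟩, hd0, hcard⟩
    have h3 := Subgroup.card_mul_index ((zpowers w).subgroupOf (C ⊔ zpowers w))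
    rw [Nat.card_congr (Subgroup.subgroupOfEquivOfLe le_sup_right).toEquiv, hc, hcard,
      mul_comm (Nat.card C), Nat.mul_left_cancel_iff (pow_pos (Fact.out : p.Prime).pos k)] at h3
    exact (Fact.out : p.Prime).coprime_iff_not_dvd.mp hCcop.symm (h3 ▸ hdvd)
  have hsame : C ⊔ zpowers z = C ⊔ zpowers y := by
    refine le_antisymm (sup_le le_sup_left (zpowers_le.mpr ?_)) (sup_le le_sup_left (zpowers_le.mpr ?_))
    · have := (C ⊔ zpowers y).mul_mem (mem_sup_right (mem_zpowers y)) (mem_sup_left hu)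
      simpa using this
    · have := (C ⊔ zpowers z).mul_mem (mem_sup_right (mem_zpowers z)) (mem_sup_left (inv_mem hu))
      simpa using this
  obtain ⟨hy1, -, -⟩ := hsyl y (hNC hy) hk
  obtain ⟨hz1, hz2, -⟩ := hsyl z (hNC hz) hzord
  obtain ⟨c, hc, hcy⟩ := hy1.exists_conj (hsame ▸ hz1)
  obtain ⟨c', hc', a, ha, rfl⟩ := (Coprime.mem_sup_iff (zpowers_le.mpr (hNC hy))).mp hc
  rw [← cj_cj, cj_eq_of_mem_normalizer (le_normalizer ha)] at hcy
  have h5 : c' * y * c'⁻¹ = z := by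
    have h6 : c' * y * c'⁻¹ ∈ zpowers z := hcy ▸ conj_mem_cj (mem_zpowers y)
    have h7 : z⁻¹ * (c' * y * c'⁻¹) ∈ C ⊓ zpowers z := by
      refine mem_inf.mpr ⟨?_, mul_mem (inv_mem (mem_zpowers z)) h6⟩
      have e : z⁻¹ * (c' * y * c'⁻¹) = (y⁻¹ * z)⁻¹ * (y⁻¹ * c' * y) * c'⁻¹ := by group
      show z⁻¹ * (c' * y * c'⁻¹) ∈ C
      rw [e]
      refine mul_mem (mul_mem (inv_mem hu) ?_) (inv_mem hc')
      simpa using (mem_normalizer_iff.mp (inv_mem (hNC hy)) c').mp hc'
    rw [hz2, mem_bot] at h7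
    exact (inv_mul_eq_one.mp h7).symm
  refine ⟨d * c', ⟨mul_mem hd hc'.1, mem_centralizer_singleton_iff.mpr ?_⟩, c'⁻¹,
    inv_mem hc', by group⟩
  calc d * c' * y = d * (c' * y * c'⁻¹) * c' := by group
    _ = y * (d * c') := by rw [h5, hzdef]; group

theorem le_normalizer_sylowCore (P : Sylow p G) :
    (P : Subgroup G) ≤ normalizer ((sylowCore P : Subgroup G) : Set G) := fun x hx =>
  mem_normalizer_of_cj_eq (cj_eq_self_of_le (cj_le.mpr fun h hh =>
    mem_inf.mpr ⟨mul_mem (mul_mem hx hh.1) (inv_mem hx), Subgroup.Normal.conj_mem inferInstance h hh.2 x⟩))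

/-- `N_G(H)` controls the fusion of elements of `P`. -/
theorem exists_normalizer_conj (P : Sylow p G) {x y g : G} (hx : x ∈ (P : Subgroup G))
    (hy : y ∈ (P : Subgroup G)) (hg : g * x * g⁻¹ = y) :
    ∃ n ∈ normalizer ((sylowCore P : Subgroup G) : Set G), n * x * n⁻¹ = y := by
  obtain ⟨d, hd, n, hn, rfl⟩ := exists_mul_normalizer P g
  obtain ⟨k, hk⟩ := IsPGroup.iff_orderOf.mp P.isPGroup' ⟨y, hy⟩
  rw [Subgroup.orderOf_mk] at hk
  have hz : d⁻¹ * y * d ∈ normalizer ((sylowCore P : Subgroup G) : Set G) := by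
    rw [← hg, show d⁻¹ * (d * n * x * (d * n)⁻¹) * d = n * x * n⁻¹ by group]
    exact mul_mem (mul_mem hn (le_normalizer_sylowCore P hx)) (inv_mem hn)
  obtain ⟨d₁, hd₁, d₂, hd₂, rfl⟩ := exists_factorization P (le_normalizer_sylowCore P hy) hk hd hz
  refine ⟨d₂ * n, mul_mem (centralizer_le_normalizer _ hd₂.2) hn, ?_⟩
  have h1 : d₁⁻¹ * y * d₁ = y := by
    rw [mul_assoc, ← mem_centralizer_singleton_iff.mp hd₁.2, inv_mul_cancel_left]
  calc d₂ * n * x * (d₂ * n)⁻¹ = d₁⁻¹ * (d₁ * d₂ * n * x * (d₁ * d₂ * n)⁻¹) * d₁ := by group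
    _ = y := by rw [hg, h1]

end Cfsg.Agent.H48
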