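import Mathlib.GroupTheory.Sylow
import Mathlib.GroupTheory.Nilpotent
import Cfsg.Agent.Coprime.Basic

/-!
# Sylow subgroups of subgroups, written inside the ambient group

`IsSylowIn p T H`: `T` is a `p`-subgroup of `H` of index prime to `p`.
-/

set_option autoImplicit false
set_option linter.unusedSectionVars false

namespace Cfsg.Agent.H48

open Subgroup Cfsg.Agent.Coprime

variable {G : Type*} [Group G]

/-- The conjugate `g H g⁻¹`. -/
abbrev cj (g : G) (H : Subgroup G) : Subgroup G := H.map (MulAut.conj g).toMonoidHom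

theorem mem_cj {g x : G} {H : Subgroup G} : x ∈ cj g H ↔ g⁻¹ * x * g ∈ H := mem_map_conj

theorem conj_mem_cj {g x : G} {H : Subgroup G} (hx : x ∈ H) : g * x * g⁻¹ ∈ cj g H :=
  ⟨x, hx, rfl⟩

theorem cj_cj (g h : G) (H : Subgroup G) : cj g (cj h H) = cj (g * h) H := map_conj_map_conj g h H

theorem cj_one (H : Subgroup G) : cj 1 H = H := map_conj_one H

theorem cj_inv_cj (g : G) (H : Subgroup G) : cj g⁻¹ (cj g H) = H := by
  rw [cj_cj, inv_mul_cancel, cj_one]

theorem cj_cj_inv (g : G) (H : Subgroup G) : cj g (cj g⁻¹ H) = H := by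
  rw [cj_cj, mul_inv_cancel, cj_one]

theorem cj_le {g : G} {H K : Subgroup G} : cj g H ≤ K ↔ ∀ x ∈ H, g * x * g⁻¹ ∈ K :=
  ⟨fun h x hx => h (conj_mem_cj hx), fun h => by rintro _ ⟨x, hx, rfl⟩; exact h x hx⟩

theorem cj_mono {g : G} {H K : Subgroup G} (h : H ≤ K) : cj g H ≤ cj g K := Subgroup.map_mono h

theorem cj_eq_of_mem_normalizer {g : G} {H : Subgroup G} (hg : g ∈ normalizer (H : Set G)) :
    cj g H = H := map_conj_eq hg

theorem mem_normalizer_of_cj_eq {g : G} {H : Subgroup G} (h : cj g H = H) :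
    g ∈ normalizer (H : Set G) := mem_normalizer_of_map_conj h

theorem card_cj (g : G) (H : Subgroup G) : Nat.card (cj g H) = Nat.card H := card_map_conj g H

theorem cj_normalizer (g : G) (H : Subgroup G) :
    cj g (normalizer (H : Set G)) = normalizer ((cj g H : Subgroup G) : Set G) :=
  Subgroup.map_equiv_normalizer_eq H (MulAut.conj g)

theorem cj_inf (g : G) (H K : Subgroup G) : cj g (H ⊓ K) = cj g H ⊓ cj g K :=
  Subgroup.map_inf H K _ (MulAut.conj g).injective

theorem cj_commutator (g : G) (H K : Subgroup G) : cj g ⁅H, K⁆ = ⁅cj g H, cj g K⁆ :=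
  Subgroup.map_commutator H K _

theorem cj_ne_bot {g : G} {H : Subgroup G} (h : H ≠ ⊥) : cj g H ≠ ⊥ := by
  rwa [Ne, Subgroup.map_eq_bot_iff_of_injective _ (MulAut.conj g).injective]

theorem isPGroup_cj {p : ℕ} {g : G} {H : Subgroup G} (h : IsPGroup p H) : IsPGroup p (cj g H) :=
  h.map _

theorem eq_of_le_of_card_le [Finite G] {H K : Subgroup G} (h : H ≤ K)
    (hc : Nat.card K ≤ Nat.card H) : H = K :=
  Subgroup.eq_of_le_of_card_ge h hc

theorem cj_eq_self_of_le [Finite G] {g : G} {H : Subgroup G} (h : cj g H ≤ H) : cj g H = H :=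
  eq_of_le_of_card_le h (card_cj g H).ge

/-- `T` is a Sylow `p`-subgroup of `H`. -/
structure IsSylowIn (p : ℕ) (T H : Subgroup G) : Prop where
  le : T ≤ H
  isPGroup : IsPGroup p T
  ndvd : ¬ p ∣ T.relIndex H

variable [Finite G] {p : ℕ} [Fact p.Prime]

/-- A Sylow subgroup of `H` as a bundled Sylow subgroup of the group `↥H`. -/
noncomputable def IsSylowIn.toSylow {T H : Subgroup G} (h : IsSylowIn p T H) : Sylow p H :=
  (h.isPGroup.comap_of_injective H.subtype H.subtype_injective).toSylow h.ndvd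

theorem IsSylowIn.coe_toSylow {T H : Subgroup G} (h : IsSylowIn p T H) :
    (h.toSylow : Subgroup H) = T.subgroupOf H := by
  rfl

theorem isSylowIn_map (H : Subgroup G) (P : Sylow p H) :
    IsSylowIn p ((P : Subgroup H).map H.subtype) H := by
  refine ⟨map_subtype_le _, P.isPGroup'.map _, ?_⟩
  rw [Subgroup.relIndex, Subgroup.subgroupOf,
    Subgroup.comap_map_eq_self_of_injective H.subtype_injective]
  exact P.not_dvd_index

theorem isSylowIn_sylow (S : Sylow p G) : IsSylowIn p (S : Subgroup G) ⊤ :=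
  ⟨le_top, S.isPGroup', by rw [Subgroup.relIndex_top_right]; exact S.not_dvd_index⟩

theorem exists_isSylowIn_ge {H Q : Subgroup G} (hQ : IsPGroup p Q) (hle : Q ≤ H) :
    ∃ T : Subgroup G, IsSylowIn p T H ∧ Q ≤ T := by
  obtain ⟨R, hR⟩ := (hQ.comap_of_injective H.subtype H.subtype_injective).exists_le_sylow
  exact ⟨_, isSylowIn_map H R, fun x hx => ⟨⟨x, hle hx⟩, hR hx, rfl⟩⟩

/-- A Sylow subgroup of `H` absorbs, up to conjugation in `H`, every `p`-subgroup of `H`. -/
theorem IsSylowIn.exists_cj_le {T H Q : Subgroup G} (h : IsSylowIn p T H) (hQ : IsPGroup p Q)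
    (hle : Q ≤ H) : ∃ x ∈ H, cj x Q ≤ T := by
  obtain ⟨R, hR⟩ := (hQ.comap_of_injective H.subtype H.subtype_injective).exists_le_sylow
  obtain ⟨x, hx⟩ := MulAction.exists_smul_eq H R h.toSylow
  refine ⟨x, x.2, cj_le.mpr fun q hq => ?_⟩
  have h1 : x * ⟨q, hle hq⟩ * x⁻¹ ∈ (h.toSylow : Subgroup H) := by
    rw [← hx, Sylow.coe_subgroup_smul]
    exact Subgroup.smul_mem_pointwise_smul _ _ _ (hR hq)
  rw [h.coe_toSylow] at h1
  exact h1

theorem IsSylowIn.eq_of_le {T H Q : Subgroup G} (h : IsSylowIn p T H) (hQ : IsPGroup p Q)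
    (hle : Q ≤ H) (hTQ : T ≤ Q) : T = Q := by
  obtain ⟨x, _, hx⟩ := h.exists_cj_le hQ hle
  exact eq_of_le_of_card_le hTQ ((card_cj x Q).symm.trans_le (Subgroup.card_le_of_le hx))

theorem IsSylowIn.card_le {T H Q : Subgroup G} (h : IsSylowIn p T H) (hQ : IsPGroup p Q)
    (hle : Q ≤ H) : Nat.card Q ≤ Nat.card T := by
  obtain ⟨x, _, hx⟩ := h.exists_cj_le hQ hle
  exact (card_cj x Q).symm.trans_le (Subgroup.card_le_of_le hx)

theorem IsSylowIn.card_eq {T T' H : Subgroup G} (h : IsSylowIn p T H) (h' : IsSylowIn p T' H) :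
    Nat.card T = Nat.card T' :=
  le_antisymm (h'.card_le h.isPGroup h.le) (h.card_le h'.isPGroup h'.le)

theorem IsSylowIn.exists_conj {T T' H : Subgroup G} (h : IsSylowIn p T H) (h' : IsSylowIn p T' H) :
    ∃ x ∈ H, cj x T = T' := by
  obtain ⟨x, hx, hle⟩ := h'.exists_cj_le h.isPGroup h.le
  exact ⟨x, hx, eq_of_le_of_card_le hle (by rw [card_cj]; exact (h.card_eq h').ge)⟩

/-- A `p`-subgroup as large as a Sylow subgroup is a Sylow subgroup. -/
theorem IsSylowIn.of_card {T T' H : Subgroup G} (h : IsSylowIn p T H) (hle : T' ≤ H)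
    (hp : IsPGroup p T') (hc : Nat.card T ≤ Nat.card T') : IsSylowIn p T' H := by
  obtain ⟨R, hR, hle'⟩ := exists_isSylowIn_ge hp hle
  rwa [eq_of_le_of_card_le hle' ((hR.card_eq h).trans_le hc)]

theorem IsSylowIn.cj {T H : Subgroup G} (h : IsSylowIn p T H) (g : G) :
    IsSylowIn p (cj g T) (cj g H) := by
  refine ⟨cj_mono h.le, isPGroup_cj h.isPGroup, ?_⟩
  rw [Subgroup.relIndex_map_map_of_injective _ _ (MulAut.conj g).injective]
  exact h.ndvd

/-- The normalizer of a proper subgroup of a `p`-group is strictly larger. -/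
theorem card_lt_card_inf_normalizer {S T : Subgroup G} (hS : IsPGroup p S) (hle : T ≤ S)
    (hne : T ≠ S) : Nat.card T < Nat.card ↥(S ⊓ normalizer (T : Set G)) := by
  haveI := hS.isNilpotent
  have hlt : T.subgroupOf S < ⊤ := by
    rw [lt_top_iff_ne_top, Ne, Subgroup.subgroupOf_eq_top]
    exact fun h => hne (le_antisymm hle h)
  obtain ⟨x, hx, hx'⟩ := SetLike.exists_of_lt (Group.normalizerCondition_of_isNilpotent _ hlt)
  by_contra hc
  have heq : T = S ⊓ normalizer (T : Set G) :=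
    eq_of_le_of_card_le (le_inf hle le_normalizer) (not_lt.mp hc)
  have hxN : (x : G) ∈ normalizer (T : Set G) := by
    rw [mem_normalizer_iff]
    intro y
    by_cases hy : y ∈ S
    · simpa [mem_subgroupOf] using (mem_normalizer_iff.mp hx ⟨y, hy⟩)
    · have h2 : (x : G) * y * (x : G)⁻¹ ∉ S := fun h3 => hy (by
        have := S.mul_mem (S.mul_mem (S.inv_mem x.2) h3) x.2
        simpa [mul_assoc] using this)
      exact iff_of_false (fun h => hy (hle h)) (fun h => h2 (hle h))
  apply hx'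
  show (x : G) ∈ T
  rw [heq]
  exact ⟨x.2, hxN⟩

end Cfsg.Agent.H48
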