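import Cfsg.Agent.Orthogonal.StdForms
import Cfsg.Agent.Orthogonal.Spinor
import Cfsg.Agent.Orthogonal.Order
import Cfsg.Agent.Orthogonal.Extend
import Cfsg.Agent.Orthogonal.Count

/-!
Orthogonal bases over finite fields of odd order: the class of a space is the spinor norm of `-1`.
-/

set_option autoImplicit false

namespace Cfsg.Agent.H48.OrthClass

open QuadraticMap Module Cfsg.Agent.Orthogonal Cfsg.Agent.Orthogonal.IsFrame

universe u v

variable {F : Type u} [Field F] {V : Type v} [AddCommGroup V] [Module F V] {Q : QuadraticForm F V}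

/-- A pairwise orthogonal family. -/
def Ortho (Q : QuadraticForm F V) {ι : Type*} (v : ι → V) : Prop := ∀ i j, i ≠ j → polar Q (v i) (v j) = 0

theorem Ortho.linearIndependent {ι : Type*} [Fintype ι] {v : ι → V} (h : Ortho Q v) (h2 : (2 : F) ≠ 0)
    (hv : ∀ i, Q (v i) ≠ 0) : LinearIndependent F v := by
  classical
  refine Fintype.linearIndependent_iff.2 fun g hg i => ?_
  have h1 := congrArg (polar Q (v i)) hg
  rw [← polarBilin_apply', map_sum, polar_zero_right, Finset.sum_eq_single i (fun j _ hj => by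
    rw [map_smul, polarBilin_apply', h i j (Ne.symm hj), smul_zero]) (by simp), map_smul, polarBilin_apply',
    polar_self', smul_eq_mul] at h1
  exact (mul_eq_zero.1 h1).resolve_right (mul_ne_zero h2 (hv i))

/-- An orthogonal family of full length as a basis. -/
noncomputable def Ortho.basis [FiniteDimensional F V] {ι : Type*} [Fintype ι] {v : ι → V} (h : Ortho Q v)
    (h2 : (2 : F) ≠ 0) (hv : ∀ i, Q (v i) ≠ 0) (hc : Fintype.card ι = finrank F V) : Module.Basis ι F V :=
  Module.Basis.mk (h.linearIndependent h2 hv) (Submodule.eq_top_of_finrank_eq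
    ((finrank_span_eq_card (h.linearIndependent h2 hv)).trans hc)).ge

theorem Ortho.basis_apply [FiniteDimensional F V] {ι : Type*} [Fintype ι] {v : ι → V} (h : Ortho Q v)
    (h2 : (2 : F) ≠ 0) (hv : ∀ i, Q (v i) ≠ 0) (hc : Fintype.card ι = finrank F V) (i : ι) :
    h.basis h2 hv hc i = v i := Module.Basis.mk_apply _ _ i

theorem Ortho.ext_app [FiniteDimensional F V] {ι : Type*} [Fintype ι] {v : ι → V} (h : Ortho Q v)
    (h2 : (2 : F) ≠ 0) (hv : ∀ i, Q (v i) ≠ 0) (hc : Fintype.card ι = finrank F V) {g g' : O Q}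
    (hg : ∀ i, (g : V ≃ₗ[F] V) (v i) = (g' : V ≃ₗ[F] V) (v i)) : g = g' := by
  refine Subtype.ext (LinearEquiv.toLinearMap_injective ((h.basis h2 hv hc).ext fun i => ?_))
  rw [Ortho.basis_apply]
  exact hg i

theorem exists_ne_zero (hQ : Nondeg Q) {x : V} (hx : x ≠ 0) : ∃ y, Q y ≠ 0 := by
  by_contra hno
  push Not at hno
  refine hx (hQ x fun y => ?_)
  simp [polar, hno]

/-- Orthogonal bases with prescribed values at all but the last place. -/
theorem exists_ortho [Finite F] (h2 : (2 : F) ≠ 0) : ∀ (n : ℕ) {V : Type v} [AddCommGroup V] [Module F V]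
    [FiniteDimensional F V] (Q : QuadraticForm F V), Nondeg Q → finrank F V = n → ∀ c : ℕ → F,
    ∃ v : Fin n → V, Ortho Q v ∧ (∀ i, Q (v i) ≠ 0) ∧ ∀ i : Fin n, (i : ℕ) + 1 < n → c i ≠ 0 → Q (v i) = c i := by
  intro n
  induction n with
  | zero => intro V _ _ _ Q _ _ c; exact ⟨Fin.elim0, fun i => i.elim0, fun i => i.elim0, fun i => i.elim0⟩
  | succ n ih =>
    intro V _ _ _ Q hQ hn c
    classical
    haveI : Nontrivial V := Module.finrank_pos_iff.1 (by omega : 0 < finrank F V)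
    obtain ⟨v₀, hv₀, hc₀⟩ : ∃ v₀ : V, Q v₀ ≠ 0 ∧ (1 < n + 1 → c 0 ≠ 0 → Q v₀ = c 0) := by
      by_cases h : 1 < n + 1 ∧ c 0 ≠ 0
      · obtain ⟨v₀, h₀⟩ := hQ.exists_value (by omega) (c 0)
        exact ⟨v₀, h₀ ▸ h.2, fun _ _ => h₀⟩
      · obtain ⟨x, hx⟩ := exists_ne (0 : V)
        obtain ⟨y, hy⟩ := exists_ne_zero hQ hx
        exact ⟨y, hy, fun h1 h3 => absurd ⟨h1, h3⟩ h⟩
    have hv0 : v₀ ≠ 0 := fun h => hv₀ (by rw [h, QuadraticMap.map_zero])
    have hW : Nondeg (restr Q (Submodule.span F {v₀})) := by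
      rw [nondeg_restr_iff, eq_bot_iff]
      rintro x ⟨hx1, hx2⟩
      obtain ⟨t, rfl⟩ := Submodule.mem_span_singleton.1 hx1
      have h1 := hx2 v₀ (Submodule.mem_span_singleton_self _)
      rw [polar_smul_right', polar_self'] at h1
      rw [(mul_eq_zero.1 h1).resolve_right (mul_ne_zero h2 hv₀), zero_smul]
      exact Submodule.zero_mem _
    have hP := hQ.nondeg_perp hW
    have hPn : finrank F (perp Q (Submodule.span F {v₀})) = n := by
      have := hQ.finrank_perp_singleton hv0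
      omega
    obtain ⟨w, hw1, hw2, hw3⟩ := ih (restr Q (perp Q (Submodule.span F {v₀}))) hP hPn (fun i => c (i + 1))
    have h0 : ∀ j, polar Q v₀ (w j : V) = 0 := fun j => (w j).2 v₀ (Submodule.mem_span_singleton_self _)
    refine ⟨Fin.cons v₀ fun j => (w j : V), fun i j hij => ?_, fun i => ?_, fun i => ?_⟩
    · cases i using Fin.cases with
      | zero =>
        cases j using Fin.cases with
        | zero => exact absurd rfl hij
        | succ j => simpa using h0 j
      | succ i =>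
        cases j using Fin.cases with
        | zero => simpa [polar_comm] using h0 i
        | succ j =>
          have := hw1 i j fun h => hij (by rw [h])
          rw [polar_restr] at this
          simpa using this
    · cases i using Fin.cases with
      | zero => simpa using hv₀
      | succ i => simpa using hw2 i
    · cases i using Fin.cases with
      | zero => intro h1 h3; simpa using hc₀ h1 h3
      | succ i =>
        intro h1 h3
        rw [Fin.val_succ] at h1 h3
        simpa using hw3 i (by omega) h3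

/-! ### Products of reflections in orthogonal vectors -/

variable (Q) in
/-- The product of the reflections in the members of a family. -/
noncomputable def reflOn {ι : Type*} [Fintype ι] (v : ι → V) : O Q :=
  ((Finset.univ : Finset ι).toList.map fun i => rO Q (v i)).prod

theorem list_app {ι : Type*} [DecidableEq ι] {v : ι → V} (h : Ortho Q v) (hv : ∀ i, Q (v i) ≠ 0) (l : List ι)
    (hl : l.Nodup) (j : ι) :
    ((l.map fun i => rO Q (v i)).prod : V ≃ₗ[F] V) (v j) = if j ∈ l then -v j else v j := by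
  induction l with
  | nil => simp
  | cons a t ih =>
    obtain ⟨ha, ht⟩ := List.nodup_cons.1 hl
    rw [List.map_cons, List.prod_cons, Subgroup.coe_mul, mul_app, ih ht]
    by_cases hj : j = a
    · subst hj
      rw [if_neg ha, if_pos List.mem_cons_self, rO_self (hv j)]
    · have hfix := rO_fix (h a j (Ne.symm hj))
      have hm : j ∈ a :: t ↔ j ∈ t := by simp [hj]
      by_cases hjt : j ∈ t
      · rw [if_pos hjt, if_pos (hm.2 hjt), map_neg, hfix]
      · rw [if_neg hjt, if_neg (mt hm.1 hjt), hfix]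

theorem list_fix {ι : Type*} {v : ι → V} (l : List ι) {x : V} (hx : ∀ i, polar Q (v i) x = 0) :
    ((l.map fun i => rO Q (v i)).prod : V ≃ₗ[F] V) x = x := by
  induction l with
  | nil => simp
  | cons a t ih => rw [List.map_cons, List.prod_cons, Subgroup.coe_mul, mul_app, ih, rO_fix (hx a)]

theorem reflOn_app {ι : Type*} [Fintype ι] {v : ι → V} (h : Ortho Q v) (hv : ∀ i, Q (v i) ≠ 0) (j : ι) :
    (reflOn Q v : V ≃ₗ[F] V) (v j) = -v j := by
  classical
  rw [reflOn, list_app h hv _ (Finset.nodup_toList _), if_pos (by simp)]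

theorem reflOn_fix {ι : Type*} [Fintype ι] {v : ι → V} {x : V} (hx : ∀ i, polar Q (v i) x = 0) :
    (reflOn Q v : V ≃ₗ[F] V) x = x :=
  list_fix _ hx

variable [FiniteDimensional F V] [Finite F]

theorem spinor_reflOn (hQ : Nondeg Q) (h2 : (2 : F) ≠ 0) {ι : Type*} [Fintype ι] {v : ι → V}
    (hv : ∀ i, Q (v i) ≠ 0) : spinor Q hQ h2 (reflOn Q v) = ∏ i, sqSign (Q (v i)) := by
  rw [reflOn, map_list_prod, List.map_map, ← Finset.prod_map_toList]
  congr 1
  exact List.map_congr_left fun i _ => spinor_rO hQ h2 (hv i)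

theorem detSign_reflOn (hQ : Nondeg Q) (h2 : (2 : F) ≠ 0) {ι : Type*} [Fintype ι] {v : ι → V}
    (hv : ∀ i, Q (v i) ≠ 0) : detSign Q hQ h2 (reflOn Q v) = (-1) ^ Fintype.card ι := by
  rw [reflOn, map_list_prod, List.map_map, ← Finset.card_univ, ← Finset.prod_const, ← Finset.prod_map_toList]
  congr 1
  exact List.map_congr_left fun i _ => detSign_rO hQ h2 (hv i)

variable (Q) in
/-- `-1` as an isometry. -/
def negO : O Q := ⟨LinearEquiv.neg F, fun x => by simp [QuadraticMap.map_neg]⟩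

omit [FiniteDimensional F V] [Finite F] in
theorem negO_app (x : V) : (negO Q : V ≃ₗ[F] V) x = -x := rfl

/-- The class of a space. -/
noncomputable def cls (Q : QuadraticForm F V) (hQ : Nondeg Q) (h2 : (2 : F) ≠ 0) : ℤˣ :=
  spinor Q hQ h2 (negO Q)

theorem cls_eq (hQ : Nondeg Q) (h2 : (2 : F) ≠ 0) {ι : Type*} [Fintype ι] {v : ι → V} (h : Ortho Q v)
    (hv : ∀ i, Q (v i) ≠ 0) (hc : Fintype.card ι = finrank F V) :
    cls Q hQ h2 = ∏ i, sqSign (Q (v i)) := by
  rw [cls, show negO Q = reflOn Q v from h.ext_app h2 hv hc fun i => by rw [reflOn_app h hv, negO_app],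
    spinor_reflOn hQ h2 hv]

variable {V' : Type*} [AddCommGroup V'] [Module F V'] [FiniteDimensional F V'] {Q' : QuadraticForm F V'}

omit [FiniteDimensional F V] [Finite F] [FiniteDimensional F V'] in
theorem polar_map {e : V →ₗ[F] V'} (he : ∀ x, Q' (e x) = Q x) (x y : V) : polar Q' (e x) (e y) = polar Q x y := by
  simp only [polar]
  rw [← map_add, he, he, he]

theorem cls_map (hQ : Nondeg Q) (hQ' : Nondeg Q') (h2 : (2 : F) ≠ 0) (e : V ≃ₗ[F] V') (he : ∀ x, Q' (e x) = Q x) :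
    cls Q' hQ' h2 = cls Q hQ h2 := by
  obtain ⟨v, h1, h3, -⟩ := exists_ortho h2 _ Q hQ rfl fun _ => 1
  rw [cls_eq hQ h2 h1 h3 (by simp), cls_eq hQ' h2 (v := fun i => e (v i))
    (fun i j hij => (polar_map (e := e.toLinearMap) he _ _).trans (h1 i j hij)) (fun i => by rw [he]; exact h3 i)
    (by simpa using e.finrank_eq)]
  simp [he]

theorem exists_equiv_of_class (h2 : (2 : F) ≠ 0) {ι : Type*} [Fintype ι] {v : ι → V} {w : ι → V'}
    (h : Ortho Q v) (hv : ∀ i, Q (v i) ≠ 0) (hc : Fintype.card ι = finrank F V)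
    (h' : Ortho Q' w) (hw : ∀ i, Q' (w i) ≠ 0) (hc' : Fintype.card ι = finrank F V')
    (hs : ∀ i, sqSign (Q (v i)) = sqSign (Q' (w i))) :
    ∃ e : V ≃ₗ[F] V', (∀ x, Q' (e x) = Q x) ∧ ∀ i, ∃ t : F, e (v i) = t • w i := by
  have : ∀ i, ∃ t : F, t ≠ 0 ∧ Q (v i) = t ^ 2 * Q' (w i) := fun i => by
    have hsq : IsSquare (Q (v i) / Q' (w i)) := by
      have e1 : sqSign (Q (v i) / Q' (w i) * Q' (w i)) = sqSign (Q (v i) / Q' (w i)) * sqSign (Q' (w i)) :=
        sqSign_mul h2 (div_ne_zero (hv i) (hw i)) (hw i)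
      rw [div_mul_cancel₀ _ (hw i), hs i] at e1
      exact sqSign_eq_one_iff.1 (mul_eq_right.1 e1.symm)
    obtain ⟨t, ht⟩ := hsq
    refine ⟨t, fun h0 => hv i ?_, ?_⟩
    · rw [← div_mul_cancel₀ (Q (v i)) (hw i), ht, h0]; simp
    · rw [← div_mul_cancel₀ (Q (v i)) (hw i), ht, pow_two]
  choose t ht0 ht using this
  have h'' : Ortho Q' fun i => t i • w i := fun i j hij => by
    rw [polar_smul_left', polar_smul_right', h' i j hij]; simp
  have hw' : ∀ i, Q' (t i • w i) ≠ 0 := fun i => by rw [qmap_smul]; exact mul_ne_zero (pow_ne_zero 2 (ht0 i)) (hw i)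
  obtain ⟨e, he, heQ⟩ := equiv_of_bases (Q := Q) (Q' := Q') (h.basis h2 hv hc) (h''.basis h2 hw' hc')
    (fun i => by rw [Ortho.basis_apply, Ortho.basis_apply, qmap_smul, ht])
    (fun i j hij => by rw [Ortho.basis_apply, Ortho.basis_apply, Ortho.basis_apply, Ortho.basis_apply, h'' i j hij, h i j hij])
  exact ⟨e, heQ, fun i => ⟨t i, by have := he i; rwa [Ortho.basis_apply, Ortho.basis_apply] at this⟩⟩

theorem exists_ortho_std (h2 : (2 : F) ≠ 0) {n : ℕ} (hQ : Nondeg Q) (hn : finrank F V = n + 1) :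
    ∃ v : Fin (n + 1) → V, Ortho Q v ∧ (∀ i, Q (v i) ≠ 0) ∧ (∀ i : Fin n, Q (v i.castSucc) = 1) ∧
      sqSign (Q (v (Fin.last n))) = cls Q hQ h2 := by
  obtain ⟨v, h1, h3, h4⟩ := exists_ortho h2 _ Q hQ hn fun _ => 1
  have h5 : ∀ i : Fin n, Q (v i.castSucc) = 1 := fun i => h4 _ (by simp) one_ne_zero
  refine ⟨v, h1, h3, h5, ?_⟩
  rw [cls_eq hQ h2 h1 h3 (by simp [hn]), Fin.prod_univ_castSucc,
    Finset.prod_eq_one fun i _ => by rw [h5, sqSign_of_isSquare IsSquare.one], one_mul]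

theorem iso_of_cls (h2 : (2 : F) ≠ 0) (hQ : Nondeg Q) (hQ' : Nondeg Q') (hn : finrank F V = finrank F V')
    (hc : cls Q hQ h2 = cls Q' hQ' h2) : ∃ e : V ≃ₗ[F] V', ∀ x, Q' (e x) = Q x := by
  obtain ⟨n, hn0⟩ : ∃ n, finrank F V = n := ⟨_, rfl⟩
  cases n with
  | zero =>
    haveI : Subsingleton V := Module.finrank_zero_iff.1 hn0
    exact ⟨LinearEquiv.ofFinrankEq V V' hn, fun x => by rw [Subsingleton.elim x 0]; simp⟩
  | succ n =>
    obtain ⟨v, v1, v2, v3, v4⟩ := exists_ortho_std h2 hQ hn0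
    obtain ⟨w, w1, w2, w3, w4⟩ := exists_ortho_std h2 hQ' (hn ▸ hn0)
    obtain ⟨e, he, -⟩ := exists_equiv_of_class h2 v1 v2 (by simp [hn0]) w1 w2 (by simp [← hn, hn0]) (fun i => by
      cases i using Fin.lastCases with
      | last => rw [v4, w4, hc]
      | cast i => rw [v3, w3])
    exact ⟨e, he⟩

/-- Isometric embeddings. -/
theorem exists_embedding (h2 : (2 : F) ≠ 0) (hQ : Nondeg Q) (hQ' : Nondeg Q')
    (hd : finrank F V < finrank F V' ∨ (finrank F V = finrank F V' ∧ cls Q hQ h2 = cls Q' hQ' h2)) :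
    ∃ j : V →ₗ[F] V', Function.Injective j ∧ ∀ x, Q' (j x) = Q x := by
  rcases hd with hlt | ⟨he, hc⟩
  · obtain ⟨v, v1, v2, -⟩ := exists_ortho h2 _ Q hQ rfl fun _ => 1
    classical
    obtain ⟨w, w1, w2, w3⟩ := exists_ortho h2 _ Q' hQ' rfl
      fun i => if hi : i < finrank F V then Q (v ⟨i, hi⟩) else 1
    let w' : Fin (finrank F V) → V' := fun i => w (Fin.castLE hlt.le i)
    have hw' : ∀ i, Q' (w' i) = Q (v i) := fun i => by
      have := w3 (Fin.castLE hlt.le i) (by have := i.2; simp only [Fin.val_castLE]; omega)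
        (by simpa using v2 i)
      rw [this]; simp
    have ho : Ortho Q' w' := fun i j hij => w1 _ _ fun h => hij (Fin.castLE_injective _ h)
    let b := v1.basis h2 v2 (by simp)
    let j := b.constr F w'
    have hj : Q'.comp j = Q := qf_ext b
      (fun i => by rw [QuadraticMap.comp_apply, Module.Basis.constr_basis, hw', Ortho.basis_apply])
      (fun i k hik => by
        rw [show polar (Q'.comp j) (b i) (b k) = polar Q' (j (b i)) (j (b k)) by simp [polar],
          Module.Basis.constr_basis, Module.Basis.constr_basis, ho i k hik, Ortho.basis_apply, Ortho.basis_apply, v1 i k hik])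
    refine ⟨j, (injective_iff_map_eq_zero j).2 fun x hx => hQ x fun y => ?_, fun x => DFunLike.congr_fun hj x⟩
    rw [← polar_map (Q' := Q') (e := j) (fun x => DFunLike.congr_fun hj x), hx, polar_zero_left]
  · obtain ⟨e, he'⟩ := iso_of_cls h2 hQ hQ' he hc
    exact ⟨e.toLinearMap, e.injective, he'⟩

theorem cls_frame (hQ : Nondeg Q) (h2 : (2 : F) ≠ 0) {k : ℕ} {e f : Fin k → V} (h : IsFrame Q e f)
    (hn : finrank F V = 2 * k) : cls Q hQ h2 = sqSign (-1 : F) ^ k := by
  classical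
  let w : Fin k ⊕ Fin k → V := Sum.elim (fun i => e i + f i) fun i => e i - f i
  have hw : ∀ s, Q (w s) = Sum.elim (fun _ => (1 : F)) (fun _ => -1) s := by
    rintro (i | i)
    · show Q (e i + f i) = 1
      rw [map_add_polar, h.qe, h.qf, h.ef, if_pos rfl]; ring
    · show Q (e i - f i) = -1
      rw [qmap_sub, h.qe, h.qf, h.ef, if_pos rfl]; ring
  have hef : ∀ i j, i ≠ j → polar Q (e i) (f j) = 0 := fun i j hij => by rw [h.ef, if_neg hij]
  have hfe : ∀ i j, i ≠ j → polar Q (f i) (e j) = 0 := fun i j hij => by rw [h.fe, if_neg hij]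
  have ho : Ortho Q w := by
    intro s t hst
    rcases s with i | i <;> rcases t with j | j <;>
      simp only [w, Sum.elim_inl, Sum.elim_inr, sub_eq_add_neg, polar_add_left, polar_add_right, polar_neg_left,
        polar_neg_right, h.ee, h.ff]
    · have hij : i ≠ j := fun h => hst (by rw [h])
      rw [hef i j hij, hfe i j hij]; simp
    · by_cases hij : i = j
      · subst hij; rw [h.ef, h.fe, if_pos rfl]; ring
      · rw [hef i j hij, hfe i j hij]; simp
    · by_cases hij : i = j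
      · subst hij; rw [h.ef, h.fe, if_pos rfl]; ring
      · rw [hef i j hij, hfe i j hij]; simp
    · have hij : i ≠ j := fun h => hst (by rw [h])
      rw [hef i j hij, hfe i j hij]; simp
  rw [cls_eq hQ h2 ho (fun s => by rw [hw]; rcases s with i | i <;> simp) (by simp [hn]; omega), Fintype.prod_sum_type]
  simp only [hw, Sum.elim_inl, Sum.elim_inr, sqSign_of_isSquare (IsSquare.one (α := F)), Finset.prod_const_one, one_mul,
    Finset.prod_const, Finset.card_univ, Fintype.card_fin]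

theorem exists_frame_of_cls (hQ : Nondeg Q) (h2 : (2 : F) ≠ 0) {m : ℕ} (hn : finrank F V = 2 * m)
    (hc : cls Q hQ h2 = sqSign (-1 : F) ^ m) :
    ∃ e f : Fin m → V, IsFrame Q e f ∧ Aniso Q (kernel Q e f) := by
  have hP := formPlus_nondeg (F := F) (m := m)
  obtain ⟨E, hE⟩ := iso_of_cls h2 hP hQ (by rw [finrank_formPlus, hn])
    (by rw [cls_frame hP h2 (formPlus_frame F m) (finrank_formPlus ..), hc])
  have h := formPlus_frame F m
  have h' : IsFrame Q (fun i => E (stdE F m i)) fun i => E (stdF F m i) := by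
    have hp : ∀ x y, polar Q (E x) (E y) = polar (formPlus F m) x y := polar_map (e := E.toLinearMap) hE
    exact ⟨fun i => by rw [hE]; exact h.qe i, fun i => by rw [hE]; exact h.qf i,
      fun i j => by rw [hp]; exact h.ef i j, fun i j => by rw [hp]; exact h.ee i j,
      fun i j => by rw [hp]; exact h.ff i j⟩
  refine ⟨_, _, h', fun x hx _ => ?_⟩
  have h0 := h'.finrank_kernel hQ
  rw [hn] at h0
  have : kernel Q (fun i => E (stdE F m i)) (fun i => E (stdF F m i)) = ⊥ := Submodule.finrank_eq_zero.1 (by omega)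
  rw [this] at hx
  exact hx

/-- The order, according to the class. -/
theorem card_O_cases (hQ : Nondeg Q) (h2 : (2 : F) ≠ 0) {m : ℕ} (hn : finrank F V = 2 * (m + 1)) :
    (cls Q hQ h2 = sqSign (-1 : F) ^ (m + 1) ∧ Nat.card (O Q) =
      2 * Nat.card F ^ ((m + 1) * m) * (Nat.card F ^ (m + 1) - 1) * oprod (Nat.card F) m) ∨
    (cls Q hQ h2 ≠ sqSign (-1 : F) ^ (m + 1) ∧ Nat.card (O Q) =
      2 * Nat.card F ^ ((m + 1) * m) * (Nat.card F ^ (m + 1) + 1) * oprod (Nat.card F) m) := by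
  by_cases hc : cls Q hQ h2 = sqSign (-1 : F) ^ (m + 1)
  · obtain ⟨e, f, h, ha⟩ := exists_frame_of_cls hQ h2 hn hc
    exact Or.inl ⟨hc, card_O_plus m Q hQ h ha hn⟩
  · obtain ⟨k, e, f, h, ha⟩ := hQ.exists_frame
    have hr := h.finrank_kernel hQ
    have hle := finrank_le_two_of_aniso (h.nondeg_kernel hQ) ha
    by_cases hk : k = m + 1
    · subst hk
      exact absurd (cls_frame hQ h2 h hn) hc
    · obtain rfl : k = m := by omega
      exact Or.inr ⟨hc, card_O_minus k Q hQ h ha hn⟩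

/-! ### Isometries with square `±1` -/

theorem exists_eigen_ortho (hQ : Nondeg Q) (h2 : (2 : F) ≠ 0) {x : O Q} (hx : x * x = 1) {l : ℕ}
    (hl : finrank F (LinearMap.ker (((x : V ≃ₗ[F] V) : V →ₗ[F] V) + 1)) = l) :
    ∃ (l' : ℕ) (v : Fin l ⊕ Fin l' → V), l + l' = finrank F V ∧ Ortho Q v ∧ (∀ s, Q (v s) ≠ 0) ∧
      (∀ i, (x : V ≃ₗ[F] V) (v (.inl i)) = -v (.inl i)) ∧ (∀ i, (x : V ≃ₗ[F] V) (v (.inr i)) = v (.inr i)) ∧
      (∀ i : Fin l, (i : ℕ) + 1 < l → Q (v (.inl i)) = 1) ∧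
      ∀ i : Fin l', (i : ℕ) + 1 < l' → Q (v (.inr i)) = 1 := by
  set M := LinearMap.ker (((x : V ≃ₗ[F] V) : V →ₗ[F] V) + 1)
  set P := LinearMap.ker (((x : V ≃ₗ[F] V) : V →ₗ[F] V) - 1)
  have hM : ∀ {w}, w ∈ M ↔ (x : V ≃ₗ[F] V) w = -w := fun {w} => by
    simp [M, add_eq_zero_iff_eq_neg]
  have hP : ∀ {w}, w ∈ P ↔ (x : V ≃ₗ[F] V) w = w := fun {w} => by simp [P, sub_eq_zero]
  have hxx : ∀ w, (x : V ≃ₗ[F] V) ((x : V ≃ₗ[F] V) w) = w := fun w => by
    rw [← mul_app, ← Subgroup.coe_mul, hx]; rfl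
  have horth : ∀ a ∈ M, ∀ b ∈ P, polar Q a b = 0 := fun a ha b hb => by
    have h1 := O.polar_app x a b
    rw [hM.1 ha, hP.1 hb, polar_neg_left] at h1
    exact (mul_eq_zero.1 (by linear_combination -h1 : (2 : F) * polar Q a b = 0)).resolve_left h2
  have hsum : ∀ w, ∃ a ∈ M, ∃ b ∈ P, w = a + b := fun w => by
    refine ⟨(2 : F)⁻¹ • (w - (x : V ≃ₗ[F] V) w), M.smul_mem _ (hM.2 (by rw [map_sub, hxx, neg_sub])),
      (2 : F)⁻¹ • (w + (x : V ≃ₗ[F] V) w), P.smul_mem _ (hP.2 (by rw [map_add, hxx, add_comm])), ?_⟩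
    rw [← smul_add, sub_add_add_cancel, ← two_smul F w, smul_smul, inv_mul_cancel₀ h2, one_smul]
  have hMn : Nondeg (restr Q M) := fun a ha => Subtype.ext (hQ _ fun w => by
    obtain ⟨b, hb, c, hc, rfl⟩ := hsum w
    rw [polar_add_right, horth a a.2 c hc, add_zero, ← polar_restr M a ⟨b, hb⟩]
    exact ha _)
  have hPn : Nondeg (restr Q P) := fun a ha => Subtype.ext (hQ _ fun w => by
    obtain ⟨b, hb, c, hc, rfl⟩ := hsum w
    rw [polar_add_right, polar_comm Q (a : V) b, horth b hb a a.2, zero_add, ← polar_restr P a ⟨c, hc⟩]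
    exact ha _)
  have hcomp : IsCompl M P := by
    refine ⟨Submodule.disjoint_def.2 fun w hw hw' => ?_, codisjoint_iff.2 (eq_top_iff.2 fun w _ => ?_)⟩
    · have h1 := hM.1 hw
      rw [hP.1 hw'] at h1
      have : (2 : F) • w = 0 := by rw [two_smul]; nth_rewrite 2 [h1]; exact add_neg_cancel w
      exact (smul_eq_zero.1 this).resolve_left h2
    · obtain ⟨a, ha, b, hb, rfl⟩ := hsum w
      exact Submodule.add_mem_sup ha hb
  obtain ⟨v1, a1, a2, a3⟩ := exists_ortho h2 l (restr Q M) hMn hl fun _ => 1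
  obtain ⟨v2, b1, b2, b3⟩ := exists_ortho h2 _ (restr Q P) hPn rfl fun _ => 1
  refine ⟨finrank F P, Sum.elim (fun i => (v1 i : V)) fun i => (v2 i : V), ?_, ?_, ?_,
    fun i => hM.1 (v1 i).2, fun i => hP.1 (v2 i).2, fun i hi => a3 i hi one_ne_zero, fun i hi => b3 i hi one_ne_zero⟩
  · rw [← hl]; exact Submodule.finrank_add_eq_of_isCompl hcomp
  · rintro (i | i) (j | j) hij
    · rw [Sum.elim_inl, Sum.elim_inl, ← polar_restr]; exact a1 i j fun h => hij (by rw [h])
    · exact horth _ (v1 i).2 _ (v2 j).2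
    · rw [polar_comm]; exact horth _ (v1 j).2 _ (v2 i).2
    · rw [Sum.elim_inr, Sum.elim_inr, ← polar_restr]; exact b1 i j fun h => hij (by rw [h])
  · rintro (i | i)
    · exact a2 i
    · exact b2 i

theorem prod_eq_last {n : ℕ} (s : Fin (n + 1) → ℤˣ) (h : ∀ i : Fin (n + 1), (i : ℕ) + 1 < n + 1 → s i = 1) :
    ∏ i, s i = s (Fin.last n) := by
  rw [Fin.prod_univ_castSucc, Finset.prod_eq_one fun i _ => h _ (by simp), one_mul]

theorem conj_of_sq_one (hQ : Nondeg Q) (h2 : (2 : F) ≠ 0) {x y : O Q} (hx : x * x = 1) (hy : y * y = 1)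
    (hd : finrank F (LinearMap.ker (((x : V ≃ₗ[F] V) : V →ₗ[F] V) + 1)) =
      finrank F (LinearMap.ker (((y : V ≃ₗ[F] V) : V →ₗ[F] V) + 1)))
    (hs : spinor Q hQ h2 x = spinor Q hQ h2 y) : ∃ h : O Q, h⁻¹ * x * h = y := by
  obtain ⟨l, hl⟩ : ∃ l, finrank F (LinearMap.ker (((x : V ≃ₗ[F] V) : V →ₗ[F] V) + 1)) = l := ⟨_, rfl⟩
  obtain ⟨l', v, v0, v1, v2, v3, v4, v5, v6⟩ := exists_eigen_ortho hQ h2 hx hl
  obtain ⟨l'', w, w0, w1, w2, w3, w4, w5, w6⟩ := exists_eigen_ortho hQ h2 hy (hd ▸ hl)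
  obtain rfl : l'' = l' := by omega
  have hcard : Fintype.card (Fin l ⊕ Fin l'') = finrank F V := by simp [v0]
  have hspin : ∀ (z : O Q) (u : Fin l ⊕ Fin l'' → V), Ortho Q u → (∀ s, Q (u s) ≠ 0) →
      (∀ i, (z : V ≃ₗ[F] V) (u (.inl i)) = -u (.inl i)) → (∀ i, (z : V ≃ₗ[F] V) (u (.inr i)) = u (.inr i)) →
      spinor Q hQ h2 z = ∏ i, sqSign (Q (u (.inl i))) := by
    intro z u h1 h3 h4 h5
    rw [show z = reflOn Q (fun i => u (.inl i)) from h1.ext_app h2 h3 hcard fun s => by
      rcases s with i | i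
      · rw [h4, reflOn_app (fun a b hab => h1 _ _ (by simpa using hab)) (fun a => h3 _)]
      · rw [h5, reflOn_fix fun a => h1 _ _ (by simp)]]
    exact spinor_reflOn hQ h2 fun a => h3 _
  have e1 : (∏ i, sqSign (Q (v (.inl i)))) = ∏ i, sqSign (Q (w (.inl i))) := by
    rw [← hspin x v v1 v2 v3 v4, ← hspin y w w1 w2 w3 w4, hs]
  have e2 : (∏ i, sqSign (Q (v (.inr i)))) = ∏ i, sqSign (Q (w (.inr i))) := by
    have a := cls_eq hQ h2 v1 v2 hcard
    rw [cls_eq hQ h2 w1 w2 hcard, Fintype.prod_sum_type, Fintype.prod_sum_type, e1] at a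
    exact (mul_left_cancel a).symm
  have hpart : ∀ (n : ℕ) (a b : Fin n → F), (∀ i : Fin n, (i : ℕ) + 1 < n → a i = 1) →
      (∀ i : Fin n, (i : ℕ) + 1 < n → b i = 1) → (∏ i, sqSign (a i)) = ∏ i, sqSign (b i) →
      ∀ i, sqSign (a i) = sqSign (b i) := by
    intro n a b ha hb hab i
    cases n with
    | zero => exact i.elim0
    | succ n =>
      rw [prod_eq_last _ fun i hi => by rw [ha i hi, sqSign_of_isSquare IsSquare.one],
        prod_eq_last _ fun i hi => by rw [hb i hi, sqSign_of_isSquare IsSquare.one]] at hab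
      cases i using Fin.lastCases with
      | last => exact hab
      | cast i => rw [ha _ (by simp), hb _ (by simp)]
  obtain ⟨e, he, het⟩ := exists_equiv_of_class h2 w1 w2 hcard v1 v2 hcard (by
    rintro (i | i)
    · exact hpart _ _ _ w5 v5 e1.symm i
    · exact hpart _ _ _ w6 v6 e2.symm i)
  refine ⟨⟨e, fun z => he z⟩, w1.ext_app h2 w2 hcard fun s => ?_⟩
  obtain ⟨t, ht⟩ := het s
  rw [Subgroup.coe_mul, Subgroup.coe_mul, mul_app, mul_app]
  show e.symm ((x : V ≃ₗ[F] V) (e (w s))) = _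
  rw [ht, map_smul]
  rcases s with i | i
  · rw [v3, w3, smul_neg, map_neg, ← ht, e.symm_apply_apply]
  · rw [v4, w4, ← ht, e.symm_apply_apply]

/-- An orthogonal basis of pairs for an isometry with square `-1`. -/
theorem exists_negone_basis (h2 : (2 : F) ≠ 0) : ∀ (d : ℕ) {V : Type v} [AddCommGroup V] [Module F V]
    [FiniteDimensional F V] (Q : QuadraticForm F V), Nondeg Q → finrank F V = 2 * d → ∀ x : O Q,
    (∀ w, (x : V ≃ₗ[F] V) ((x : V ≃ₗ[F] V) w) = -w) →
    ∃ v : Fin d → V, Ortho Q (Sum.elim v fun i => (x : V ≃ₗ[F] V) (v i)) ∧ ∀ i, Q (v i) = 1 := by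
  intro d
  induction d with
  | zero =>
    intro V _ _ _ Q _ _ x _
    exact ⟨Fin.elim0, fun s => by rcases s with i | i <;> exact i.elim0, fun i => i.elim0⟩
  | succ d ih =>
    intro V _ _ _ Q hQ hn x hx
    obtain ⟨v₀, hv₀⟩ := hQ.exists_value (by omega) 1
    set u₀ := (x : V ≃ₗ[F] V) v₀ with hu₀
    have h01 : polar Q v₀ u₀ = 0 := by
      have h1 := O.polar_app x v₀ u₀
      rw [← hu₀, hx, polar_neg_right, polar_comm Q u₀] at h1
      exact (mul_eq_zero.1 (by linear_combination -h1 : (2 : F) * polar Q v₀ u₀ = 0)).resolve_left h2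
    have hu : Q u₀ = 1 := by rw [hu₀, O.map_app, hv₀]
    set W := Submodule.span F {v₀, u₀}
    have hW : Nondeg (restr Q W) := by
      rw [nondeg_restr_iff, eq_bot_iff]
      rintro w ⟨hw1, hw2⟩
      obtain ⟨s, t, rfl⟩ := Submodule.mem_span_pair.1 hw1
      have e1 := hw2 v₀ (Submodule.subset_span (by simp))
      have e2 := hw2 u₀ (Submodule.subset_span (by simp))
      rw [polar_add_right, polar_smul_right', polar_smul_right', polar_self', hv₀, h01] at e1
      rw [polar_add_right, polar_smul_right', polar_smul_right', polar_self', hu, polar_comm, h01] at e2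
      simp [h2] at e1 e2
      simp [e1, e2]
    have hWx : ∀ w ∈ W, (x : V ≃ₗ[F] V) w ∈ W := fun w hw => by
      obtain ⟨s, t, rfl⟩ := Submodule.mem_span_pair.1 hw
      rw [map_add, map_smul, map_smul, ← hu₀, show (x : V ≃ₗ[F] V) u₀ = -v₀ from hx v₀]
      exact W.add_mem (W.smul_mem _ (Submodule.subset_span (by simp)))
        (W.smul_mem _ (W.neg_mem (Submodule.subset_span (by simp))))
    have hPx : ∀ w ∈ perp Q W, (x : V ≃ₗ[F] V) w ∈ perp Q W := fun w hw => map_mem_perp x hWx hw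
    have hPn : finrank F (perp Q W) = 2 * d := by
      have h1 := hQ.finrank_add_perp W
      have hli : LinearIndependent F ![v₀, u₀] := by
        refine (show Ortho Q ![v₀, u₀] from fun i j hij => ?_).linearIndependent h2 fun i => ?_
        · fin_cases i <;> fin_cases j <;> simp_all [polar_comm]
        · fin_cases i <;> simp [hv₀, hu]
      have h3 : finrank F W = 2 := by
        have := finrank_span_eq_card hli
        rwa [Matrix.range_cons, Matrix.range_cons, Matrix.range_empty, Set.union_empty, Set.singleton_union,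
          Fintype.card_fin] at this
      omega
    obtain ⟨w, hw1, hw2⟩ := ih (restr Q (perp Q W)) (hQ.nondeg_perp hW) hPn (restrictO x hPx)
      fun z => Subtype.ext (hx z)
    let y : Fin d ⊕ Fin d → perp Q W := Sum.elim w fun i => (restrictO x hPx : perp Q W ≃ₗ[F] perp Q W) (w i)
    let e : Fin (d + 1) ⊕ Fin (d + 1) → V :=
      Sum.elim (Fin.cons v₀ fun i => (w i : V)) fun i => (x : V ≃ₗ[F] V) (Fin.cons (α := fun _ => V) v₀ (fun i => (w i : V)) i)
    refine ⟨Fin.cons v₀ fun i => (w i : V), ?_, fun i => ?_⟩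
    · have hv : ∀ z : perp Q W, polar Q v₀ (z : V) = 0 ∧ polar Q u₀ (z : V) = 0 := fun z =>
        ⟨z.2 v₀ (Submodule.subset_span (by simp)), z.2 u₀ (Submodule.subset_span (by simp))⟩
      have hy : ∀ s t, s ≠ t → polar Q (y s : V) (y t) = 0 := fun s t hst => by
        rw [← polar_restr]; exact hw1 s t hst
      intro s t hst
      rcases s with i | i <;> rcases t with j | j <;> induction i using Fin.cases <;> induction j using Fin.cases <;>
        simp only [Sum.elim_inl, Sum.elim_inr, Fin.cons_zero, Fin.cons_succ]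
      any_goals exact absurd rfl hst
      any_goals exact h01
      any_goals (rw [polar_comm]; exact h01)
      any_goals exact (hv (y (.inl _))).1
      any_goals exact (hv (y (.inr _))).1
      any_goals exact (hv (y (.inl _))).2
      any_goals exact (hv (y (.inr _))).2
      any_goals (rw [polar_comm]; exact (hv (y (.inl _))).1)
      any_goals (rw [polar_comm]; exact (hv (y (.inr _))).1)
      any_goals (rw [polar_comm]; exact (hv (y (.inl _))).2)
      any_goals (rw [polar_comm]; exact (hv (y (.inr _))).2)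
      any_goals exact hy (.inl _) (.inl _) (by simpa using hst)
      any_goals exact hy (.inl _) (.inr _) (by simp)
      any_goals exact hy (.inr _) (.inl _) (by simp)
      any_goals exact hy (.inr _) (.inr _) (by simpa using hst)
    · cases i using Fin.cases with
      | zero => simpa using hv₀
      | succ i => simpa using hw2 i

theorem negone_family (h2 : (2 : F) ≠ 0) {d : ℕ} (hQ : Nondeg Q) (hn : finrank F V = 2 * d) {x : O Q}
    (hx : ∀ w, (x : V ≃ₗ[F] V) ((x : V ≃ₗ[F] V) w) = -w) :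
    ∃ v : Fin d ⊕ Fin d → V, Ortho Q v ∧ (∀ s, Q (v s) = 1) ∧
      (∀ i, (x : V ≃ₗ[F] V) (v (.inl i)) = v (.inr i)) ∧ ∀ i, (x : V ≃ₗ[F] V) (v (.inr i)) = -v (.inl i) := by
  obtain ⟨v, h1, h3⟩ := exists_negone_basis h2 d Q hQ hn x hx
  refine ⟨_, h1, ?_, fun i => rfl, fun i => hx (v i)⟩
  rintro (i | i)
  · exact h3 i
  · show Q ((x : V ≃ₗ[F] V) (v i)) = 1
    rw [O.map_app, h3]

theorem conj_of_sq_negone (h2 : (2 : F) ≠ 0) {d : ℕ} (hQ : Nondeg Q) (hn : finrank F V = 2 * d) {x y : O Q}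
    (hx : ∀ w, (x : V ≃ₗ[F] V) ((x : V ≃ₗ[F] V) w) = -w)
    (hy : ∀ w, (y : V ≃ₗ[F] V) ((y : V ≃ₗ[F] V) w) = -w) : ∃ h : O Q, h⁻¹ * x * h = y := by
  obtain ⟨v, v1, v2, v3, v4⟩ := negone_family h2 hQ hn hx
  obtain ⟨w, w1, w2, w3, w4⟩ := negone_family h2 hQ hn hy
  have v0 : ∀ s, Q (v s) ≠ 0 := fun s => by rw [v2]; exact one_ne_zero
  have w0 : ∀ s, Q (w s) ≠ 0 := fun s => by rw [w2]; exact one_ne_zero
  have hcard : Fintype.card (Fin d ⊕ Fin d) = finrank F V := by simp [hn]; omega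
  obtain ⟨e, he1, he⟩ := equiv_of_bases (Q := Q) (Q' := Q) (w1.basis h2 w0 hcard) (v1.basis h2 v0 hcard)
    (fun i => by rw [Ortho.basis_apply, Ortho.basis_apply, v2, w2])
    (fun i j hij => by rw [Ortho.basis_apply, Ortho.basis_apply, Ortho.basis_apply, Ortho.basis_apply, v1 i j hij, w1 i j hij])
  have hev : ∀ s, e (w s) = v s := fun s => by have := he1 s; rwa [Ortho.basis_apply, Ortho.basis_apply] at this
  refine ⟨⟨e, fun z => he z⟩, w1.ext_app h2 w0 hcard fun s => ?_⟩
  rw [Subgroup.coe_mul, Subgroup.coe_mul, mul_app, mul_app]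
  show e.symm ((x : V ≃ₗ[F] V) (e (w s))) = _
  rw [hev]
  rcases s with i | i
  · rw [v3, w3, ← hev, e.symm_apply_apply]
  · rw [v4, w4, map_neg, ← hev, e.symm_apply_apply]

theorem cls_of_sq_negone (h2 : (2 : F) ≠ 0) {d : ℕ} (hQ : Nondeg Q) (hn : finrank F V = 2 * d) {x : O Q}
    (hx : ∀ w, (x : V ≃ₗ[F] V) ((x : V ≃ₗ[F] V) w) = -w) : cls Q hQ h2 = 1 := by
  obtain ⟨v, v1, v2, -, -⟩ := negone_family h2 hQ hn hx
  rw [cls_eq hQ h2 v1 (fun s => by rw [v2]; exact one_ne_zero) (by simp [hn]; omega)]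
  exact Finset.prod_eq_one fun s _ => by rw [v2, sqSign_of_isSquare IsSquare.one]

end Cfsg.Agent.H48.OrthClass
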