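import Cfsg.Agent.CharInduce.CoprimeExt
import Cfsg.Agent.CharInduce.Induce
import Cfsg.Agent.CharBasic.Kernel
import Cfsg.Agent.CharBasic.Complete

/-!
# Restriction of an irreducible character to a normal subgroup with abelian quotient
-/

set_option autoImplicit false

namespace Cfsg.Agent.H48.DegreeCongr

open scoped ComplexConjugate
open Cfsg.Agent.CharBasic Cfsg.Agent.CharInduce

universe u

variable {G : Type u} [Group G] [Fintype G]

theorem sum_subgroup (N : Subgroup G) [Fintype N] [DecidablePred (· ∈ N)] (F : G → ℂ) :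
    ∑ g ∈ Finset.univ.filter (· ∈ N), F g = ∑ n : N, F n :=
  (Finset.sum_subtype _ (by simp) _)

/-- If every linear character of the quotient fixing `χ` is trivial, then the restriction is
irreducible. -/
theorem isIrr_res_of_forall_hom (N : Subgroup G) [N.Normal] [Fintype N]
    (hab : ∀ a b : G ⧸ N, a * b = b * a) {χ : G → ℂ} (hχ : IsIrrCharacter G χ)
    (h : ∀ l : G →* ℂˣ, N ≤ l.ker → (∀ g, χ g ≠ 0 → l g = 1) → l = 1) :
    IsIrrCharacter N (fun n : N => χ n) := by
  classical
  haveI : Fintype (G ⧸ N) := Fintype.ofFinite _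
  have hres : IsCharacter N (fun n : N => χ n) :=
    CharInduce.IsChar.res (CharBasic.IsIrr.isCharacter hχ) N
  refine CharInduce.isIrr_of_norm_one hres ?_
  have h1 : ∀ ψ : IrrCharacter (G ⧸ N), (ψ : G ⧸ N → ℂ) 1 = 1 :=
    commutative_iff_forall_linear.mp hab
  -- the regular character of the quotient
  have hreg : ∀ g : G, ∑ ψ : IrrCharacter (G ⧸ N), (ψ : G ⧸ N → ℂ) g
      = if g ∈ N then (Nat.card (G ⧸ N) : ℂ) else 0 := fun g => by
    have := sum_degree_mul_apply (G := G ⧸ N) (g : G ⧸ N)
    simp only [h1, one_mul] at this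
    rw [this]
    simp [QuotientGroup.eq_one_iff]
  have hterm : ∀ ψ : IrrCharacter (G ⧸ N),
      classInner (fun g : G => (ψ : G ⧸ N → ℂ) g * χ g) χ
        = if (ψ : G ⧸ N → ℂ) = fun _ => 1 then 1 else 0 := fun ψ => by
    obtain ⟨l, hl⟩ := CharInduce.IsChar.exists_hom_of_degree_one
      (CharBasic.IsIrr.isCharacter ψ.2) (h1 ψ)
    let l' : G →* ℂˣ := l.comp (QuotientGroup.mk' N)
    have hl' : (fun g : G => (ψ : G ⧸ N → ℂ) g * χ g) = fun g => (l' g : ℂ) * χ g := by
      funext g; rw [hl]; rfl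
    rw [hl', classInner_irr (CharInduce.isIrr_hom_mul hχ l') hχ]
    by_cases hψ : (ψ : G ⧸ N → ℂ) = fun _ => 1
    · rw [if_pos hψ, if_pos]
      funext g
      rw [← congrFun hl' g, hψ, one_mul]
    · rw [if_neg hψ, if_neg]
      intro he
      apply hψ
      have hl1 : l' = 1 := h l' (fun n hn => by
        simp [l', MonoidHom.mem_ker, (QuotientGroup.eq_one_iff n).2 hn]) fun g hg => by
        have := congrFun he g
        exact Units.ext ((mul_eq_right₀ hg).mp this)
      funext a
      induction a using QuotientGroup.induction_on with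
      | H g =>
        rw [hl]
        exact congrArg Units.val (DFunLike.congr_fun hl1 g)
  have hone : IsIrrCharacter (G ⧸ N) (fun _ => (1 : ℂ)) := CharBasic.isIrrCharacter_one
  have hsum : ∑ ψ : IrrCharacter (G ⧸ N), classInner (fun g : G => (ψ : G ⧸ N → ℂ) g * χ g) χ = 1 := by
    simp only [hterm]
    rw [Finset.sum_eq_single (⟨_, hone⟩ : IrrCharacter (G ⧸ N))]
    · simp
    · intro ψ _ hne
      rw [if_neg fun e => hne (Subtype.ext e)]
    · simp
  rw [show ∑ ψ : IrrCharacter (G ⧸ N), classInner (fun g : G => (ψ : G ⧸ N → ℂ) g * χ g) χ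
      = classInner (fun n : N => χ n) (fun n : N => χ n) from ?_] at hsum
  · exact hsum
  simp only [classInner]
  rw [← Finset.mul_sum, Finset.sum_comm]
  simp only [← Finset.sum_mul, hreg, ite_mul, zero_mul, ← Finset.sum_filter]
  rw [sum_subgroup N (fun g => (Nat.card (G ⧸ N) : ℂ) * χ g * conj (χ g))]
  simp only [mul_assoc, ← Finset.mul_sum]
  rw [N.card_eq_card_quotient_mul_card_subgroup, ← mul_assoc, Nat.cast_mul, mul_inv_rev,
    mul_assoc ((Nat.card N : ℂ)⁻¹), inv_mul_cancel₀ (Nat.cast_ne_zero.2 Nat.card_pos.ne'), mul_one]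

/-- If `χ` vanishes on `H ∖ N` and is irreducible on `H`, then the norm of its restriction to `N` is
the index. -/
theorem norm_res_of_vanish (H N : Subgroup G) [Fintype H] [Fintype N] (hNH : N ≤ H) {χ : G → ℂ}
    (hH : IsIrrCharacter H (fun h : H => χ h)) (hv : ∀ g ∈ H, g ∉ N → χ g = 0) :
    classInner (fun n : N => χ n) (fun n : N => χ n) = (N.relIndex H : ℂ) := by
  classical
  have h1 := classInner_irr_self hH
  simp only [classInner] at h1 ⊢
  rw [← sum_subgroup H (fun g => χ g * conj (χ g))] at h1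
  rw [← sum_subgroup N (fun g => χ g * conj (χ g))]
  rw [← Finset.sum_subset (s₁ := Finset.univ.filter (· ∈ N)) (fun g hg => by
      simp only [Finset.mem_filter, Finset.mem_univ, true_and] at hg ⊢; exact hNH hg)
    (fun g hg hg' => by
      simp only [Finset.mem_filter, Finset.mem_univ, true_and] at hg hg'
      rw [hv g hg hg', zero_mul])] at h1
  have hc : Nat.card H = Nat.card N * N.relIndex H := by
    rw [← Subgroup.relIndex_bot_left, ← Subgroup.relIndex_bot_left,
      Subgroup.relIndex_mul_relIndex _ _ _ bot_le hNH]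
  rw [hc, Nat.cast_mul, mul_inv_rev, mul_assoc] at h1
  have hr : (N.relIndex H : ℂ) ≠ 0 := fun h0 => by
    rw [h0, inv_zero, zero_mul] at h1; exact zero_ne_one h1
  exact ((inv_mul_eq_iff_eq_mul₀ hr).mp h1).trans (mul_one _)

/-- Norm of a restriction in terms of a constituent. -/
theorem exists_norm_res (N : Subgroup G) [N.Normal] [Fintype N] {χ : G → ℂ}
    (hχ : IsIrrCharacter G χ) :
    ∃ (θ : N → ℂ) (e m : ℕ), IsIrrCharacter N θ ∧ 0 < e ∧
      classInner (fun n : N => χ n) θ = e ∧
      classInner (fun n : N => χ n) (fun n : N => χ n) = ((e ^ 2 * (inertia N θ).index : ℕ) : ℂ) ∧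
      θ 1 = m ∧ χ 1 = ((e * (inertia N θ).index * m : ℕ) : ℂ) := by
  have hc := CharBasic.IsIrr.isCharacter hχ
  have hres : IsCharacter N (fun n : N => χ n) := CharInduce.IsChar.res hc N
  have hne : (fun n : N => χ n) ≠ 0 := fun h => by
    have h1 := congrFun h 1
    exact CharBasic.IsIrr.one_ne_zero hχ (by simpa using h1)
  obtain ⟨θ, hθ⟩ := exists_constituent hres hne
  obtain ⟨e, he⟩ := classInner_isChar_nat hres (CharBasic.IsIrr.isCharacter θ.2)
  obtain ⟨m, -, hm⟩ := CharBasic.IsIrr.exists_degree θ.2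
  refine ⟨θ, e, m, θ.2, Nat.pos_of_ne_zero fun h => hθ (by rw [he, h, Nat.cast_zero]), he, ?_, hm, ?_⟩
  · have h := congrArg (fun f => classInner f (fun n : N => χ n)) (clifford_avg N hχ θ.2 hθ)
    simp only [classInner_smul_left, classInner_sum_left] at h
    have hx : ∀ x : G, classInner (conjFun N (θ : N → ℂ) x) (fun n : N => χ n) = (e : ℂ) := fun x => by
      rw [← conj_classInner, classInner_res_conjFun N (CharBasic.IsIrr.isClassFunction hχ), he,
        map_natCast]
    simp only [hx, he, Finset.sum_const, Finset.card_univ, nsmul_eq_mul,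
      ← Nat.card_eq_fintype_card] at h
    rw [← (inertia N (θ : N → ℂ)).card_mul_index, Nat.cast_mul] at h
    refine mul_left_cancel₀ (card_ne_zero_complex (inertia N (θ : N → ℂ))) ?_
    rw [h]; push_cast; ring
  · rw [clifford_degree N hχ θ.2 hθ, he, hm]; push_cast; ring

/-- A character whose restriction is irreducible is irreducible. -/
theorem isIrr_of_res {N : Subgroup G} [Fintype N] {ψ : G → ℂ} (hψ : IsCharacter G ψ)
    (h : IsIrrCharacter N (fun n : N => ψ n)) : IsIrrCharacter G ψ := by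
  have h0 : ψ ≠ 0 := fun e => CharBasic.IsIrr.one_ne_zero h (by simp [e])
  obtain ⟨φ, hφ⟩ := exists_constituent hψ h0
  obtain ⟨r, hr, he⟩ := CharInduce.IsChar.exists_eq_add hψ φ.2 hφ
  have hφr : IsCharacter N (fun n : N => (φ : G → ℂ) n) :=
    CharInduce.IsChar.res (CharBasic.IsIrr.isCharacter φ.2) N
  obtain ⟨η, hη⟩ := exists_constituent hφr (fun e =>
    CharBasic.IsIrr.one_ne_zero φ.2 (by simpa using congrFun e 1))
  obtain ⟨a, ha⟩ := classInner_isChar_nat hφr (CharBasic.IsIrr.isCharacter η.2)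
  obtain ⟨b, hb⟩ := classInner_isChar_nat (CharInduce.IsChar.res hr N) (CharBasic.IsIrr.isCharacter η.2)
  have hsum : classInner (fun n : N => ψ n) (η : N → ℂ) = ((a + b : ℕ) : ℂ) := by
    rw [show (fun n : N => ψ n) = (fun n : N => (φ : G → ℂ) n) + (fun n : N => r n) from
      funext fun n => congrFun he (n : G), classInner_add_left, ha, hb, Nat.cast_add]
  have hηeq : (η : N → ℂ) = fun n : N => ψ n := by
    by_contra hne
    rw [classInner_irr_of_ne h η.2 (Ne.symm hne)] at hsum
    have h3 : a + b = 0 := by exact_mod_cast hsum.symm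
    exact hη (by rw [ha, (by omega : a = 0), Nat.cast_zero])
  obtain ⟨d, -, hd⟩ := CharBasic.IsIrr.exists_degree φ.2
  obtain ⟨c, hc⟩ := CharBasic.IsChar.exists_degree hr
  have hψ1 : ψ 1 = ((d + c : ℕ) : ℂ) := by
    rw [he, Pi.add_apply, hd, hc, Nat.cast_add]
  have hle := CharInduce.IsChar.degree_le_of_constituent hφr η.2 hη
    (a := d + c) (b := d) (by rw [hηeq]; simpa using hψ1) (by simpa using hd)
  have hr0 := CharInduce.IsChar.eq_zero_of_one_eq_zero hr (by rw [hc, (by omega : c = 0), Nat.cast_zero])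
  rw [he, hr0, add_zero]
  exact φ.2

/-- Constituents below a normal subgroup on which `χ` stays irreducible are conjugate under it. -/
theorem exists_conjFun_eq_mem (M N : Subgroup G) [N.Normal] [Fintype M] [Fintype N] (hNM : N ≤ M)
    {χ : G → ℂ} (hM : IsIrrCharacter M (fun m : M => χ m)) {θ θ' : N → ℂ}
    (hθ : IsIrrCharacter N θ) (hθ' : IsIrrCharacter N θ')
    (h1 : classInner (fun n : N => χ n) θ ≠ 0) (h2 : classInner (fun n : N => χ n) θ' ≠ 0) :
    ∃ m ∈ M, θ' = conjFun N θ m := by
  haveI : Fintype (N.subgroupOf M) := Fintype.ofFinite _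
  let e := Subgroup.subgroupOfEquivOfLe hNM
  obtain ⟨x, hx⟩ := exists_conjFun_eq_of_constituent (N.subgroupOf M) hM
    (χ := fun k => θ (e k)) (ψ := fun k => θ' (e k))
    (IsIrr.comp hθ e.toMonoidHom e.surjective) (IsIrr.comp hθ' e.toMonoidHom e.surjective)
    (by rw [← classInner_comp_mulEquiv e] at h1; exact h1)
    (by rw [← classInner_comp_mulEquiv e] at h2; exact h2)
  refine ⟨x, x.2, funext fun n => ?_⟩
  obtain ⟨k, rfl⟩ := e.surjective n
  rw [congrFun hx k]
  rfl

end Cfsg.Agent.H48.DegreeCongr
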