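import Cfsg.Prelude.Def_ConjugacyFunctors
import Cfsg.Agent.H48.SylowIn

/-!
# Conjugation families

`Chain 𝓕 A g` says that the conjugation `a ↦ g⁻¹ a g` on `A` is performed step by step inside
normalizers of members of `𝓕`; it is the body of `Cfsg.IsConjugationFamily`.
-/

set_option autoImplicit false
set_option linter.unusedSectionVars false

namespace Cfsg.Agent.H48

open Subgroup

variable {G : Type*} [Group G]

/-- The image of `A` under `a ↦ g⁻¹ a g`. -/
abbrev rimg (A : Set G) (g : G) : Set G := (fun a => g⁻¹ * a * g) '' A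

theorem rimg_one (A : Set G) : rimg A 1 = A := by simp [rimg]

theorem rimg_rimg (A : Set G) (g h : G) : rimg (rimg A g) h = rimg A (g * h) := by
  simp only [rimg, Set.image_image]
  exact Set.image_congr' fun a => by group

theorem rimg_mono {A B : Set G} (h : A ⊆ B) (g : G) : rimg A g ⊆ rimg B g := Set.image_mono h

theorem rimg_coe (T : Subgroup G) (g : G) : rimg (T : Set G) g = ((cj g⁻¹ T : Subgroup G) : Set G) := by
  ext x
  rw [SetLike.mem_coe, mem_cj, inv_inv]
  constructor
  · rintro ⟨a, ha, rfl⟩; simpa [mul_assoc] using ha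
  · intro h; exact ⟨_, h, by simp [mul_assoc]⟩

theorem rimg_subset_of_mem_normalizer {T : Subgroup G} {x : G}
    (hx : x ∈ normalizer (T : Set G)) {A : Set G} (hA : A ⊆ T) : rimg A x ⊆ T := by
  refine (rimg_mono hA x).trans ?_
  rw [rimg_coe, cj_eq_of_mem_normalizer (inv_mem hx)]

/-- `a ↦ g⁻¹ a g` on `A` is decomposed along the family `𝓕`. -/
inductive Chain (𝓕 : Set (Subgroup G)) : Set G → G → Prop
  | nil (A : Set G) : Chain 𝓕 A 1
  | cons (A : Set G) (T : Subgroup G) (x g : G) (hT : T ∈ 𝓕) (hx : x ∈ normalizer (T : Set G))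
      (hA : A ⊆ T) (h : Chain 𝓕 (rimg A x) g) : Chain 𝓕 A (x * g)

variable {𝓕 : Set (Subgroup G)}

theorem Chain.single {A : Set G} {T : Subgroup G} {x : G} (hT : T ∈ 𝓕)
    (hx : x ∈ normalizer (T : Set G)) (hA : A ⊆ T) : Chain 𝓕 A x := by
  simpa using Chain.cons A T x 1 hT hx hA (Chain.nil _)

theorem Chain.trans {A : Set G} {g : G} (h : Chain 𝓕 A g) :
    ∀ {k : G}, Chain 𝓕 (rimg A g) k → Chain 𝓕 A (g * k) := by
  induction h with
  | nil A => intro k hk; rw [rimg_one] at hk; rwa [one_mul]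
  | cons A T x g hT hx hA h ih =>
    intro k hk
    rw [mul_assoc]
    exact Chain.cons A T x _ hT hx hA (ih (by rwa [rimg_rimg]))

theorem Chain.mono {A : Set G} {g : G} (h : Chain 𝓕 A g) :
    ∀ {B : Set G}, B ⊆ A → Chain 𝓕 B g := by
  induction h with
  | nil A => intro B _; exact Chain.nil B
  | cons A T x g hT hx hA h ih =>
    intro B hB
    exact Chain.cons B T x g hT hx (hB.trans hA) (ih (rimg_mono hB x))

theorem Chain.symm {A : Set G} {g : G} (h : Chain 𝓕 A g) : Chain 𝓕 (rimg A g) g⁻¹ := by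
  induction h with
  | nil A => simpa using Chain.nil (rimg A 1)
  | cons A T x g hT hx hA h ih =>
    rw [← rimg_rimg, mul_inv_rev]
    refine ih.trans ?_
    rw [rimg_rimg, mul_inv_cancel, rimg_one]
    exact Chain.single hT (inv_mem hx) (rimg_subset_of_mem_normalizer hx hA)

theorem Chain.to_def {A : Set G} {g : G} (h : Chain 𝓕 A g) :
    ∃ (n : ℕ) (T : Fin n → Subgroup G) (x : Fin n → G), (List.ofFn x).prod = g ∧
      (∀ i, T i ∈ 𝓕) ∧ (∀ i, x i ∈ normalizer ((T i : Subgroup G) : Set G)) ∧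
      (∀ h : 0 < n, A ⊆ T ⟨0, h⟩) ∧
      ∀ (i : Fin n) (h : i.val + 1 < n),
        (fun a => (((List.ofFn x).take (i.val + 1)).prod)⁻¹ * a *
            ((List.ofFn x).take (i.val + 1)).prod) '' A ⊆ T ⟨i.val + 1, h⟩ := by
  induction h with
  | nil A =>
    exact ⟨0, Fin.elim0, Fin.elim0, by simp, fun i => i.elim0, fun i => i.elim0,
      fun h => absurd h (lt_irrefl 0), fun i => i.elim0⟩
  | cons A T x g hT hx hA h ih =>
    obtain ⟨n, U, y, hy, hU, hyU, h0, hstep⟩ := ih
    refine ⟨n + 1, Fin.cons T U, Fin.cons x y, by simp [hy], ?_, ?_, fun _ => hA, ?_⟩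
    · exact Fin.cases hT hU
    · exact Fin.cases hx hyU
    · intro i hi
      induction i using Fin.cases with
      | zero =>
        have h1 := h0 (by simpa using hi)
        show _ ⊆ ((Fin.cons T U : Fin (n + 1) → Subgroup G) (Fin.succ ⟨0, by simpa using hi⟩) : Set G)
        rw [Fin.cons_succ]
        simpa [List.ofFn_cons, rimg] using h1
      | succ j =>
        have h1 := hstep j (by simpa using hi)
        rw [show (rimg A x) = (fun a => x⁻¹ * a * x) '' A from rfl, Set.image_image] at h1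
        have h2 : (Fin.cons T U : Fin (n + 1) → Subgroup G) ⟨(j.succ : Fin (n+1)).val + 1, hi⟩
            = U ⟨j.val + 1, by simpa using hi⟩ := by
          rw [show (⟨(j.succ : Fin (n+1)).val + 1, hi⟩ : Fin (n + 1))
              = Fin.succ ⟨j.val + 1, by simpa using hi⟩ from Fin.ext (by simp)]
          exact Fin.cons_succ (α := fun _ => Subgroup G) T U _
        rw [h2, List.ofFn_cons]
        simp only [Fin.val_succ, List.take_succ_cons, List.prod_cons]
        refine Eq.trans_subset (Set.image_congr' fun a => ?_) h1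
        group

theorem Chain.of_def : ∀ (n : ℕ) (A : Set G) (T : Fin n → Subgroup G) (x : Fin n → G),
    (∀ i, T i ∈ 𝓕) → (∀ i, x i ∈ normalizer ((T i : Subgroup G) : Set G)) →
    (∀ h : 0 < n, A ⊆ T ⟨0, h⟩) →
    (∀ (i : Fin n) (h : i.val + 1 < n),
        (fun a => (((List.ofFn x).take (i.val + 1)).prod)⁻¹ * a *
            ((List.ofFn x).take (i.val + 1)).prod) '' A ⊆ T ⟨i.val + 1, h⟩) →
    Chain 𝓕 A (List.ofFn x).prod := by
  intro n
  induction n with
  | zero => intro A T x _ _ _ _; simpa using Chain.nil A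
  | succ n ih =>
    intro A T x hT hx h0 hstep
    rw [List.ofFn_succ, List.prod_cons]
    refine Chain.cons A (T 0) (x 0) _ (hT 0) (hx 0) (h0 n.succ_pos) ?_
    refine ih _ (fun i => T i.succ) (fun i => x i.succ) (fun i => hT _) (fun i => hx _)
      (fun h => ?_) (fun i h => ?_)
    · have h1 := hstep 0 (by simpa using h)
      simpa [List.ofFn_succ, rimg, Fin.succ] using h1
    · have h1 := hstep i.succ (by simpa using h)
      simp only [List.ofFn_succ, Fin.val_succ, List.take_succ_cons, List.prod_cons] at h1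
      rw [show (rimg A (x 0)) = (fun a => (x 0)⁻¹ * a * x 0) '' A from rfl, Set.image_image]
      refine Eq.trans_subset (Set.image_congr' fun a => ?_) h1
      group

/-- The body of `Cfsg.IsConjugationFamily` in terms of `Chain`. -/
theorem isConjugationFamily_iff (S : Subgroup G) :
    Cfsg.IsConjugationFamily 𝓕 S ↔ (∀ T ∈ 𝓕, T ≤ S) ∧
      ∀ (A : Set G) (g : G), A.Nonempty → A ⊆ S → rimg A g ⊆ S → Chain 𝓕 A g := by
  refine and_congr_right fun _ => ⟨fun h A g h1 h2 h3 => ?_, fun h A g h1 h2 h3 => (h A g h1 h2 h3).to_def⟩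
  obtain ⟨n, T, x, hx, hT, hN, h0, hs⟩ := h A g h1 h2 h3
  exact hx ▸ Chain.of_def n A T x hT hN h0 hs

section Family

variable [Finite G] {p : ℕ} [Fact p.Prime]

/-- Alperin's theorem for a family of representatives with Sylow normalizers. -/
theorem chain_of_representatives {S : Subgroup G} (hS : IsPGroup p S)
    (h : ∀ T : Subgroup G, T ≤ S → ∃ U ∈ 𝓕, U ≤ S ∧ (∃ g : G, cj g T = U) ∧
      IsSylowIn p (S ⊓ normalizer (U : Set G)) (normalizer (U : Set G))) :
    ∀ (A : Set G) (g : G), A ⊆ S → rimg A g ⊆ S → Chain 𝓕 A g := by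
  suffices main : ∀ (d : ℕ) (T : Subgroup G), Nat.card S - Nat.card T = d → T ≤ S →
      ∀ g : G, cj g⁻¹ T ≤ S → Chain 𝓕 (T : Set G) g by
    intro A g hA hg
    refine (main _ (closure A) rfl ((closure_le S).mpr hA) g ?_).mono subset_closure
    rw [show cj g⁻¹ (closure A) = _ from MonoidHom.map_closure _ A, closure_le]
    refine Eq.trans_subset ?_ hg
    exact Set.image_congr' fun a => by simp
  intro d
  induction d using Nat.strong_induction_on with
  | _ d ih =>
  intro T hd hT g hg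
  obtain ⟨U, hU, hUS, ⟨k, hk⟩, hsyl⟩ := h T hT
  -- any conjugate of `U` inside `S` is moved to `U` along the family
  have move : ∀ T' : Subgroup G, T' ≤ S → (∃ k : G, cj k T' = U) →
      Nat.card T' = Nat.card T → T' ≠ S →
      ∃ x : G, Chain 𝓕 (T' : Set G) x ∧ cj x⁻¹ T' = U := by
    rintro T' hT' ⟨k, hk⟩ hcard hne
    set R := S ⊓ normalizer (T' : Set G)
    have hR : cj k R ≤ normalizer (U : Set G) := by
      rw [← hk, ← cj_normalizer]; exact cj_mono inf_le_right
    obtain ⟨m, hm, hm'⟩ := hsyl.exists_cj_le (isPGroup_cj (hS.to_le inf_le_left)) hR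
    rw [cj_cj] at hm'
    refine ⟨(m * k)⁻¹, ?_, by rw [inv_inv, ← cj_cj, hk, cj_eq_of_mem_normalizer hm]⟩
    have hlt := card_lt_card_inf_normalizer hS hT' hne
    have hle : Nat.card R ≤ Nat.card S := Subgroup.card_le_of_le inf_le_left
    refine (ih (Nat.card S - Nat.card R) ?_ R rfl inf_le_left _
      (by rw [inv_inv]; exact hm'.trans inf_le_left)).mono ?_
    · rw [← hd, ← hcard]
      have h9 : Nat.card T' < Nat.card R := hlt
      omega
    · exact fun y hy => ⟨hT' hy, le_normalizer hy⟩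
  by_cases hTS : T = S
  · subst hTS
    have hUT : U = T := eq_of_le_of_card_le hUS (by rw [← hk, card_cj])
    subst hUT
    exact Chain.single hU (by simpa using inv_mem (mem_normalizer_of_cj_eq (cj_eq_self_of_le hg)))
      le_rfl
  · obtain ⟨x₁, hc₁, he₁⟩ := move T hT ⟨k, hk⟩ rfl hTS
    have hT2 : cj g⁻¹ T ≠ S := fun he =>
      hTS (eq_of_le_of_card_le hT (by rw [← he, card_cj]))
    obtain ⟨x₂, hc₂, he₂⟩ := move (cj g⁻¹ T) hg ⟨k * g, by rw [cj_cj, mul_inv_cancel_right, hk]⟩
      (card_cj _ _) hT2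
    have hy : x₁⁻¹ * g * x₂ ∈ normalizer (U : Set G) := by
      rw [← inv_inv (x₁⁻¹ * g * x₂)]
      refine inv_mem (mem_normalizer_of_cj_eq ?_)
      nth_rw 1 [← he₁]
      rw [cj_cj, show (x₁⁻¹ * g * x₂)⁻¹ * x₁⁻¹ = x₂⁻¹ * g⁻¹ by group, ← cj_cj, he₂]
    have h3 := Chain.single hU hy (A := (U : Set G)) le_rfl
    have h4 : Chain 𝓕 (U : Set G) x₂⁻¹ := by
      have := hc₂.symm; rwa [rimg_coe, he₂] at this
    have h5 : rimg (U : Set G) (x₁⁻¹ * g * x₂) = U := by
      rw [rimg_coe, cj_eq_of_mem_normalizer (inv_mem hy)]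
    have h6 : Chain 𝓕 (U : Set G) (x₁⁻¹ * g * x₂ * x₂⁻¹) := h3.trans (by rwa [h5])
    have h7 := hc₁.trans (k := x₁⁻¹ * g * x₂ * x₂⁻¹) (by rwa [rimg_coe, he₁])
    simpa [mul_assoc] using h7

end Family

end Cfsg.Agent.H48
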