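import Cfsg.Agent.PGroups.PCentral

/-!
# Chief factors of `p`-power order

`ChiefBound p N`: every `p`-chief factor of `G` below `N` has order at most `p ^ 2`.
-/

set_option autoImplicit false

namespace Cfsg.Agent.H48

open Subgroup
open scoped commutatorElement

universe u

variable {G : Type u} [Group G] [Finite G] {p : ℕ}

/-- There is no normal subgroup strictly between `K` and `H`. -/
def IsChiefPair (K H : Subgroup G) : Prop :=
  ∀ L : Subgroup G, L.Normal → K ≤ L → L ≤ H → L = K ∨ L = H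

/-- Every `p`-chief factor below `N` has order at most `p ^ 2`. -/
def ChiefBound (p : ℕ) (N : Subgroup G) : Prop :=
  ∀ H K : Subgroup G, H.Normal → K.Normal → K < H → H ≤ N → IsChiefPair K H →
    (∃ n, K.relIndex H = p ^ n) → K.relIndex H ≤ p ^ 2

omit [Finite G] in
theorem exists_mul_of_le_sup {X K : Subgroup G} [K.Normal] {g : G} (hg : g ∈ X ⊔ K) :
    ∃ x ∈ X, ∃ k ∈ K, x * k = g := Subgroup.mem_sup_of_normal_right.mp hg

omit [Finite G] in
/-- Modular law for a normal subgroup. -/
theorem inf_sup_eq_self {H K N : Subgroup G} [N.Normal] (hKH : K ≤ H) (hN : H ⊓ N ≤ K) :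
    H ⊓ (K ⊔ N) = K := by
  refine le_antisymm (fun g hg => ?_) (le_inf hKH le_sup_left)
  obtain ⟨k, hk, n, hn, rfl⟩ := exists_mul_of_le_sup hg.2
  have hnH : n ∈ H := by simpa using H.mul_mem (H.inv_mem (hKH hk)) hg.1
  exact K.mul_mem hk (hN ⟨hnH, hn⟩)

omit [Finite G] in
/-- Either `N` covers the factor, or it avoids it. -/
theorem IsChiefPair.cases {K H : Subgroup G} (hc : IsChiefPair K H) [H.Normal] [K.Normal]
    (hKH : K ≤ H) (N : Subgroup G) [N.Normal] : H ⊓ N ≤ K ∨ (H ⊓ N) ⊔ K = H := by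
  rcases hc ((H ⊓ N) ⊔ K) inferInstance le_sup_right (sup_le inf_le_left hKH) with h | h
  · exact Or.inl (le_sup_left.trans h.le)
  · exact Or.inr h

omit [Finite G] in
/-- A covered factor is the corresponding factor inside `N`. -/
theorem IsChiefPair.inf {K H : Subgroup G} (hc : IsChiefPair K H) [H.Normal] [K.Normal]
    (hKH : K < H) (N : Subgroup G) [N.Normal] (h : (H ⊓ N) ⊔ K = H) :
    K ⊓ N < H ⊓ N ∧ IsChiefPair (K ⊓ N) (H ⊓ N) ∧
      (K ⊓ N).relIndex (H ⊓ N) = K.relIndex H := by
  have e : K ⊓ N = K ⊓ (H ⊓ N) := by rw [← inf_assoc, inf_eq_left.mpr hKH.le]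
  refine ⟨lt_of_le_of_ne (inf_le_inf_right N hKH.le) fun he => hKH.ne ?_, fun L hL hKL hLH => ?_, ?_⟩
  · rw [← h, ← he]; exact (sup_eq_right.mpr inf_le_left).symm
  · haveI := hL
    rcases hc (L ⊔ K) inferInstance le_sup_right (sup_le (hLH.trans inf_le_left) hKH.le) with h1 | h1
    · exact Or.inl (le_antisymm (le_inf (le_sup_left.trans h1.le) (hLH.trans inf_le_right)) hKL)
    · refine Or.inr (le_antisymm hLH fun g hg => ?_)
      obtain ⟨l, hl, k, hk, hlk⟩ := exists_mul_of_le_sup (h1.ge hg.1)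
      subst hlk
      refine L.mul_mem hl (hKL ⟨hk, ?_⟩)
      simpa using N.mul_mem (N.inv_mem (hLH hl).2) hg.2
  · rw [e, inf_relIndex_right]
    conv_rhs => rw [← h]
    rw [relIndex_sup_right]

/-- To bound the factors below `N`, bound those below `M` and those avoiding `M`. -/
theorem ChiefBound.step {M N : Subgroup G} [M.Normal] (hM : ChiefBound p M)
    (h : ∀ H K : Subgroup G, H.Normal → K.Normal → K < H → H ≤ N → IsChiefPair K H →
      (∃ n, K.relIndex H = p ^ n) → H ⊓ M ≤ K → K.relIndex H ≤ p ^ 2) : ChiefBound p N := by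
  intro H K hH hK hlt hle hc hp
  haveI := hH
  haveI := hK
  rcases hc.cases hlt.le M with h1 | h1
  · exact h H K hH hK hlt hle hc hp h1
  · obtain ⟨h2, h3, h4⟩ := hc.inf hlt M h1
    rw [← h4] at hp ⊢
    exact hM _ _ inferInstance inferInstance h2 inf_le_right h3 hp

omit [Finite G] in
/-- A factor avoiding `M` embeds in `N/M`. -/
theorem relIndex_dvd_of_inf_le {M N H K : Subgroup G} [M.Normal] (hHN : H ≤ N) (hMN : M ≤ N)
    (h : H ⊓ M ≤ K) : K.relIndex H ∣ M.relIndex N := by
  have h1 : K.relIndex H ∣ M.relIndex H := by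
    have := relIndex_dvd_of_le_left (L := H) h
    rwa [inf_comm, inf_relIndex_right] at this
  refine h1.trans ?_
  rw [relIndex, relIndex, ← relIndex_top_right (M.subgroupOf N)]
  have h2 : (M.subgroupOf N).relIndex (H.subgroupOf N) = M.relIndex H := by
    rw [relIndex_subgroupOf hHN]
  show (M.subgroupOf H).index ∣ _
  rw [show (M.subgroupOf H).index = M.relIndex H from rfl, ← h2, relIndex_top_right]
  exact relIndex_dvd_index_of_normal _ _

theorem chiefBound_of_card_le (N : Subgroup G) (hN : Nat.card N ≤ p ^ 2) : ChiefBound p N :=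
  fun H K _ _ _ hle _ _ => (Nat.le_of_dvd Nat.card_pos (relIndex_dvd_card K H)).trans
    ((Subgroup.card_le_of_le hle).trans hN)

/-- A factor avoiding the kernel survives in the image. -/
theorem isChiefPair_map {K H N : Subgroup G} [N.Normal] [H.Normal] [K.Normal] (hKH : K < H)
    (hc : IsChiefPair K H) (hN : H ⊓ N ≤ K) :
    K.map (QuotientGroup.mk' N) < H.map (QuotientGroup.mk' N) ∧
      IsChiefPair (K.map (QuotientGroup.mk' N)) (H.map (QuotientGroup.mk' N)) ∧
      (K.map (QuotientGroup.mk' N)).relIndex (H.map (QuotientGroup.mk' N)) = K.relIndex H := by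
  set f := QuotientGroup.mk' N
  have hsurj : Function.Surjective f := QuotientGroup.mk'_surjective N
  have hmod := inf_sup_eq_self hKH.le hN
  have hker : f.ker = N := QuotientGroup.ker_mk' N
  have hrel : (K.map f).relIndex (H.map f) = K.relIndex H := by
    rw [relIndex_map_map, hker]
    have h1 : H ⊔ N = H ⊔ (K ⊔ N) := by rw [← sup_assoc, sup_eq_left.mpr hKH.le]
    rw [h1, relIndex_sup_right, ← inf_relIndex_right, inf_comm, hmod]
  refine ⟨lt_of_le_of_ne (Subgroup.map_mono hKH.le) fun h => hKH.ne ?_, fun L hL hKL hLH => ?_, hrel⟩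
  · rw [h, relIndex_self] at hrel
    exact le_antisymm hKH.le (relIndex_eq_one.mp hrel.symm)
  · haveI := hL
    have hLn : (L.comap f).Normal := hL.comap f
    rcases hc (L.comap f ⊓ H) inferInstance (le_inf (map_le_iff_le_comap.mp hKL) hKH.le) inf_le_right
      with h1 | h1
    · refine Or.inl (le_antisymm (fun x hx => ?_) hKL)
      obtain ⟨h, hh, rfl⟩ := hLH hx
      exact mem_map_of_mem f (h1.le ⟨hx, hh⟩)
    · exact Or.inr (le_antisymm hLH (map_le_iff_le_comap.mpr (h1.ge.trans inf_le_left)))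

theorem chiefBound_of_pCentral_aux [Fact p.Prime] (hp2 : p ≠ 2) :
    ∀ (n : ℕ) (G : Type u) [Group G] [Finite G], Nat.card G ≤ n →
      ∀ (C : Subgroup G) [C.Normal], IsPGroup p C → ∀ hc : PGroups.IsPCentralIn p C,
        Nat.card (PGroups.torsionIn hc) ≤ p ^ 2 → ChiefBound p C
  | 0, G, _, _, hn, _, _, _, _, _ => absurd Nat.card_pos (not_lt.mpr hn)
  | n + 1, G, _, _, hn, C, _, hC, hc, hE => by
    by_cases hC1 : C = ⊥
    · intro H K _ _ hlt hle _ _
      rw [hC1, le_bot_iff] at hle
      exact absurd (hle ▸ hlt) not_lt_bot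
    haveI := PGroups.torsionIn_normal hc
    set E := PGroups.torsionIn hc with hEdef
    have hEne : E ≠ ⊥ := by
      intro h
      obtain ⟨x, hx⟩ := exists_prime_orderOf_dvd_card' (G := C) p (by
        obtain ⟨m, hm⟩ := IsPGroup.iff_card.mp hC
        rcases Nat.eq_zero_or_pos m with h0 | h0
        · exact absurd (card_eq_one.mp (by rw [hm, h0, pow_zero])) hC1
        · exact hm ▸ dvd_pow_self p h0.ne')
      have : (x : G) ∈ E := ⟨x.2, by rw [← hx, ← Subgroup.orderOf_coe, pow_orderOf_eq_one]⟩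
      rw [h, mem_bot, ← orderOf_eq_one_iff, Subgroup.orderOf_coe, hx] at this
      exact (Fact.out : p.Prime).one_lt.ne' this
    refine (chiefBound_of_card_le E hE).step fun H K hH hK hlt hle hch hpow hav => ?_
    haveI := hH
    haveI := hK
    obtain ⟨h1, h2, h3⟩ := isChiefPair_map hlt hch hav
    set f := QuotientGroup.mk' E with hf
    haveI : (C.map f).Normal := Subgroup.Normal.map ‹_› _ (QuotientGroup.mk'_surjective E)
    -- the image is again `p`-central, with no more elements of order `p`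
    have hcT : PGroups.IsPCentralIn p (⊤ : Subgroup C) := fun x _ hx y _ =>
      Subtype.ext (hc x x.2 (congrArg Subtype.val hx) y y.2).eq
    have hlift : ∀ x ∈ C, f x ^ p = 1 → x ^ p ∈ E := fun x _ h =>
      (QuotientGroup.eq_one_iff _).mp (show f (x ^ p) = 1 by rw [map_pow, h])
    have hc' : PGroups.IsPCentralIn p (C.map f) := by
      rintro _ ⟨x, hx, rfl⟩ hxp _ ⟨c, hcC, rfl⟩
      have hxE := hlift x hx hxp
      have h5 := PGroups.commutatorElement_pow_eq_one hC hp2 ⊤ hcT ⟨x, hx⟩ (mem_top _)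
        (fun d _ => Subtype.ext (hc _ hxE.1 hxE.2 d d.2).eq) ⟨c, hcC⟩ (mem_top _)
      refine Commute.symm ?_
      rw [← commutatorElement_eq_one_iff_commute, ← map_commutatorElement]
      exact (QuotientGroup.eq_one_iff _).mpr
        ⟨(⁅(⟨c, hcC⟩ : C), (⟨x, hx⟩ : C)⁆).2, congrArg Subtype.val h5⟩
    have hE' : Nat.card (PGroups.torsionIn hc') ≤ Nat.card E := by
      have hl : ∀ t : PGroups.torsionIn hc', ∃ x : G, x ∈ C ∧ x ^ p ∈ E ∧ f x = t := by
        intro t
        obtain ⟨x, hx, hxt⟩ := t.2.1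
        exact ⟨x, hx, hlift x hx (by rw [hxt]; exact t.2.2), hxt⟩
      choose g hgC hgp hgt using hl
      refine Nat.card_le_card_of_injective (fun t => (⟨g t ^ p, hgp t⟩ : E)) fun s t hst => ?_
      have e1 : g s ^ p = g t ^ p := congrArg Subtype.val hst
      have h6 := PGroups.mul_pow_of_pow_central hC hp2 hcT
        (x := (⟨g s, hgC s⟩ : C)⁻¹) (y := ⟨g t, hgC t⟩) (mem_top _) (mem_top _)
        (fun d _ => by
          rw [inv_pow]
          exact Commute.inv_left (Subtype.ext (hc _ (hgp s).1 (hgp s).2 d d.2).eq))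
      have h7 : ((g s)⁻¹ * g t) ^ p = 1 := by
        have := congrArg Subtype.val h6
        push_cast at this
        rw [this, inv_pow, e1, inv_mul_cancel]
      apply Subtype.ext
      rw [← hgt s, ← hgt t]
      exact QuotientGroup.eq.mpr ⟨C.mul_mem (C.inv_mem (hgC s)) (hgC t), h7⟩
    have hlt' : Nat.card (G ⧸ E) ≤ n := by
      have h := E.card_eq_card_quotient_mul_card_subgroup
      have : Nat.card (G ⧸ E) < Nat.card (G ⧸ E) * Nat.card E :=
        lt_mul_of_one_lt_right Nat.card_pos ((Subgroup.one_lt_card_iff_ne_bot E).mpr hEne)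
      omega
    have := chiefBound_of_pCentral_aux hp2 n (G ⧸ E) hlt' (C.map f) (hC.map f) hc' (hE'.trans hE)
      _ _ (hH.map f (QuotientGroup.mk'_surjective E)) (hK.map f (QuotientGroup.mk'_surjective E)) h1
      (Subgroup.map_mono hle) h2 (by rw [h3]; exact hpow)
    rwa [h3] at this

/-- `p`-central normal `p`-subgroups with at most `p ^ 2` elements of order dividing `p`. -/
theorem chiefBound_of_pCentral [Fact p.Prime] (hp2 : p ≠ 2) (C : Subgroup G) [C.Normal]
    (hC : IsPGroup p C) (hc : PGroups.IsPCentralIn p C)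
    (hE : Nat.card (PGroups.torsionIn hc) ≤ p ^ 2) : ChiefBound p C :=
  chiefBound_of_pCentral_aux hp2 _ G le_rfl C hC hc hE

end Cfsg.Agent.H48
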