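import Cfsg.Agent.H56.ChevAut.Counts

/-!
# The outer automorphism group of `D₄(3)`

`Out(D₄(F))`, `|F| = 3`, is the extension of the diagonal four-group by the six diagram symmetries, the
triality acting fixed-point-freely.  Consequently any two subgroups isomorphic to `S₃` are conjugate,
and an extension of `D₄(3)` by `S₃` with trivial centralizer is unique.
-/

set_option autoImplicit false
set_option maxRecDepth 100000

namespace Cfsg.Agent.H48.D4Three

open Cfsg.Lie Cfsg.Agent.H37 Cfsg.Agent.H56.ChevAut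
open scoped Pointwise

/-! ### Complements with a fixed-point-free element of order three -/

/-- A normal subgroup meeting a copy of `S₃` in a 2-group meets it trivially. -/
theorem inf_eq_bot {O : Type*} [Group O] [Finite O] (D X : Subgroup O) [D.Normal]
    (hD : Nat.card D = 4) (e : ↥X ≃* Equiv.Perm (Fin 3)) : D ⊓ X = ⊥ := by
  have hdvd : Nat.card (D.subgroupOf X) ∣ 4 := by
    rw [← hD]
    let f : ↥(D.subgroupOf X) →* ↥D :=
      (X.subtype.comp (D.subgroupOf X).subtype).codRestrict D fun z => z.2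
    refine Subgroup.card_dvd_of_injective f fun a b h => Subtype.ext (Subtype.ext ?_)
    exact congrArg (fun z : ↥D => (z : O)) h
  set K : Subgroup (Equiv.Perm (Fin 3)) := (D.subgroupOf X).map e.toMonoidHom with hK
  have hKn : K.Normal := Subgroup.Normal.map inferInstance _ e.surjective
  have hKc : Nat.card K ∣ 4 := by
    rw [hK, Nat.card_congr ((D.subgroupOf X).equivMapOfInjective e.toMonoidHom e.injective).toEquiv.symm]
    exact hdvd
  have hKbot : K = ⊥ := by
    rw [eq_bot_iff]
    intro k hk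
    rw [Subgroup.mem_bot]
    have h4 : k ^ 4 = 1 := orderOf_dvd_iff_pow_eq_one.1
      ((Subgroup.orderOf_dvd_natCard K hk).trans hKc)
    have hconj : ∀ g : Equiv.Perm (Fin 3), (k * (g * k * g⁻¹)) ^ 4 = 1 := fun g =>
      orderOf_dvd_iff_pow_eq_one.1
        ((Subgroup.orderOf_dvd_natCard K (mul_mem hk (hKn.conj_mem k hk g))).trans hKc)
    revert h4 hconj
    clear hk
    revert k
    decide
  rw [eq_bot_iff]
  intro x hx
  have h1 : e ⟨x, hx.2⟩ ∈ K := ⟨⟨x, hx.2⟩, Subgroup.mem_subgroupOf.2 hx.1, rfl⟩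
  rw [hKbot, Subgroup.mem_bot, MulEquiv.map_eq_one_iff] at h1
  exact congrArg Subtype.val h1

/-- All copies of `S₃` are conjugate in a group of order 24 with a normal four-group on which every
element of order three acts without fixed points. -/
theorem exists_conj {O : Type*} [Group O] [Finite O] (D : Subgroup O) [D.Normal]
    (hD : Nat.card D = 4) (hO : Nat.card O = 24)
    (hfpf : ∀ x : O, orderOf x = 3 → ∀ d ∈ D, x * d = d * x → d = 1)
    (X X' : Subgroup O) (e : ↥X ≃* Equiv.Perm (Fin 3)) (e' : ↥X' ≃* Equiv.Perm (Fin 3)) :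
    ∃ o : O, X.map (MulAut.conj o).toMonoidHom = X' := by
  haveI : Fact (Nat.Prime 3) := ⟨Nat.prime_three⟩
  -- the Sylow `3`-subgroup of each copy, and its normalizer
  have key : ∀ Y : Subgroup O, (↥Y ≃* Equiv.Perm (Fin 3)) → ∃ P : Sylow 3 O,
      Y = Subgroup.normalizer ((P : Subgroup O) : Set O) := by
    intro Y f
    have hY : Nat.card Y = 6 := by
      rw [Nat.card_congr f.toEquiv, Nat.card_eq_fintype_card, Fintype.card_perm, Fintype.card_fin]
      rfl
    obtain ⟨y, hy⟩ := exists_prime_orderOf_dvd_card' (G := ↥Y) 3 (by rw [hY]; decide)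
    have hyo : orderOf (y : O) = 3 := (orderOf_injective Y.subtype Y.subtype_injective y).trans hy
    have hcard : Nat.card (Subgroup.zpowers (y : O)) = 3 ^ (Nat.card O).factorization 3 := by
      rw [Nat.card_zpowers, hyo, hO, show (24 : ℕ) = 2 ^ 3 * 3 by rfl,
        Nat.factorization_mul (by norm_num) (by norm_num)]
      simp [Nat.prime_three.factorization,
        Nat.factorization_eq_zero_of_not_dvd (show ¬ 3 ∣ 8 by norm_num)]
    refine ⟨Sylow.ofCard (Subgroup.zpowers (y : O)) hcard, ?_⟩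
    have hle : Y ≤ Subgroup.normalizer ((Subgroup.zpowers (y : O) : Subgroup O) : Set O) := by
      intro z hz
      have hn : (Subgroup.zpowers y).Normal := by
        apply Subgroup.normal_of_index_eq_two
        have := (Subgroup.zpowers y).card_mul_index
        rw [Nat.card_zpowers, hy, hY] at this
        omega
      rw [Subgroup.mem_normalizer_iff]
      intro u
      constructor
      · rintro ⟨k, rfl⟩
        obtain ⟨j, hj⟩ := hn.conj_mem _ ⟨k, rfl⟩ (⟨z, hz⟩ : ↥Y)
        exact ⟨j, by simpa using congrArg Subtype.val hj⟩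
      · rintro ⟨k, hk⟩
        obtain ⟨j, hj⟩ := hn.conj_mem _ ⟨k, rfl⟩ (⟨z, hz⟩⁻¹ : ↥Y)
        refine ⟨j, ?_⟩
        have hj' : (y : O) ^ j = z⁻¹ * (y : O) ^ k * z := by
          simpa using congrArg Subtype.val hj
        show (y : O) ^ j = u
        rw [hj', show (y : O) ^ k = z * u * z⁻¹ from hk]
        group
    refine Subgroup.eq_of_le_of_card_ge hle ?_
    -- the normalizer meets `D` trivially
    rw [hY]
    set N := Subgroup.normalizer ((Subgroup.zpowers (y : O) : Subgroup O) : Set O) with hN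
    change Nat.card N ≤ 6
    have hND : N ⊓ D = ⊥ := by
      rw [eq_bot_iff]
      intro d hd
      have h1 : d * y * d⁻¹ ∈ Subgroup.zpowers (y : O) :=
        (Subgroup.mem_normalizer_iff.1 hd.1 _).1 (Subgroup.mem_zpowers _)
      have h2 : d * y * d⁻¹ * (y : O)⁻¹ ∈ Subgroup.zpowers (y : O) :=
        mul_mem h1 (inv_mem (Subgroup.mem_zpowers _))
      have h3 : d * y * d⁻¹ * (y : O)⁻¹ ∈ D := by
        have := mul_mem hd.2 ((inferInstance : D.Normal).conj_mem _ (inv_mem hd.2) (y : O))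
        simpa [mul_assoc] using this
      have h4 : d * y * d⁻¹ * (y : O)⁻¹ = 1 := by
        have a1 := Subgroup.orderOf_dvd_natCard _ h2
        have a2 := Subgroup.orderOf_dvd_natCard _ h3
        rw [Nat.card_zpowers, hyo] at a1
        rw [hD] at a2
        rw [← orderOf_eq_one_iff]
        exact Nat.dvd_one.1 ((show Nat.Coprime 3 4 by decide).gcd_eq_one ▸ Nat.dvd_gcd a1 a2)
      rw [Subgroup.mem_bot]
      refine hfpf _ hyo d hd.2 ?_
      rw [mul_inv_eq_one, mul_inv_eq_iff_eq_mul] at h4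
      exact h4.symm
    have hinj : Function.Injective fun p : ↥N × ↥D => (p.1 : O) * p.2 := by
      rintro ⟨a, b⟩ ⟨a', b'⟩ h
      have h' : (a' : O)⁻¹ * a = (b' : O) * (b : O)⁻¹ := by
        rw [eq_mul_inv_iff_mul_eq, mul_assoc, inv_mul_eq_iff_eq_mul]
        exact h
      have hm : (a' : O)⁻¹ * a ∈ N ⊓ D :=
        Subgroup.mem_inf.2 ⟨mul_mem (inv_mem a'.2) a.2, h' ▸ mul_mem b'.2 (inv_mem b.2)⟩
      rw [hND, Subgroup.mem_bot, inv_mul_eq_one] at hm
      have e1 : a' = a := Subtype.ext hm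
      subst e1
      exact Prod.ext rfl (Subtype.ext (mul_left_cancel h))
    have := Nat.card_le_card_of_injective _ hinj
    rw [Nat.card_prod, hD, hO] at this
    omega
  obtain ⟨P, hP⟩ := key X e
  obtain ⟨P', hP'⟩ := key X' e'
  obtain ⟨o, ho⟩ := MulAction.exists_smul_eq O P P'
  refine ⟨o, ?_⟩
  have h : ((o • P : Sylow 3 O) : Subgroup O) = MulAut.conj o • (P : Subgroup O) := rfl
  rw [hP, hP', ← ho, h, Subgroup.map_equiv_normalizer_eq]
  rfl

/-! ### Extensions with trivial centralizer -/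

/-- An extension with trivial centralizer is the preimage of its image in the outer automorphism
group. -/
theorem exists_embedding {G : Type*} [Group G] (N : Subgroup G) [N.Normal]
    (hC : Subgroup.centralizer (N : Set G) = ⊥) {T : Type*} [Group T] (e : ↥N ≃* T) :
    ∃ X : Subgroup (Cfsg.Out T), Nonempty (G ⧸ N ≃* ↥X) ∧
      Nonempty (G ≃* ↥(X.comap (QuotientGroup.mk' (Cfsg.Inn T)))) := by
  let tr : MulAut ↥N ≃* MulAut T := MulAut.congr e
  let ψ : G →* MulAut T := tr.toMonoidHom.comp MulAut.conjNormal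
  have hψ : ∀ (g : G) (n : ↥N), ψ g (e n) = e (MulAut.conjNormal g n) := fun g n => by
    simp [ψ, tr, MulAut.congr]
  have hψn : ∀ n : ↥N, ψ n = MulAut.conj (e n) := by
    intro n
    refine MulEquiv.ext fun t => ?_
    obtain ⟨m, rfl⟩ := e.surjective t
    rw [hψ, MulAut.conj_apply, ← map_mul, ← map_inv, ← map_mul]
    exact congrArg e (Subtype.ext (by simp))
  have hinj : Function.Injective ψ := by
    rw [← MonoidHom.ker_eq_bot_iff, eq_bot_iff]
    intro g hg
    rw [← hC, Subgroup.mem_centralizer_iff]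
    intro n hn
    have h1 := congrArg (fun φ : MulAut T => φ (e ⟨n, hn⟩)) (MonoidHom.mem_ker.1 hg)
    simp only [hψ, MulAut.one_apply, EmbeddingLike.apply_eq_iff_eq] at h1
    have h2 : g * n * g⁻¹ = n := by simpa using congrArg Subtype.val h1
    rw [mul_inv_eq_iff_eq_mul] at h2
    exact h2.symm
  set φ : G →* Cfsg.Out T := (QuotientGroup.mk' (Cfsg.Inn T)).comp ψ with hφ
  have hker : φ.ker = N := by
    ext g
    rw [MonoidHom.mem_ker, hφ, MonoidHom.comp_apply]
    constructor
    · intro h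
      obtain ⟨t, ht⟩ := (QuotientGroup.eq_one_iff _).1 h
      obtain ⟨n, rfl⟩ := e.surjective t
      have : g = n := hinj (by rw [hψn]; exact ht.symm)
      rw [this]
      exact n.2
    · intro h
      exact (QuotientGroup.eq_one_iff _).2 ⟨e ⟨g, h⟩, (hψn ⟨g, h⟩).symm⟩
  refine ⟨φ.range, ⟨(QuotientGroup.quotientMulEquivOfEq hker.symm).trans
    (QuotientGroup.quotientKerEquivRange φ)⟩, ⟨(MonoidHom.ofInjective hinj).trans
      (MulEquiv.subgroupCongr ?_)⟩⟩
  ext a
  constructor
  · rintro ⟨g, rfl⟩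
    exact ⟨g, rfl⟩
  · rintro ⟨g, hg⟩
    obtain ⟨z, ⟨t, rfl⟩, hz⟩ := (QuotientGroup.mk'_eq_mk' _).1 hg
    obtain ⟨n, rfl⟩ := e.surjective t
    exact ⟨g * n, by rw [map_mul, hψn]; exact hz⟩

/-! ### The action of triality on the diagonal four-group -/

variable {F : Type*} [Field F]

/-- The product of two outer coordinates. -/
def psi : (Fin chevD4.rank → Fˣ) →* Fˣ where
  toFun c := c ⟨0, by decide⟩ * c ⟨3, by decide⟩
  map_one' := mul_one 1
  map_mul' c d := by simp only [Pi.mul_apply]; exact mul_mul_mul_comm _ _ _ _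

theorem parity : ∀ r : Fin chevD4.nroots,
    (Chevalley.pairingSum chevD4 r.1 (chevD4.simple 0) +
      Chevalley.pairingSum chevD4 r.1 (chevD4.simple 3)) % 2 = 0 := by decide +kernel

theorem unit_sq [Fintype F] (hF : Fintype.card F = 3) (u : Fˣ) : u ^ (2 : ℤ) = 1 := by
  classical
  have h := pow_card_eq_one (x := u)
  rw [Fintype.card_units, hF] at h
  exact_mod_cast h

variable (S : Setup chevD4 F)

/-- Inner diagonal automorphisms lie in the kernel of `psi`. -/
theorem conj_H_psi [Fintype F] (hF : Fintype.card F = 3) {h : ↥(chevD4.group F)}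
    (hh : h ∈ S.Q.amb.H) : MulAut.conj h ∈ (psi (F := F)).ker.map S.diagHom := by
  have hh' : (h : GL chevD4.Idx F) ∈ chevD4.diagonalSubgroup F := hh
  have hle : chevD4.diagonalSubgroup F ≤
      ((((psi (F := F)).ker.map S.diagHom).comap
        (MulAut.conj : ↥(chevD4.group F) →* MulAut ↥(chevD4.group F))).map
          (chevD4.group F).subtype) := by
    refine (Subgroup.closure_le _).2 ?_
    rintro g ⟨r, t, hr, ht0, hg⟩
    obtain rfl : g = S.Q.K.hU F r t := Units.ext (hg.trans (S.Q.K.coe_hU F r t).symm)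
    set u : Fˣ := Units.mk0 t ht0
    have hmem : S.Q.K.hU F r t ∈ chevD4.group F :=
      diagonal_le_group S.Q.ord (Chevalley.Cert.hU_mem S.Q.K F hr ht0)
    refine ⟨⟨_, hmem⟩, ⟨fun j => u ^ Chevalley.pairingSum chevD4 r (chevD4.simple j), ?_, ?_⟩, rfl⟩
    · show psi _ = 1
      simp only [psi, MonoidHom.coe_mk, OneHom.coe_mk, ← zpow_add]
      obtain ⟨k, hk⟩ := Int.dvd_of_emod_eq_zero (parity ⟨r, hr⟩)
      rw [hk, zpow_mul, unit_sq hF, one_zpow]
    have hneg : ∀ j : Fin chevD4.rank,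
        Chevalley.pairingSum chevD4 r (chevD4.neg (chevD4.simple j)) =
          -Chevalley.pairingSum chevD4 r (chevD4.simple j) := by
      intro j
      simp only [Chevalley.pairingSum, ← Finset.sum_neg_distrib]
      refine Finset.sum_congr rfl fun m hm => ?_
      have hm' := Finset.mem_range.1 hm
      rw [← mul_neg]
      congr 1
      rw [S.Q.K.cartan_lin m hm' _ (S.Q.K.neg_lt (S.simple_lt j)),
        S.Q.K.cartan_lin m hm' _ (S.simple_lt j), Chevalley.list_sum_range_map,
        Chevalley.list_sum_range_map, ← Finset.sum_neg_distrib]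
      refine Finset.sum_congr rfl fun k hk => ?_
      rw [S.Q.K.cf_neg _ (S.simple_lt j) k (Finset.mem_range.1 hk), neg_mul]
    refine S.aut_ext (fun j s => ?_) (fun j s => ?_)
    · rw [Setup.diagHom_apply, Setup.diagAut_xs]
      refine Subtype.ext ?_
      exact (S.Q.K.hU_conj_xU F hr (S.simple_lt j) u s).symm
    · rw [Setup.diagHom_apply, Setup.diagAut_ys, ← zpow_neg, ← hneg]
      refine Subtype.ext ?_
      exact (S.Q.K.hU_conj_xU F hr (S.Q.K.neg_lt (S.simple_lt j)) u s).symm
  obtain ⟨h', hh'', e⟩ := hle hh'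
  rwa [← Subtype.ext (a1 := h') (a2 := h) e]

theorem psi_eq_one [Fintype F] (hF : Fintype.card F = 3) {c : Fin chevD4.rank → Fˣ}
    (hc : S.diagOut c = 1) : psi c = 1 := by
  obtain ⟨x, hx⟩ := (QuotientGroup.eq_one_iff _).1 hc
  have hxH : x ∈ S.Q.amb.H := S.conj_std_mem_H (hx ▸ S.diag_std c)
  obtain ⟨c', hc', e⟩ := conj_H_psi S hF hxH
  rw [← S.diagHom_injective (e.trans hx)]
  exact hc'

/-- Some element moves some diagonal class. -/
theorem exists_moved [Fintype F] (hF : Fintype.card F = 3) :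
    ∃ (x : Cfsg.Out ↥(chevD4.group F)) (c : Fin chevD4.rank → Fˣ),
      S.symOut x = piD4a ∧ x * S.diagOut c ≠ S.diagOut c * x := by
  classical
  obtain ⟨x, hx⟩ := S.mem_range_of_sym Sym.goodD4a piD4a rootMap_D4a
  obtain ⟨θ, rfl⟩ := QuotientGroup.mk'_surjective _ x
  have hsym := hx
  rw [Setup.symOut_mk] at hx
  obtain ⟨a, hU, hV⟩ := S.exists_inner θ
  obtain ⟨σ, c₀, f, -, -, hπ, hfx, hfy⟩ := S.exists_frame hU hV
  rw [S.outSym_eq ⟨hU, hV⟩ hπ] at hx
  subst hx
  obtain ⟨u, hu⟩ : ∃ u : Fˣ, u ≠ 1 := by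
    have : Nontrivial Fˣ := by
      rw [← Fintype.one_lt_card_iff_nontrivial, Fintype.card_units, hF]; norm_num
    exact exists_ne 1
  let c : Fin chevD4.rank → Fˣ := Pi.mulSingle ⟨0, by decide⟩ u
  set c'' : Fin chevD4.rank → Fˣ := fun k =>
    Units.map (f : F →+* F).toMonoidHom (c (Equiv.symm piD4a k)) ^
      gexp chevD4 F piD4a (Equiv.symm piD4a k)
  have e : θ.trans (MulAut.conj a) * S.diagHom c = S.diagHom c'' * θ.trans (MulAut.conj a) := by
    refine S.aut_ext (fun i t => ?_) (fun i t => ?_)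
    · rw [MulAut.mul_apply, MulAut.mul_apply, Setup.diagHom_apply, Setup.diagHom_apply,
        Setup.diagAut_xs, hfx, hfx, Setup.diagAut_xs, map_mul, mul_pow]
      simp only [c'', Equiv.symm_apply_apply, Units.val_pow_eq_pow_val, Units.coe_map]
      congr 1
      simp only [RingHom.toMonoidHom_eq_coe, MonoidHom.coe_coe, RingHom.coe_coe]
      erw [Equiv.symm_apply_apply]
      ring
    · rw [MulAut.mul_apply, MulAut.mul_apply, Setup.diagHom_apply, Setup.diagHom_apply,
        Setup.diagAut_ys, hfy, hfy, Setup.diagAut_ys, map_mul, mul_pow]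
      simp only [c'', Equiv.symm_apply_apply, Units.val_pow_eq_pow_val, Units.coe_map,
        Units.val_inv_eq_inv_val, map_inv₀, inv_pow]
      congr 1
      simp only [RingHom.toMonoidHom_eq_coe, MonoidHom.coe_coe, RingHom.coe_coe]
      erw [Equiv.symm_apply_apply]
      ring
  refine ⟨_, c, hsym, fun hcomm => hu ?_⟩
  have e' := congrArg (QuotientGroup.mk' (Cfsg.Inn ↥(chevD4.group F))) e
  rw [map_mul, map_mul, S.mk_conj_mul a θ] at e'
  change _ * S.diagOut c = S.diagOut c'' * _ at e'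
  rw [hcomm] at e'
  have h1 : S.diagOut (c * c''⁻¹) = 1 := by
    rw [map_mul, map_inv, mul_inv_eq_one]
    exact mul_right_cancel e'
  have h2 := psi_eq_one S hF h1
  have h3 : Equiv.symm piD4a (⟨0, by decide⟩ : Fin chevD4.rank) ≠ ⟨0, by decide⟩ ∧
      Equiv.symm piD4a (⟨3, by decide⟩ : Fin chevD4.rank) ≠ ⟨0, by decide⟩ := by decide
  have h4 : psi c'' = 1 := by
    simp only [psi, MonoidHom.coe_mk, OneHom.coe_mk, c'', c]
    erw [Pi.mulSingle_eq_of_ne h3.1]
    try erw [Pi.mulSingle_eq_of_ne h3.2]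
    simp
  have h5 : psi c = u := by
    simp only [psi, MonoidHom.coe_mk, OneHom.coe_mk, c, Pi.mulSingle_eq_same]
    rw [Pi.mulSingle_eq_of_ne (by decide), mul_one]
  rw [map_mul, map_inv, h4, h5, inv_one, mul_one] at h2
  exact h2

/-- The structure of `Out(D₄(F))` for `|F| = 3`. -/
theorem out_structure [Fintype F] (hF : Fintype.card F = 3) :
    ∃ D : Subgroup (Cfsg.Out ↥(chevD4.group F)), D.Normal ∧ Nat.card D = 4 ∧
      Nat.card (Cfsg.Out ↥(chevD4.group F)) = 24 ∧
      ∀ x : Cfsg.Out ↥(chevD4.group F), orderOf x = 3 → ∀ d ∈ D, x * d = d * x → d = 1 := by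
  haveI : Fact (Nat.Prime 3) := ⟨Nat.prime_three⟩
  obtain ⟨S⟩ := exists_setup (D := chevD4) (by simp) F
  haveI := S.normal_diagOut
  have hd : Nat.card S.diagOut.range = 4 := by
    have h1 := S.card_diagOut
    have h2 := Chev.diag_D4 (F := F)
    have hq : Nat.card F = 3 := by rw [Nat.card_eq_fintype_card, hF]
    rw [hq] at h1 h2
    rw [show Nat.gcd 2 (3 - 1) ^ 2 = 4 from rfl] at h2
    exact Nat.eq_of_mul_eq_mul_right Nat.card_pos (h1.trans h2.symm)
  have hr : Nat.card (RingAut F) = 1 := card_ringAut (p := 3) le_rfl (by rw [hF, pow_one])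
  have hO : Nat.card (Cfsg.Out ↥(chevD4.group F)) = 24 := by
    rw [S.card_out, (range_D4 S).1, hd, hr]
  haveI : Finite (Cfsg.Out ↥(chevD4.group F)) := inferInstance
  refine ⟨_, S.normal_diagOut, hd, hO, fun x hx => ?_⟩
  set D := S.diagOut.range
  have hab : ∀ a ∈ D, ∀ b ∈ D, a * b = b * a := by
    rintro _ ⟨a, rfl⟩ _ ⟨b, rfl⟩
    rw [← map_mul, ← map_mul, mul_comm]
  by_contra hcon
  push Not at hcon
  obtain ⟨d, hd', hxd, hd1⟩ := hcon
  -- `x` centralizes all of `D`
  have hall : ∀ e ∈ D, x * e = e * x := by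
    intro e he
    by_contra hne
    have hconj : ∀ z ∈ D, x * z * x⁻¹ ∈ D := fun z hz => S.normal_diagOut.conj_mem z hz x
    have he1 : e ≠ 1 := fun h => hne (by rw [h, mul_one, one_mul])
    have hed : e ≠ d := fun h => hne (h ▸ hxd)
    have hx3 : x ^ 3 = 1 := hx ▸ pow_orderOf_eq_one x
    set e2 := x * e * x⁻¹ with he2
    set e3 := x * e2 * x⁻¹ with he3
    have hfix : x * d * x⁻¹ = d := by rw [hxd, mul_inv_cancel_right]
    have n1 : e2 ≠ e := fun h => hne (mul_inv_eq_iff_eq_mul.1 h)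
    have n2 : e3 ≠ e := by
      intro h
      refine n1 ?_
      have hx3' : x * e3 * x⁻¹ = e := by
        have : x * e3 * x⁻¹ = x ^ 3 * e * (x ^ 3)⁻¹ := by rw [he3, he2]; simp [pow_succ, mul_assoc]
        rw [this, hx3]; simp
      rw [h] at hx3'
      exact hx3'
    have n3 : e3 ≠ e2 := fun h => n1 (by
      rw [he3] at h
      exact mul_left_cancel (mul_right_cancel h))
    have hinj : ∀ z w, x * z * x⁻¹ = x * w * x⁻¹ → z = w := fun z w h =>
      mul_left_cancel (mul_right_cancel h)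
    have m2 : e2 ≠ d := fun h => hed (hinj _ _ (h.trans hfix.symm))
    have m3 : e3 ≠ d := fun h => m2 (hinj _ _ (h.trans hfix.symm))
    have o2 : e2 ≠ 1 := fun h => he1 (hinj _ _ (h.trans (by simp)))
    have o3 : e3 ≠ 1 := fun h => o2 (hinj _ _ (h.trans (by simp)))
    classical
    have h5 : ({1, d, e, e2, e3} : Finset (Cfsg.Out ↥(chevD4.group F))).card = 5 := by
      simp [Ne.symm hd1, Ne.symm he1, Ne.symm o2, Ne.symm o3, Ne.symm hed, Ne.symm m2, Ne.symm m3,
        Ne.symm n1, Ne.symm n2, Ne.symm n3]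
    have hsub : (({1, d, e, e2, e3} : Finset (Cfsg.Out ↥(chevD4.group F))) : Set (Cfsg.Out ↥(chevD4.group F))) ⊆
        (D : Set (Cfsg.Out ↥(chevD4.group F))) := by
      intro z hz
      simp only [Finset.coe_insert, Finset.coe_singleton, Set.mem_insert_iff,
        Set.mem_singleton_iff] at hz
      rcases hz with rfl | rfl | rfl | rfl | rfl
      exacts [one_mem D, hd', he, hconj _ he, hconj _ (hconj _ he)]
    have := Set.ncard_le_ncard hsub (Set.toFinite _)
    rw [Set.ncard_coe_finset, h5, ← Nat.card_coe_set_eq] at this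
    have hD4 : Nat.card D = 4 := hd
    change 5 ≤ Nat.card D at this
    omega
  -- so does every element of order three, hence everything above a 3-cycle
  have hcard : Nat.card (Subgroup.zpowers x) = 3 ^ (Nat.card (Cfsg.Out ↥(chevD4.group F))).factorization 3 := by
    rw [Nat.card_zpowers, hx, hO, show (24 : ℕ) = 2 ^ 3 * 3 by rfl,
      Nat.factorization_mul (by norm_num) (by norm_num)]
    simp [Nat.prime_three.factorization,
      Nat.factorization_eq_zero_of_not_dvd (show ¬ 3 ∣ 8 by norm_num)]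
  set Z := Subgroup.centralizer (D : Set (Cfsg.Out ↥(chevD4.group F)))
  have hxZ : x ∈ Z := Subgroup.mem_centralizer_iff.2 fun e he => (hall e he).symm
  obtain ⟨y, c, hy, hyc⟩ := exists_moved S hF
  apply hyc
  have hy3 : y ^ 4 ∈ Z := by
    have ho : orderOf (y ^ 4) ∣ 6 := by
      rw [orderOf_dvd_iff_pow_eq_one, ← pow_mul, show 4 * 6 = 24 from rfl, ← hO]
      exact pow_card_eq_one'
    have h2 : (y ^ 4) ^ 3 = 1 := by
      have hker : y ^ 12 ∈ D ⊔ S.fieldOut.range := by
        rw [← S.ker_symOut, MonoidHom.mem_ker, map_pow, hy]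
        decide
      haveI : Subsingleton ↥S.fieldOut.range := by
        have hs : Subsingleton (RingAut F) := (Nat.card_eq_one_iff_unique.1 hr).1
        exact ⟨by rintro ⟨_, a, rfl⟩ ⟨_, b, rfl⟩; exact Subtype.ext (by rw [Subsingleton.elim a b])⟩
      rw [S.fieldOut.range.eq_bot_of_subsingleton, sup_bot_eq] at hker
      have hy3' : y ^ 3 ∈ D ⊔ S.fieldOut.range := by
        rw [← S.ker_symOut, MonoidHom.mem_ker, map_pow, hy]
        decide
      rw [S.fieldOut.range.eq_bot_of_subsingleton, sup_bot_eq] at hy3'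
      have h4 : (y ^ 3) ^ 4 = 1 := orderOf_dvd_iff_pow_eq_one.1
        (hd ▸ Subgroup.orderOf_dvd_natCard D hy3')
      rw [← pow_mul] at h4 ⊢
      exact h4
    have hp : IsPGroup 3 (Subgroup.zpowers (y ^ 4)) := by
      refine IsPGroup.of_card_dvd_pow (n := 1) ?_
      rw [Nat.card_zpowers, pow_one]
      exact orderOf_dvd_of_pow_eq_one h2
    obtain ⟨Q, hQ⟩ := hp.exists_le_sylow
    obtain ⟨g, hg⟩ := MulAction.exists_smul_eq (Cfsg.Out ↥(chevD4.group F)) (Sylow.ofCard (Subgroup.zpowers x) hcard) Q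
    have hm : y ^ 4 ∈ MulAut.conj g • Subgroup.zpowers x := by
      have hm : y ^ 4 ∈ (g • Sylow.ofCard (Subgroup.zpowers x) hcard : Sylow 3 _).toSubgroup := by
        rw [hg]; exact hQ (Subgroup.mem_zpowers _)
      exact hm
    obtain ⟨w, hw, hwe⟩ := hm
    rw [← hwe]
    have hwZ : w ∈ Z := Subgroup.zpowers_le.2 hxZ hw
    show MulAut.conj g w ∈ Z
    rw [MulAut.conj_apply]
    exact (inferInstance : Z.Normal).conj_mem w hwZ g
  have hy3' : y ^ 3 ∈ Z := by
    have : y ^ 3 ∈ D := by
      have h := show y ^ 3 ∈ S.symOut.ker by rw [MonoidHom.mem_ker, map_pow, hy]; decide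
      rw [S.ker_symOut] at h
      haveI : Subsingleton ↥S.fieldOut.range := by
        have hs : Subsingleton (RingAut F) := (Nat.card_eq_one_iff_unique.1 hr).1
        exact ⟨by rintro ⟨_, a, rfl⟩ ⟨_, b, rfl⟩; exact Subtype.ext (by rw [Subsingleton.elim a b])⟩
      rwa [S.fieldOut.range.eq_bot_of_subsingleton, sup_bot_eq] at h
    exact Subgroup.mem_centralizer_iff.2 fun e he => hab e he _ this
  have hyZ : y ∈ Z := by
    have : y = y ^ 4 * (y ^ 3)⁻¹ := by rw [eq_mul_inv_iff_mul_eq, ← pow_succ']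
    rw [this]
    exact mul_mem hy3 (inv_mem hy3')
  exact (Subgroup.mem_centralizer_iff.1 hyZ _ ⟨c, rfl⟩).symm

end Cfsg.Agent.H48.D4Three
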