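import Cfsg.Agent.H48.SylowIn
import Cfsg.Agent.S1443
import Cfsg.Agent.S0096
import Cfsg.Agent.PGroups.Basic

/-!
# An abelian `p'`-group with a fixed-point-free automorphism of order `p` on a `p`-group

If the abelian `p'`-group `A` acts on the `p`-group `R`, the element `b` of order `p` normalizes
both, fixes no nontrivial element of `A`, and `A` centralizes every element of order `p` of
`C_R(b)`, then `A` centralizes `R` (`p` odd).
-/

set_option autoImplicit false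

namespace Cfsg.Agent.H48

open Subgroup
open scoped commutatorElement

/-- The last counting step: orbit sums of a fixed-point-free automorphism of order `p`. -/
theorem eq_one_of_orbit_prod {A : Type*} [Group A] [Finite A] {V : Type*} [CommGroup V] {p : ℕ}
    (hp : p.Prime) (hp2 : p ≠ 2) (τ : A ≃* A)
    (hτp : ∀ q, (τ : A → A)^[p] q = q)
    (hfpf : ∀ i, 0 < i → i < p → ∀ q, (τ : A → A)^[i] q = q → q = 1)
    (v : A → V) (hexp : ∀ x : V, x ^ p = 1) (hsum : [Fintype A] → ∏ q, v q = 1)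
    (horb : ∀ s, ∏ i ∈ Finset.range p, (v ((τ : A → A)^[i] s) * v ((τ : A → A)^[i] s)⁻¹) = 1) :
    v 1 = 1 := by
  classical
  haveI := Fintype.ofFinite A
  set f : A → A := (τ : A → A) with hf
  have hf1 : ∀ i, f^[i] 1 = 1 := fun i => Function.iterate_fixed (map_one τ) i
  have hfinj : ∀ i, Function.Injective f^[i] := fun i => τ.injective.iterate i
  have hper : ∀ i q, f^[i] q = f^[i % p] q := fun i q => by
    rw [← (show Function.IsPeriodicPt f p q from hτp q).iterate_mod_apply i]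
  let e := Fintype.equivFin A
  let T : Finset A := Finset.univ.filter fun s => s ≠ 1 ∧ ∀ i < p, e s ≤ e (f^[i] s)
  have hbij : ∀ w : A → V,
      ∏ x ∈ T ×ˢ Finset.range p, w (f^[x.2] x.1) = ∏ q ∈ Finset.univ.erase 1, w q := fun w => by
    refine Finset.prod_bij (fun x _ => f^[x.2] x.1) ?_ ?_ ?_ (fun _ _ => rfl)
    · intro x hx
      simp only [T, Finset.mem_product, Finset.mem_filter] at hx
      refine Finset.mem_erase.mpr ⟨fun h => hx.1.2.1 (hfinj x.2 (h.trans (hf1 _).symm)),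
        Finset.mem_univ _⟩
    · rintro ⟨s, i⟩ hx ⟨t, j⟩ hy hst
      simp only [T, Finset.mem_product, Finset.mem_filter, Finset.mem_range] at hx hy
      simp only at hst
      obtain ⟨k, hk, hks⟩ : ∃ k < p, f^[k] t = s := by
        refine ⟨(p - i + j) % p, Nat.mod_lt _ hp.pos, ?_⟩
        rw [← hper, Function.iterate_add_apply, ← hst, ← Function.iterate_add_apply,
          Nat.sub_add_cancel hx.2.le, hτp]
      obtain ⟨l, hl, hlt⟩ : ∃ l < p, f^[l] s = t := by
        refine ⟨(p - j + i) % p, Nat.mod_lt _ hp.pos, ?_⟩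
        rw [← hper, Function.iterate_add_apply, hst, ← Function.iterate_add_apply,
          Nat.sub_add_cancel hy.2.le, hτp]
      have hse : s = t := e.injective (le_antisymm (hlt ▸ hx.1.2.2 l hl) (hks ▸ hy.1.2.2 k hk))
      subst hse
      rcases lt_trichotomy i j with h | h | h
      · refine absurd (hfpf (j - i) (by omega) (by omega) s (hfinj i ?_)) hx.1.2.1
        rw [← Function.iterate_add_apply, Nat.add_sub_cancel' h.le, hst]
      · rw [h]
      · refine absurd (hfpf (i - j) (by omega) (by omega) s (hfinj j ?_)) hx.1.2.1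
        rw [← Function.iterate_add_apply, Nat.add_sub_cancel' h.le, hst]
    · intro q hq
      obtain ⟨i, hi, hmin⟩ := Finset.exists_min_image (Finset.range p) (fun i => e (f^[i] q))
        ⟨0, Finset.mem_range.mpr hp.pos⟩
      rw [Finset.mem_range] at hi
      refine ⟨(f^[i] q, (p - i) % p), ?_, ?_⟩
      · simp only [T, Finset.mem_product, Finset.mem_filter, Finset.mem_range, Finset.mem_univ,
          true_and]
        refine ⟨⟨fun h => (Finset.mem_erase.mp hq).1 (hfinj i (h.trans (hf1 i).symm)),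
          fun j _ => ?_⟩, Nat.mod_lt _ hp.pos⟩
        rw [← Function.iterate_add_apply, hper (j + i)]
        exact hmin _ (Finset.mem_range.mpr (Nat.mod_lt _ hp.pos))
      · show f^[(p - i) % p] (f^[i] q) = q
        rw [← hper, ← Function.iterate_add_apply, Nat.sub_add_cancel hi.le, hτp]
  have hinv : ∏ x ∈ T ×ˢ Finset.range p, v (f^[x.2] x.1)⁻¹ = ∏ q ∈ Finset.univ.erase 1, v q⁻¹ :=
    hbij fun q => v q⁻¹
  have htot : ∏ x ∈ T ×ˢ Finset.range p, (v (f^[x.2] x.1) * v (f^[x.2] x.1)⁻¹) = 1 := by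
    rw [Finset.prod_product]
    exact Finset.prod_eq_one fun s _ => horb s
  rw [Finset.prod_mul_distrib, hbij v, hinv] at htot
  have h1 : v 1 * ∏ q ∈ Finset.univ.erase 1, v q = 1 := by
    rw [Finset.mul_prod_erase _ _ (Finset.mem_univ _)]; exact hsum
  have h2 : v 1 * ∏ q ∈ Finset.univ.erase 1, v q⁻¹ = 1 := by
    have := Finset.mul_prod_erase (Finset.univ : Finset A) (fun q => v q⁻¹) (Finset.mem_univ 1)
    rw [inv_one] at this
    rw [this, Fintype.prod_equiv (Equiv.inv A) (fun q => v q⁻¹) v (fun _ => rfl)]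
    exact hsum
  have h3 : v 1 ^ 2 = 1 := by
    calc v 1 ^ 2 = v 1 ^ 2 * ((∏ q ∈ Finset.univ.erase 1, v q) *
          ∏ q ∈ Finset.univ.erase 1, v q⁻¹) := by rw [htot, mul_one]
      _ = (v 1 * ∏ q ∈ Finset.univ.erase 1, v q) * (v 1 * ∏ q ∈ Finset.univ.erase 1, v q⁻¹) := by
          rw [sq]; ac_rfl
      _ = 1 := by rw [h1, h2, one_mul]
  rw [← orderOf_eq_one_iff]
  exact Nat.eq_one_of_dvd_coprimes (hp.coprime_iff_not_dvd.mpr fun h =>
    hp2 ((Nat.prime_dvd_prime_iff_eq hp Nat.prime_two).mp h))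
    (orderOf_dvd_of_pow_eq_one (hexp _)) (orderOf_dvd_of_pow_eq_one h3)

variable {G : Type*} [Group G] [Finite G]

/-- See the module docstring. -/
theorem le_centralizer_of_fpf_prime {p : ℕ} [Fact p.Prime] (hp2 : p ≠ 2) {R A : Subgroup G} {b : G}
    (hR : IsPGroup p R) (hA : (Nat.card A).Coprime p) (hAc : ∀ x ∈ A, ∀ y ∈ A, x * y = y * x)
    (hAR : A ≤ normalizer (R : Set G)) (hbA : b ∈ normalizer (A : Set G))
    (hbR : b ∈ normalizer (R : Set G)) (hbp : orderOf b = p)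
    (hfpf : ∀ x ∈ A, b * x = x * b → x = 1)
    (hfix : ∀ x ∈ R, x ^ p = 1 → b * x = x * b → A ≤ centralizer ({x} : Set G)) :
    A ≤ centralizer (R : Set G) := by
  classical
  have hp : p.Prime := Fact.out
  suffices main : ∀ S : Subgroup G, S ≤ R → A ≤ normalizer (S : Set G) →
      b ∈ normalizer (S : Set G) → A ≤ centralizer (S : Set G) from main R le_rfl hAR hbR
  intro S
  induction S using WellFoundedLT.induction with
  | ind S IH =>
  intro hSR hAS hbS
  by_contra hnc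
  have hS : IsPGroup p S := hR.to_le hSR
  have hcj : ∀ q ∈ A, ∀ s ∈ S, q * s * q⁻¹ ∈ S := fun q hq s hs =>
    (mem_normalizer_iff.mp (hAS hq) s).mp hs
  have hbcj : ∀ s ∈ S, b * s * b⁻¹ ∈ S := fun s hs => (mem_normalizer_iff.mp hbS s).mp hs
  have hbq : ∀ q ∈ A, b * q * b⁻¹ ∈ A := fun q hq => (mem_normalizer_iff.mp hbA q).mp hq
  -- proper invariant sets are centralized
  have hprop : ∀ X : Set G, X ⊆ S → (∀ q ∈ A, ∀ x ∈ X, q * x * q⁻¹ ∈ X) →
      (∀ x ∈ X, b * x * b⁻¹ ∈ X) → closure X ≠ S →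
      ∀ x ∈ X, ∀ q ∈ A, q * x * q⁻¹ = x := by
    intro X hXS hXA hXb hne x hx q hq
    have hle : closure X ≤ S := (closure_le S).mpr hXS
    have hnA : A ≤ normalizer ((closure X : Subgroup G) : Set G) := fun a ha =>
      mem_normalizer_of_cj_eq (cj_eq_self_of_le (map_le_iff_le_comap.mpr
        ((closure_le _).mpr fun y hy => subset_closure (hXA a ha y hy))))
    have hnb : b ∈ normalizer ((closure X : Subgroup G) : Set G) :=
      mem_normalizer_of_cj_eq (cj_eq_self_of_le (map_le_iff_le_comap.mpr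
        ((closure_le _).mpr fun y hy => subset_closure (hXb y hy))))
    exact Coprime.conj_eq_of_mem_centralizer (le_centralizer_iff.mp
      (IH _ (lt_of_le_of_ne hle hne) (hle.trans hSR) hnA hnb) (subset_closure hx)) hq
  have hcopord : ∀ q ∈ A, (orderOf q).Coprime p := fun q hq =>
    hA.coprime_dvd_left (A.orderOf_dvd_natCard hq)
  -- a commutator with `A` that `A` fixes is trivial
  have hflat : ∀ q ∈ A, ∀ s ∈ S, q * (s⁻¹ * (q * s * q⁻¹)) * q⁻¹ = s⁻¹ * (q * s * q⁻¹) →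
      q * s * q⁻¹ = s := by
    intro q hq s hs hc
    set c := s⁻¹ * (q * s * q⁻¹) with hcdef
    have hcS : c ∈ S := S.mul_mem (S.inv_mem hs) (hcj q hq s hs)
    have hpow : ∀ j : ℕ, q ^ j * s * (q ^ j)⁻¹ = s * c ^ j := by
      intro j
      induction j with
      | zero => simp
      | succ j hj =>
        calc q ^ (j + 1) * s * (q ^ (j + 1))⁻¹ = q * (q ^ j * s * (q ^ j)⁻¹) * q⁻¹ := by
              rw [pow_succ']; group
          _ = (q * s * q⁻¹) * (q * c ^ j * q⁻¹) := by rw [hj]; group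
          _ = (q * s * q⁻¹) * c ^ j := by rw [← conj_pow, hc]
          _ = s * c ^ (j + 1) := by
            rw [pow_succ', ← mul_assoc s c, show s * c = q * s * q⁻¹ from mul_inv_cancel_left _ _]
    have h1 := hpow (orderOf q)
    rw [pow_orderOf_eq_one, one_mul, inv_one, mul_one, left_eq_mul] at h1
    obtain ⟨i, hi⟩ := IsPGroup.iff_orderOf.mp hS ⟨c, hcS⟩
    rw [Subgroup.orderOf_mk] at hi
    have h2 : c = 1 := orderOf_eq_one_iff.mp (Nat.eq_one_of_dvd_coprimes
      ((hcopord q hq).pow_right i) (orderOf_dvd_of_pow_eq_one h1) hi.dvd)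
    rw [hcdef, inv_mul_eq_one] at h2
    exact h2.symm
  -- `[S, A] = S`
  set K0 : Set G := {x | ∃ s ∈ S, ∃ q ∈ A, x = s⁻¹ * (q * s * q⁻¹)} with hK0
  have hK0S : K0 ⊆ S := by
    rintro _ ⟨s, hs, q, hq, rfl⟩
    exact S.mul_mem (S.inv_mem hs) (hcj q hq s hs)
  have hK0top : closure K0 = S := by
    by_contra hne
    refine hnc fun q hq => mem_centralizer_iff.mpr fun s hs => ?_
    have := hflat q hq s hs (hprop K0 hK0S ?_ ?_ hne _ ⟨s, hs, q, hq, rfl⟩ q hq)
    · exact (mul_inv_eq_iff_eq_mul.mp this).symm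
    · rintro a ha _ ⟨t, ht, r, hr, rfl⟩
      refine ⟨a * t * a⁻¹, hcj a ha t ht, r, hr, ?_⟩
      have e : a * r = r * a := hAc a ha r hr
      calc a * (t⁻¹ * (r * t * r⁻¹)) * a⁻¹ = (a * t * a⁻¹)⁻¹ * ((a * r) * t * (a * r)⁻¹) := by group
        _ = (a * t * a⁻¹)⁻¹ * (r * (a * t * a⁻¹) * r⁻¹) := by rw [e]; group
    · rintro _ ⟨t, ht, r, hr, rfl⟩
      exact ⟨b * t * b⁻¹, hbcj t ht, b * r * b⁻¹, hbq r hr, by group⟩
  -- the fixed points are central
  have hcent : ∀ z ∈ S, (∀ q ∈ A, q * z * q⁻¹ = z) → (∀ s ∈ S, ∀ q ∈ A,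
      q * (s * z * s⁻¹) * q⁻¹ = s * z * s⁻¹) → ∀ s ∈ S, s * z = z * s := by
    intro z _ hz hzs s hs
    have hle : closure K0 ≤ centralizer ({z} : Set G) := by
      refine (closure_le _).mpr ?_
      rintro _ ⟨t, ht, q, hq, rfl⟩
      rw [SetLike.mem_coe, mem_centralizer_singleton_iff]
      have h1 : (q * t * q⁻¹) * z * (q * t * q⁻¹)⁻¹ = t * z * t⁻¹ := by
        conv_lhs => rw [← hz q hq]
        conv_rhs => rw [← hzs t ht q hq]
        group
      rw [mul_inv_eq_iff_eq_mul] at h1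
      calc t⁻¹ * (q * t * q⁻¹) * z = t⁻¹ * ((q * t * q⁻¹) * z) := by group
        _ = z * (t⁻¹ * (q * t * q⁻¹)) := by rw [h1]; group
    exact mem_centralizer_singleton_iff.mp (hle (hK0top.ge hs))
  set Φ : Set G := {x | (∃ a ∈ S, ∃ c ∈ S, x = ⁅a, c⁆) ∨ ∃ a ∈ S, x = a ^ p} with hΦ
  have hΦfr : Φ ⊆ ((frattini S).map S.subtype : Subgroup G) := by
    rintro _ (⟨a, ha, c, hc, rfl⟩ | ⟨a, ha, rfl⟩)
    · exact ⟨⁅(⟨a, ha⟩ : S), (⟨c, hc⟩ : S)⁆, PGroups.commutator_le_frattini hS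
        (commutator_mem_commutator (mem_top _) (mem_top _)), map_commutatorElement S.subtype _ _⟩
    · exact ⟨(⟨a, ha⟩ : S) ^ p, PGroups.pow_mem_frattini hS _, rfl⟩
  haveI : Nontrivial S := (nontrivial_iff_ne_bot S).mpr fun h => hnc (by
    rw [h]; intro q _; exact mem_centralizer_iff.mpr fun x hx => by
      rw [mem_bot.mp hx, one_mul, mul_one])
  have hΦne : closure Φ ≠ S := fun h => by
    have h1 : (frattini S).map S.subtype = S := le_antisymm (map_subtype_le _)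
      (h.ge.trans ((closure_le _).mpr hΦfr))
    have h2 : frattini S = ⊤ := map_injective S.subtype_injective
      (by rw [h1, ← MonoidHom.range_eq_map, range_subtype])
    obtain ⟨M, hM, -⟩ := (eq_top_or_exists_le_coatom (⊥ : Subgroup S)).resolve_left bot_ne_top
    exact hM.1 (top_le_iff.mp (h2.ge.trans (frattini_le_coatom hM)))
  have hΦfix : ∀ x ∈ Φ, ∀ q ∈ A, q * x * q⁻¹ = x := by
    refine hprop Φ (fun x hx => map_subtype_le _ (hΦfr hx)) ?_ ?_ hΦne
    · rintro q hq _ (⟨a, ha, c, hc, rfl⟩ | ⟨a, ha, rfl⟩)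
      · exact Or.inl ⟨_, hcj q hq a ha, _, hcj q hq c hc, conjugate_commutatorElement _ _ _⟩
      · exact Or.inr ⟨_, hcj q hq a ha, conj_pow.symm⟩
    · rintro _ (⟨a, ha, c, hc, rfl⟩ | ⟨a, ha, rfl⟩)
      · exact Or.inl ⟨_, hbcj a ha, _, hbcj c hc, conjugate_commutatorElement _ _ _⟩
      · exact Or.inr ⟨_, hbcj a ha, conj_pow.symm⟩
  have hcommfix : ∀ a ∈ S, ∀ c ∈ S, ∀ q ∈ A, q * ⁅a, c⁆ * q⁻¹ = ⁅a, c⁆ :=
    fun a ha c hc => hΦfix _ (Or.inl ⟨a, ha, c, hc, rfl⟩)
  have hZc : ∀ z ∈ S, (∀ q ∈ A, q * z * q⁻¹ = z) → ∀ s ∈ S, s * z = z * s := by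
    intro z hz hzf
    refine hcent z hz hzf fun s hs q hq => ?_
    calc q * (s * z * s⁻¹) * q⁻¹ = (q * ⁅s, z⁆ * q⁻¹) * (q * z * q⁻¹) := by
          rw [commutatorElement_def]; group
      _ = s * z * s⁻¹ := by rw [hcommfix s hs z hz q hq, hzf q hq, commutatorElement_def]; group
  have hcomm : ∀ a ∈ S, ∀ c ∈ S, ∀ s ∈ S, s * ⁅a, c⁆ = ⁅a, c⁆ * s := fun a ha c hc =>
    hZc _ (map_subtype_le _ (hΦfr (Or.inl ⟨a, ha, c, hc, rfl⟩))) (hcommfix a ha c hc)
  -- `S` has exponent `p`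
  have hΩ : closure {x : G | x ∈ S ∧ x ^ p = 1} = S := by
    by_contra hne
    have hΩA := hprop {x : G | x ∈ S ∧ x ^ p = 1} (fun x hx => hx.1)
      (fun q hq x hx => ⟨hcj q hq x hx.1, by rw [conj_pow, hx.2, mul_one, mul_inv_cancel]⟩)
      (fun x hx => ⟨hbcj x hx.1, by rw [conj_pow, hx.2, mul_one, mul_inv_cancel]⟩) hne
    refine hnc (Cfsg.Agent.S1443.result p hp2 S ⊥ A hS bot_le ⟨inferInstance, fun a ha => by
      rw [mem_bot.mp ha, one_pow]⟩ hAS hA fun x hx hxo q hq => ?_)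
    exact mem_centralizer_singleton_iff.mpr (mul_inv_eq_iff_eq_mul.mp
      (hΩA x ⟨hx.1, hxo ▸ pow_orderOf_eq_one x⟩ q hq))
  have hexp : ∀ s ∈ S, s ^ p = 1 := by
    intro s hs
    have hS2 : ⁅commutator S, (⊤ : Subgroup S)⁆ = ⊥ := by
      rw [commutator_eq_bot_iff_le_centralizer, _root_.commutator_def, commutator_le]
      rintro ⟨a, ha⟩ - ⟨c, hc⟩ -
      exact mem_centralizer_iff.mpr fun x _ => Subtype.ext (hcomm a ha c hc x x.2)
    have := Cfsg.Agent.S0096.result hp2 hS hS2 ⟨s, hs⟩ (by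
      have h1 : (closure {x : S | x ^ p = 1}).map S.subtype = S := by
        rw [MonoidHom.map_closure]
        refine Eq.trans ?_ hΩ
        congr 1
        ext x
        constructor
        · rintro ⟨y, hy, rfl⟩; exact ⟨y.2, congrArg Subtype.val hy⟩
        · rintro ⟨hx, hxp⟩; exact ⟨⟨x, hx⟩, Subtype.ext hxp, rfl⟩
      obtain ⟨y, hy, hys⟩ := h1.ge hs
      rwa [← show y = ⟨s, hs⟩ from Subtype.ext hys])
    exact congrArg Subtype.val this
  -- `Z = C_S(A)`
  set Z : Subgroup G := S ⊓ centralizer (A : Set G) with hZ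
  have hmemZ : ∀ x, x ∈ Z ↔ x ∈ S ∧ ∀ q ∈ A, q * x * q⁻¹ = x := fun x =>
    ⟨fun h => ⟨h.1, fun q hq => Coprime.conj_eq_of_mem_centralizer h.2 hq⟩,
      fun h => ⟨h.1, Coprime.mem_centralizer_of_conj_eq h.2⟩⟩
  have hcommZ : ∀ a ∈ S, ∀ c ∈ S, ⁅a, c⁆ ∈ Z := fun a ha c hc =>
    (hmemZ _).mpr ⟨map_subtype_le _ (hΦfr (Or.inl ⟨a, ha, c, hc, rfl⟩)), hcommfix a ha c hc⟩
  have hbfix : ∀ y ∈ S, b * y = y * b → y ∈ Z := fun y hy hby => (hmemZ y).mpr ⟨hy, fun q hq =>
    mul_inv_eq_iff_eq_mul.mpr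
      (mem_centralizer_singleton_iff.mp (hfix y (hSR hy) (hexp y hy) hby hq))⟩
  -- an element of `S ∖ Z` fixed by `b` modulo `Z`
  obtain ⟨u, hu, huZ, hbu⟩ : ∃ u ∈ S, u ∉ Z ∧ b * u * b⁻¹ * u⁻¹ ∈ Z := by
    have hbSn : zpowers b ≤ normalizer (S : Set G) := zpowers_le.mpr hbS
    have hbZn : zpowers b ≤ normalizer (Z : Set G) := by
      refine zpowers_le.mpr (mem_normalizer_of_cj_eq (cj_eq_self_of_le (cj_le.mpr fun x hx => ?_)))
      refine (hmemZ _).mpr ⟨hbcj x hx.1, fun q hq => ?_⟩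
      have h1 := ((hmemZ x).mp hx).2 (b⁻¹ * q * b)
        ((mem_normalizer_iff''.mp hbA q).mp hq)
      calc q * (b * x * b⁻¹) * q⁻¹ = b * (b⁻¹ * q * b * x * (b⁻¹ * q * b)⁻¹) * b⁻¹ := by group
        _ = b * x * b⁻¹ := by rw [h1]
    have hb1 : IsPGroup p (zpowers b) :=
      IsPGroup.of_card (n := 1) (by rw [Nat.card_zpowers, hbp, pow_one])
    have hP : IsPGroup p ↥(S ⊔ zpowers b) := hS.to_sup_of_normal_left' hb1 hbSn
    have hne : Z ⊔ zpowers b ≠ S ⊔ zpowers b := by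
      intro h
      refine hnc (fun q hq => mem_centralizer_iff.mpr fun s hs => ?_)
      obtain ⟨z, hz, a, ha, rfl⟩ := (Coprime.mem_sup_iff hbZn).mp (h.ge (mem_sup_left hs))
      have haS : a ∈ S := by simpa using S.mul_mem (S.inv_mem hz.1) hs
      obtain ⟨k, rfl⟩ := mem_zpowers_iff.mp ha
      exact ((mem_centralizer_iff.mp (Z.mul_mem hz (hbfix _ haS
        (Commute.self_zpow b k).eq)).2) q hq).symm
    have hlt := card_lt_card_inf_normalizer hP (sup_le_sup_right inf_le_left _) hne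
    obtain ⟨x, hx, hxU⟩ : ∃ x ∈ (S ⊔ zpowers b) ⊓ normalizer ((Z ⊔ zpowers b : Subgroup G) : Set G),
        x ∉ Z ⊔ zpowers b := by
      by_contra! hall
      exact absurd (Subgroup.card_le_of_le hall) (not_le.mpr hlt)
    obtain ⟨s, hs, a, ha, rfl⟩ := (Coprime.mem_sup_iff hbSn).mp hx.1
    refine ⟨s, hs, fun hsZ => hxU (mul_mem_sup hsZ ha), ?_⟩
    have hsn : s ∈ normalizer ((Z ⊔ zpowers b : Subgroup G) : Set G) := by
      simpa using (normalizer _).mul_mem hx.2 ((normalizer _).inv_mem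
        (le_normalizer (mem_sup_right (S := Z) ha)))
    have h1 : s * b * s⁻¹ ∈ Z ⊔ zpowers b :=
      (mem_normalizer_iff.mp hsn b).mp (mem_sup_right (mem_zpowers b))
    have h2 : s * b * s⁻¹ * b⁻¹ ∈ Z ⊔ zpowers b :=
      mul_mem h1 (inv_mem (mem_sup_right (mem_zpowers b)))
    have h2S : s * b * s⁻¹ * b⁻¹ ∈ S := by
      simpa [mul_assoc] using S.mul_mem hs (hbcj _ (S.inv_mem hs))
    obtain ⟨z, hz, a', ha', hza⟩ := (Coprime.mem_sup_iff hbZn).mp h2
    have ha'S : a' ∈ S := by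
      have := S.mul_mem (S.inv_mem hz.1) h2S
      rwa [← hza, inv_mul_cancel_left] at this
    obtain ⟨k, rfl⟩ := mem_zpowers_iff.mp ha'
    have h3 : s * b * s⁻¹ * b⁻¹ ∈ Z :=
      hza ▸ Z.mul_mem hz (hbfix _ ha'S (Commute.self_zpow b k).eq)
    have h4 := Z.inv_mem h3
    have e : (s * b * s⁻¹ * b⁻¹)⁻¹ = b * s * b⁻¹ * s⁻¹ := by group
    rwa [e] at h4
  -- the conjugates of `u` under `A`
  let v : A → G := fun q => (q : G) * u * (q : G)⁻¹
  have hvS : ∀ q, v q ∈ S := fun q => hcj q q.2 u hu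
  let τ : A ≃* A :=
    { toFun := fun q => ⟨b * q * b⁻¹, hbq q q.2⟩
      invFun := fun q => ⟨b⁻¹ * q * b, (mem_normalizer_iff''.mp hbA q).mp q.2⟩
      left_inv := fun q => Subtype.ext (show b⁻¹ * (b * q * b⁻¹) * b = q by group)
      right_inv := fun q => Subtype.ext (show b * (b⁻¹ * q * b) * b⁻¹ = q by group)
      map_mul' := fun q r => Subtype.ext (show b * (q * r : G) * b⁻¹ = _ by
        push_cast; group) }
  have hτi : ∀ (i : ℕ) (q : A), (((τ : A → A)^[i] q : A) : G) = b ^ i * q * (b ^ i)⁻¹ := by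
    intro i q
    induction i with
    | zero => simp
    | succ i hi =>
      rw [Function.iterate_succ_apply']
      show b * (((τ : A → A)^[i] q : A) : G) * b⁻¹ = _
      rw [hi, pow_succ']; group
  have hτv : ∀ (i : ℕ) (q : A),
      (v ((τ : A → A)^[i] q))⁻¹ * (b ^ i * v q * (b ^ i)⁻¹) ∈ Z := by
    intro i
    induction i with
    | zero => intro q; simp
    | succ i hi =>
      intro q
      set r := (τ : A → A)^[i] q with hr
      rw [Function.iterate_succ_apply']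
      set ζ := u⁻¹ * (b * u * b⁻¹) with hζ
      have hζZ : ζ ∈ Z := by
        have h0 : b * u * b⁻¹ * u⁻¹ ∈ Z := hbu
        have := hZc _ h0.1 ((hmemZ _).mp h0).2 u hu
        have e : ζ = b * u * b⁻¹ * u⁻¹ := by
          calc ζ = u⁻¹ * ((b * u * b⁻¹ * u⁻¹) * u) := by rw [hζ]; group
            _ = b * u * b⁻¹ * u⁻¹ := by rw [← this, inv_mul_cancel_left]
        rw [e]; exact hbu
      have h1 : b * v r * b⁻¹ = v (τ r) * ζ := by
        have h3 := ((hmemZ _).mp hζZ).2 _ (hbq r r.2)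
        show b * ((r : G) * u * (r : G)⁻¹) * b⁻¹ =
          (b * r * b⁻¹) * u * (b * r * b⁻¹)⁻¹ * ζ
        conv_rhs => rw [← h3]
        rw [hζ]; group
      have h2 := hi q
      rw [← hr] at h2
      have h4 : b * ((v r)⁻¹ * (b ^ i * v q * (b ^ i)⁻¹)) * b⁻¹ ∈ Z :=
        (mem_normalizer_iff.mp (mem_normalizer_of_cj_eq (cj_eq_self_of_le (cj_le.mpr fun x hx => by
          refine (hmemZ _).mpr ⟨hbcj x hx.1, fun a ha => ?_⟩
          have h5 := ((hmemZ x).mp hx).2 (b⁻¹ * a * b) ((mem_normalizer_iff''.mp hbA a).mp ha)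
          calc a * (b * x * b⁻¹) * a⁻¹ = b * (b⁻¹ * a * b * x * (b⁻¹ * a * b)⁻¹) * b⁻¹ := by group
            _ = b * x * b⁻¹ := by rw [h5]))) _).mp h2
      have e : (v (τ r))⁻¹ * (b ^ (i + 1) * v q * (b ^ (i + 1))⁻¹) =
          ζ * (b * ((v r)⁻¹ * (b ^ i * v q * (b ^ i)⁻¹)) * b⁻¹) := by
        have e2 : v (τ r) = b * v r * b⁻¹ * ζ⁻¹ := eq_mul_inv_of_mul_eq h1.symm
        rw [e2, pow_succ']; group
      rw [e]; exact Z.mul_mem hζZ h4
  -- commutation
  have hD : ∀ s r : A, ⁅v s * v s⁻¹, v r * v r⁻¹⁆ = 1 := by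
    intro s r
    have key : ∀ x y : A, ⁅v x⁻¹, v y⁻¹⁆ = ⁅v y, v x⁆ := by
      intro x y
      have h := hcommfix _ (hvS x⁻¹) _ (hvS y⁻¹) _ (x * y).2
      rw [← h, conjugate_commutatorElement]
      have exy : (x : G) * y = y * x := hAc _ x.2 _ y.2
      congr 1
      · show ((x * y : A) : G) * (((x⁻¹ : A) : G) * u * ((x⁻¹ : A) : G)⁻¹) * ((x * y : A) : G)⁻¹ = _
        push_cast
        rw [exy]
        show _ = (y : G) * u * (y : G)⁻¹
        group
      · show ((x * y : A) : G) * (((y⁻¹ : A) : G) * u * ((y⁻¹ : A) : G)⁻¹) * ((x * y : A) : G)⁻¹ = _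
        push_cast
        show _ = (x : G) * u * (x : G)⁻¹
        group
    have hmulL : ∀ a ∈ S, ∀ c ∈ S, ∀ d ∈ S, ⁅a * c, d⁆ = ⁅a, d⁆ * ⁅c, d⁆ := by
      intro a ha c hc d hd
      calc ⁅a * c, d⁆ = (a * ⁅c, d⁆) * a⁻¹ * ⁅a, d⁆ := by simp only [commutatorElement_def]; group
        _ = ⁅c, d⁆ * ⁅a, d⁆ := by rw [hcomm c hc d hd a ha, mul_inv_cancel_right]
        _ = ⁅a, d⁆ * ⁅c, d⁆ := (hcomm c hc d hd _ ((hcommZ a ha d hd).1)).symm
    have hmulR : ∀ a ∈ S, ∀ c ∈ S, ∀ d ∈ S, ⁅a, c * d⁆ = ⁅a, c⁆ * ⁅a, d⁆ := by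
      intro a ha c hc d hd
      calc ⁅a, c * d⁆ = ⁅a, c⁆ * (c * ⁅a, d⁆ * c⁻¹) := by simp only [commutatorElement_def]; group
        _ = ⁅a, c⁆ * ⁅a, d⁆ := by rw [hcomm a ha d hd c hc, mul_inv_cancel_right]
    rw [hmulL _ (hvS s) _ (hvS s⁻¹) _ (S.mul_mem (hvS r) (hvS r⁻¹)), hmulR _ (hvS s) _ (hvS r) _ (hvS r⁻¹),
      hmulR _ (hvS s⁻¹) _ (hvS r) _ (hvS r⁻¹)]
    have k1 : ⁅v s⁻¹, v r⁻¹⁆ = ⁅v s, v r⁆⁻¹ := by rw [key, commutatorElement_inv]
    have k2 : ⁅v s⁻¹, v r⁆ = ⁅v s, v r⁻¹⁆⁻¹ := by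
      rw [commutatorElement_inv]
      simpa using key s r⁻¹
    rw [k1, k2]; group
  have horb : ∀ s : A, ∃ y ∈ Z, ∃ l : ℕ → G, (∀ i, l i ∈ S ∧
      (v ((τ : A → A)^[i] s) * v ((τ : A → A)^[i] s)⁻¹)⁻¹ * l i ∈ Z) ∧
      y = ((List.range p).map l).prod := by
    intro s
    set a := v s * v s⁻¹ with ha
    set l : ℕ → G := fun i => b ^ i * a * (b ^ i)⁻¹ with hl
    have hlS : ∀ i, l i ∈ S := fun i =>
      (mem_normalizer_iff.mp ((normalizer (S : Set G)).pow_mem hbS i) a).mp (S.mul_mem (hvS _) (hvS _))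
    have hlZ : ∀ i, (v ((τ : A → A)^[i] s) * v ((τ : A → A)^[i] s)⁻¹)⁻¹ * l i ∈ Z := by
      intro i
      have h1 := hτv i s
      have h2 := hτv i s⁻¹
      have e : (τ : A → A)^[i] s⁻¹ = ((τ : A → A)^[i] s)⁻¹ := Subtype.ext (by
        rw [hτi]; push_cast; rw [hτi]; group)
      rw [e] at h2
      set r := (τ : A → A)^[i] s
      set z1 := (v r)⁻¹ * (b ^ i * v s * (b ^ i)⁻¹) with hz1
      set z2 := (v r⁻¹)⁻¹ * (b ^ i * v s⁻¹ * (b ^ i)⁻¹) with hz2
      have hc := hZc z1 h1.1 ((hmemZ _).mp h1).2 _ (hvS r⁻¹)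
      have e2 : (v r * v r⁻¹)⁻¹ * l i = z1 * z2 := by
        calc (v r * v r⁻¹)⁻¹ * l i = (v r⁻¹)⁻¹ * (z1 * v r⁻¹) * z2 := by
              rw [hl, ha, hz1, hz2]; group
          _ = z1 * z2 := by rw [← hc, inv_mul_cancel_left]
      rw [e2]; exact Z.mul_mem h1 h2
    have hla : ∀ i, Commute a (l i) := by
      intro i
      set r := (τ : A → A)^[i] s
      set ζ := (v r * v r⁻¹)⁻¹ * l i with hζ
      have h1 : l i = (v r * v r⁻¹) * ζ := by rw [hζ, mul_inv_cancel_left]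
      rw [h1]
      exact (commutatorElement_eq_one_iff_commute.mp (hD s r)).mul_right
        (hZc ζ (hlZ i).1 ((hmemZ _).mp (hlZ i)).2 a (S.mul_mem (hvS _) (hvS _)))
    refine ⟨_, ?_, l, fun i => ⟨hlS i, hlZ i⟩, rfl⟩
    set Y := fun n => ((List.range n).map l).prod with hY
    have hY1 : ∀ n, Y (n + 1) = Y n * l n := fun n => by
      simp only [hY, List.range_succ, List.map_append, List.prod_append, List.map_cons,
        List.map_nil, List.prod_singleton]
    have hY2 : ∀ n, a * (b * Y n * b⁻¹) = Y (n + 1) := by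
      intro n
      induction n with
      | zero => simp [hY, hl]
      | succ n hn =>
        have hl1 : b * l n * b⁻¹ = l (n + 1) := by
          simp only [hl, pow_succ']
          group
        calc a * (b * Y (n + 1) * b⁻¹) = a * (b * Y n * b⁻¹) * (b * l n * b⁻¹) := by
              rw [hY1 n]; group
          _ = Y (n + 1 + 1) := by rw [hn, hl1, ← hY1]
    have hY3 : ∀ n, Commute a (Y n) := fun n => by
      induction n with
      | zero => simp [hY]
      | succ n hn => rw [hY1]; exact hn.mul_right (hla n)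
    have hY4 : ∀ n, Y n ∈ S := fun n => by
      induction n with
      | zero => simp [hY]
      | succ n hn => rw [hY1]; exact S.mul_mem hn (hlS n)
    refine hbfix _ (hY4 p) ?_
    have h1 := hY2 p
    rw [hY1 p, show l p = a by simp [hl, ← hbp, pow_orderOf_eq_one], ← (hY3 p).eq] at h1
    exact mul_inv_eq_iff_eq_mul.mp (mul_left_cancel h1)
  -- pass to `S/Z`
  set Z' := Z.subgroupOf S with hZ'
  haveI : Z'.Normal := ⟨fun z hz s => by
    rw [hZ', mem_subgroupOf] at hz ⊢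
    push_cast
    rwa [hZc _ hz.1 ((hmemZ _).mp hz).2 _ s.2, mul_inv_cancel_right]⟩
  letI : CommGroup (S ⧸ Z') :=
    { (inferInstance : Group (S ⧸ Z')) with
      mul_comm := by
        intro x y
        obtain ⟨x, rfl⟩ := QuotientGroup.mk_surjective x
        obtain ⟨y, rfl⟩ := QuotientGroup.mk_surjective y
        rw [← QuotientGroup.mk_mul, ← QuotientGroup.mk_mul, QuotientGroup.eq, hZ', mem_subgroupOf]
        push_cast
        have := hcommZ _ (S.inv_mem y.2) _ (S.inv_mem x.2)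
        simpa [commutatorElement_def, mul_assoc] using this }
  set π : S →* S ⧸ Z' := QuotientGroup.mk' Z' with hπ
  have hπeq : ∀ x y : S, (x : G)⁻¹ * y ∈ Z → π x = π y := fun x y h => by
    rw [hπ]; simp only [QuotientGroup.mk'_apply]
    rw [QuotientGroup.eq, hZ', mem_subgroupOf]; push_cast; exact h
  have hπ1 : ∀ x : S, π x = 1 ↔ (x : G) ∈ Z := fun x => by
    rw [hπ, QuotientGroup.mk'_apply, QuotientGroup.eq_one_iff, hZ', mem_subgroupOf]
  let w : A → S ⧸ Z' := fun q => π ⟨v q, hvS q⟩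
  refine huZ ?_
  have hw1 : w 1 = π ⟨u, hu⟩ := by
    show π _ = π _
    congr 1; exact Subtype.ext (show ((1 : A) : G) * u * ((1 : A) : G)⁻¹ = u by simp)
  rw [← hπ1 ⟨u, hu⟩, ← hw1]
  refine eq_one_of_orbit_prod hp hp2 τ ?_ ?_ w ?_ ?_ ?_
  · intro q
    refine Subtype.ext ?_
    rw [hτi, ← hbp, pow_orderOf_eq_one, one_mul, inv_one, mul_one]
  · intro i hi hip q hq
    have h1 : b ^ i * (q : G) * (b ^ i)⁻¹ = q := by rw [← hτi, hq]
    have h2 : b ∈ zpowers (b ^ i) := mem_zpowers_pow_iff.mpr (by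
      rw [hbp]; exact (hp.coprime_iff_not_dvd.mpr fun h => absurd (Nat.le_of_dvd hi h) (not_le.mpr hip)).symm)
    obtain ⟨k, hk⟩ := mem_zpowers_iff.mp h2
    have h3 : Commute (b ^ i) (q : G) := mul_inv_eq_iff_eq_mul.mp h1
    exact Subtype.ext (hfpf q q.2 (hk ▸ h3.zpow_left k : Commute b (q : G)).eq)
  · intro x
    obtain ⟨x, rfl⟩ := QuotientGroup.mk'_surjective Z' x
    rw [← map_pow, show x ^ p = 1 from Subtype.ext (hexp _ x.2), map_one]
  · intro inst
    obtain ⟨x, hx⟩ := QuotientGroup.mk'_surjective Z' (∏ q, w q)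
    rw [← hx, ← hπ, hπ1]
    refine (hmemZ _).mpr ⟨x.2, fun q hq => hflat q hq x x.2 ?_⟩
    suffices hzz : (x : G)⁻¹ * (q * x * q⁻¹) ∈ Z from ((hmemZ _).mp hzz).2 q hq
    let cq : S →* S :=
      { toFun := fun y => ⟨q * y * q⁻¹, hcj q hq y y.2⟩
        map_one' := Subtype.ext (show q * ((1 : S) : G) * q⁻¹ = 1 by simp)
        map_mul' := fun y z => Subtype.ext (show q * ((y * z : S) : G) * q⁻¹ = _ by
          push_cast; group) }
    let cV : S ⧸ Z' →* S ⧸ Z' := QuotientGroup.map Z' Z' cq (fun y hy => by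
      rw [mem_comap, hZ', mem_subgroupOf]
      rw [hZ', mem_subgroupOf] at hy
      show q * (y : G) * q⁻¹ ∈ Z
      rwa [((hmemZ _).mp hy).2 q hq])
    have h1 : cV (π x) = π x := by
      rw [hπ, hx, map_prod]
      refine Fintype.prod_equiv (Equiv.mulLeft (⟨q, hq⟩ : A)) _ _ fun r => ?_
      show π (cq _) = π _
      congr 1
      refine Subtype.ext ?_
      show q * ((r : G) * u * (r : G)⁻¹) * q⁻¹ = (q * r : G) * u * (q * r : G)⁻¹
      group
    have h2 : π (cq x) = π x := h1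
    rw [hπ] at h2
    simp only [QuotientGroup.mk'_apply] at h2
    rw [eq_comm, QuotientGroup.eq, hZ', mem_subgroupOf] at h2
    exact h2
  · intro s
    obtain ⟨y, hy, l, hl, rfl⟩ := horb s
    have h1 : ∀ n, π ⟨((List.range n).map l).prod, list_prod_mem (by
        intro x hx; obtain ⟨i, -, rfl⟩ := List.mem_map.mp hx; exact (hl i).1)⟩ =
        ∏ i ∈ Finset.range n, (w ((τ : A → A)^[i] s) * w ((τ : A → A)^[i] s)⁻¹) := by
      intro n
      induction n with
      | zero => simp only [List.range_zero, List.map_nil, List.prod_nil, Finset.range_zero,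
                  Finset.prod_empty]; exact map_one π
      | succ n hn =>
        rw [Finset.prod_range_succ, ← hn]
        simp only [w, ← map_mul]
        refine (hπeq _ _ ?_).symm
        push_cast
        rw [List.range_succ, List.map_append, List.prod_append, List.map_cons, List.map_nil,
          List.prod_singleton]
        simpa [mul_assoc] using (hl n).2
    rw [← h1 p, hπ1]
    exact hy

end Cfsg.Agent.H48
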