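import Cfsg.Agent.H48.OrthClass
import Mathlib.Algebra.QuadraticAlgebra.NormDeterminant

/-!
Orthogonal spaces with a self-adjoint quadratic field of scalars: adapted bases, the group of type
`O_d(q²)`, and the normalising isometries with square `±1`.
-/

set_option autoImplicit false
set_option linter.style.haveILetI false

namespace Cfsg.Agent.H48.OrthField

open QuadraticMap Module Cfsg.Agent.Orthogonal Cfsg.Agent.H48.OrthClass

variable {F : Type*} [Field F] {V : Type*} [AddCommGroup V] [Module F V] {Q : QuadraticForm F V}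

/-- A self-adjoint square root of a non-square. -/
structure IsSAField (Q : QuadraticForm F V) (κ : V →ₗ[F] V) (a : F) : Prop where
  sq : ∀ v, κ (κ v) = a • v
  sa : ∀ u v, polar Q (κ u) v = polar Q u (κ v)
  nsq : ¬ IsSquare a

variable {κ : V →ₗ[F] V} {a : F}

theorem IsSAField.ne (hκ : IsSAField Q κ a) : a ≠ 0 := fun h => hκ.nsq (h ▸ IsSquare.zero)

theorem IsSAField.qκ (hκ : IsSAField Q κ a) (h2 : (2 : F) ≠ 0) (v : V) : Q (κ v) = a * Q v := by
  have h1 := hκ.sa v (κ v)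
  rw [hκ.sq, polar_smul_right', polar_self', polar_self'] at h1
  exact mul_left_cancel₀ h2 (by linear_combination h1)

/-- The isometries commuting or anticommuting with `κ`. -/
def goodGroup (Q : QuadraticForm F V) (κ : V →ₗ[F] V) : Subgroup (O Q) where
  carrier := {g | ∃ ε : F, (ε = 1 ∨ ε = -1) ∧ ∀ v, (g : V ≃ₗ[F] V) (κ v) = ε • κ ((g : V ≃ₗ[F] V) v)}
  one_mem' := ⟨1, Or.inl rfl, fun v => by simp⟩
  mul_mem' := by
    rintro g h ⟨ε, hε, hg⟩ ⟨η, hη, hh⟩
    refine ⟨ε * η, by rcases hε with rfl | rfl <;> rcases hη with rfl | rfl <;> simp, fun v => ?_⟩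
    rw [Subgroup.coe_mul, mul_app, mul_app, hh, map_smul, hg, smul_smul, mul_comm]
  inv_mem' := by
    rintro g ⟨ε, hε, hg⟩
    refine ⟨ε, hε, fun v => ?_⟩
    have hεε : ε * ε = 1 := by rcases hε with rfl | rfl <;> simp
    apply (g : V ≃ₗ[F] V).injective
    have hgg : ∀ w, (g : V ≃ₗ[F] V) (((g⁻¹ : O Q) : V ≃ₗ[F] V) w) = w := fun w => by
      rw [← mul_app, ← Subgroup.coe_mul, mul_inv_cancel]; rfl
    rw [map_smul, hgg, hg, hgg, smul_smul, hεε, one_smul]

theorem mem_goodGroup {g : O Q} :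
    g ∈ goodGroup Q κ ↔ ∃ ε : F, (ε = 1 ∨ ε = -1) ∧ ∀ v, (g : V ≃ₗ[F] V) (κ v) = ε • κ ((g : V ≃ₗ[F] V) v) :=
  Iff.rfl

theorem good_of_basis {ι : Type*} (b : Module.Basis ι F V) {g : O Q} (ε : F) (hε : ε = 1 ∨ ε = -1)
    (h : ∀ i, (g : V ≃ₗ[F] V) (κ (b i)) = ε • κ ((g : V ≃ₗ[F] V) (b i))) : g ∈ goodGroup Q κ := by
  refine ⟨ε, hε, fun v => ?_⟩
  exact LinearMap.congr_fun (b.ext (f₁ := ((g : V ≃ₗ[F] V) : V →ₗ[F] V) ∘ₗ κ)
    (f₂ := ε • (κ ∘ₗ ((g : V ≃ₗ[F] V) : V →ₗ[F] V))) fun i => by simpa using h i) v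

/-- A basis adapted to `κ`: `u i` and `w i = κ (u i) - (c i / q i) • u i`. -/
structure FieldBasis (Q : QuadraticForm F V) (κ : V →ₗ[F] V) (a : F) (d : ℕ) where
  u : Fin d → V
  q : Fin d → F
  c : Fin d → F
  q_ne : ∀ i, q i ≠ 0
  q_eq : ∀ i, Q (u i) = q i
  c_eq : ∀ i, polar Q (u i) (κ (u i)) = 2 * c i
  orth : ∀ i j, i ≠ j → polar Q (u i) (u j) = 0
  orthκ : ∀ i j, i ≠ j → polar Q (u i) (κ (u j)) = 0

namespace FieldBasis

variable {d : ℕ} (B : FieldBasis Q κ a d)

/-- The second vector of a plane. -/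
def w (i : Fin d) : V := κ (B.u i) - (B.c i / B.q i) • B.u i

/-- The orthogonal basis. -/
def e : Fin d ⊕ Fin d → V := Sum.elim B.u B.w

/-- The square class of a plane. -/
def δ (i : Fin d) : F := a * B.q i ^ 2 - B.c i ^ 2

theorem δ_ne (hκ : IsSAField Q κ a) (i : Fin d) : B.δ i ≠ 0 := fun h => hκ.nsq ⟨B.c i / B.q i, by
  have := B.q_ne i
  rw [δ] at h
  field_simp
  linear_combination h⟩

theorem qw (hκ : IsSAField Q κ a) (h2 : (2 : F) ≠ 0) (i : Fin d) : Q (B.w i) = B.δ i / B.q i := by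
  have := B.q_ne i
  rw [w, qmap_sub, qmap_smul, polar_smul_right', hκ.qκ h2, B.q_eq, polar_comm, B.c_eq, δ]
  field_simp
  ring

theorem qe_ne (hκ : IsSAField Q κ a) (h2 : (2 : F) ≠ 0) (s : Fin d ⊕ Fin d) : Q (B.e s) ≠ 0 := by
  rcases s with i | i
  · show Q (B.u i) ≠ 0
    rw [B.q_eq]; exact B.q_ne i
  · show Q (B.w i) ≠ 0
    rw [B.qw hκ h2]; exact div_ne_zero (B.δ_ne hκ i) (B.q_ne i)

theorem qu_ne (hκ : IsSAField Q κ a) (h2 : (2 : F) ≠ 0) (i : Fin d) : Q (B.u i) ≠ 0 := B.qe_ne hκ h2 (.inl i)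

theorem qw_ne (hκ : IsSAField Q κ a) (h2 : (2 : F) ≠ 0) (i : Fin d) : Q (B.w i) ≠ 0 := B.qe_ne hκ h2 (.inr i)

theorem κu (i : Fin d) : κ (B.u i) = B.w i + (B.c i / B.q i) • B.u i := by
  rw [w, sub_add_cancel]

theorem κw (hκ : IsSAField Q κ a) (i : Fin d) :
    κ (B.w i) = (B.δ i / B.q i ^ 2) • B.u i - (B.c i / B.q i) • B.w i := by
  have := B.q_ne i
  rw [w, map_sub, map_smul, hκ.sq, B.κu i, w]
  match_scalars <;> simp only [δ] <;> field_simp <;> ring

theorem ortho (hκ : IsSAField Q κ a) : Ortho Q B.e := by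
  have e1 : ∀ i j, i ≠ j → polar Q (κ (B.u i)) (B.u j) = 0 := fun i j h => by rw [hκ.sa]; exact B.orthκ i j h
  have e2 : ∀ i j, i ≠ j → polar Q (κ (B.u i)) (κ (B.u j)) = 0 := fun i j h => by
    rw [hκ.sa, hκ.sq, polar_smul_right', B.orth i j h, mul_zero]
  have e3 : ∀ i, polar Q (B.u i) (B.w i) = 0 := fun i => by
    have := B.q_ne i
    rw [w, sub_eq_add_neg, polar_add_right, polar_neg_right, polar_smul_right', B.c_eq, polar_self', B.q_eq]
    field_simp
    ring
  have e4 : ∀ i j, i ≠ j → polar Q (B.u i) (B.w j) = 0 := fun i j h => by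
    rw [w, sub_eq_add_neg, polar_add_right, polar_neg_right, polar_smul_right', B.orthκ i j h, B.orth i j h]; simp
  have e5 : ∀ i j, polar Q (B.u i) (B.w j) = 0 := fun i j => by
    by_cases h : i = j
    · subst h; exact e3 i
    · exact e4 i j h
  rintro (i | i) (j | j) hij
  · exact B.orth i j fun h => hij (by rw [h])
  · exact e5 i j
  · rw [polar_comm]; exact e5 j i
  · have h : i ≠ j := fun h => hij (by rw [h])
    show polar Q (B.w i) (B.w j) = 0
    rw [show B.w i = κ (B.u i) - (B.c i / B.q i) • B.u i from rfl, sub_eq_add_neg, polar_add_left, polar_neg_left,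
      polar_smul_left', e5 i j, show B.w j = κ (B.u j) - (B.c j / B.q j) • B.u j from rfl, sub_eq_add_neg,
      polar_add_right, polar_neg_right, polar_smul_right', e2 i j h, e1 i j h]
    simp

variable [FiniteDimensional F V]

/-- The basis. -/
noncomputable def basis (hκ : IsSAField Q κ a) (h2 : (2 : F) ≠ 0) (hn : finrank F V = 2 * d) :
    Module.Basis (Fin d ⊕ Fin d) F V :=
  (B.ortho hκ).basis h2 (B.qe_ne hκ h2) (by simp [hn]; omega)

theorem basis_apply (hκ : IsSAField Q κ a) (h2 : (2 : F) ≠ 0) (hn : finrank F V = 2 * d) (s : Fin d ⊕ Fin d) :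
    B.basis hκ h2 hn s = B.e s := Ortho.basis_apply _ _ _ _ _

theorem ext_app (hκ : IsSAField Q κ a) (h2 : (2 : F) ≠ 0) (hn : finrank F V = 2 * d) {g g' : O Q}
    (hu : ∀ i, (g : V ≃ₗ[F] V) (B.u i) = (g' : V ≃ₗ[F] V) (B.u i))
    (hw : ∀ i, (g : V ≃ₗ[F] V) (B.w i) = (g' : V ≃ₗ[F] V) (B.w i)) : g = g' :=
  (B.ortho hκ).ext_app h2 (B.qe_ne hκ h2) (by simp [hn]; omega) fun s => by
    rcases s with i | i
    · exact hu i
    · exact hw i

/-- Diagonal on the planes: commutes with `κ`. -/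
theorem good_diag (hκ : IsSAField Q κ a) (h2 : (2 : F) ≠ 0) (hn : finrank F V = 2 * d) {g : O Q} (s : Fin d → F)
    (hu : ∀ i, (g : V ≃ₗ[F] V) (B.u i) = s i • B.u i) (hw : ∀ i, (g : V ≃ₗ[F] V) (B.w i) = s i • B.w i) :
    g ∈ goodGroup Q κ := by
  refine good_of_basis (B.basis hκ h2 hn) 1 (Or.inl rfl) fun t => ?_
  rw [B.basis_apply, one_smul]
  rcases t with i | i
  · show (g : V ≃ₗ[F] V) (κ (B.u i)) = κ ((g : V ≃ₗ[F] V) (B.u i))
    rw [hu, map_smul, B.κu, map_add, map_smul, hu, hw]; module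
  · show (g : V ≃ₗ[F] V) (κ (B.w i)) = κ ((g : V ≃ₗ[F] V) (B.w i))
    rw [hw, map_smul, B.κw hκ, map_sub, map_smul, map_smul, hu, hw]; module

/-- A quarter turn in every plane: anticommutes with `κ`. -/
theorem good_turn (hκ : IsSAField Q κ a) (h2 : (2 : F) ≠ 0) (hn : finrank F V = 2 * d) {g : O Q} (s : Fin d → F)
    (hs : ∀ i, s i * s i = B.δ i)
    (hu : ∀ i, (g : V ≃ₗ[F] V) (B.u i) = (B.q i / s i) • B.w i)
    (hw : ∀ i, (g : V ≃ₗ[F] V) (B.w i) = (-(s i / B.q i)) • B.u i) : g ∈ goodGroup Q κ := by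
  refine good_of_basis (B.basis hκ h2 hn) (-1) (Or.inr rfl) fun t => ?_
  rw [B.basis_apply]
  rcases t with i | i
  · show (g : V ≃ₗ[F] V) (κ (B.u i)) = (-1 : F) • κ ((g : V ≃ₗ[F] V) (B.u i))
    have hs0 : s i ≠ 0 := fun h => B.δ_ne hκ i (by rw [← hs i, h, mul_zero])
    have := B.q_ne i
    rw [hu, map_smul, B.κw hκ, B.κu, map_add, map_smul, hu, hw, ← hs]
    match_scalars <;> field_simp
  · show (g : V ≃ₗ[F] V) (κ (B.w i)) = (-1 : F) • κ ((g : V ≃ₗ[F] V) (B.w i))
    have hs0 : s i ≠ 0 := fun h => B.δ_ne hκ i (by rw [← hs i, h, mul_zero])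
    have := B.q_ne i
    rw [hw, map_smul, B.κu, B.κw hκ, map_sub, map_smul, map_smul, hu, hw, ← hs]
    match_scalars <;> field_simp

theorem cls_eq_prod [Finite F] (hκ : IsSAField Q κ a) (hQ : Nondeg Q) (h2 : (2 : F) ≠ 0) (hn : finrank F V = 2 * d) :
    cls Q hQ h2 = ∏ i, sqSign (B.δ i) := by
  rw [cls_eq hQ h2 (B.ortho hκ) (B.qe_ne hκ h2) (by simp [hn]; omega), Fintype.prod_sum_type, ← Finset.prod_mul_distrib]
  refine Finset.prod_congr rfl fun i _ => ?_
  show sqSign (Q (B.u i)) * sqSign (Q (B.w i)) = _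
  rw [← sqSign_mul h2 (B.qu_ne hκ h2 i) (B.qw_ne hκ h2 i), B.q_eq, B.qw hκ h2,
    mul_div_cancel₀ _ (B.q_ne i)]

end FieldBasis

/-- Orders of orthogonal groups of dimension `d` over the quadratic extension, by the class over `F`. -/
def HasFieldOrder (Q : QuadraticForm F V) (hQ : Nondeg Q) (h2 : (2 : F) ≠ 0) [FiniteDimensional F V] [Finite F]
    (d n : ℕ) : Prop :=
  (∃ m, d = 2 * m + 1 ∧ n = 2 * (Nat.card F ^ 2) ^ (m ^ 2) * oprod (Nat.card F ^ 2) m) ∨
  (∃ m, d = 2 * (m + 1) ∧ cls Q hQ h2 = sqSign (-1 : F) ^ d ∧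
    n = 2 * (Nat.card F ^ 2) ^ ((m + 1) * m) * ((Nat.card F ^ 2) ^ (m + 1) - 1) * oprod (Nat.card F ^ 2) m) ∨
  (∃ m, d = 2 * (m + 1) ∧ cls Q hQ h2 ≠ sqSign (-1 : F) ^ d ∧
    n = 2 * (Nat.card F ^ 2) ^ ((m + 1) * m) * ((Nat.card F ^ 2) ^ (m + 1) + 1) * oprod (Nat.card F ^ 2) m)

variable [FiniteDimensional F V] [Finite F]

theorem exists_field_data (hQ : Nondeg Q) (h2 : (2 : F) ≠ 0) (hκ : IsSAField Q κ a) {d : ℕ}
    (hn : finrank F V = 2 * d) (hd : 0 < d) :
    (∀ qc : ℕ → F × F, ∃ B : FieldBasis Q κ a d,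
      ∀ i : Fin d, (i : ℕ) + 1 < d → (qc i).1 ≠ 0 → B.q i = (qc i).1 ∧ B.c i = (qc i).2) ∧
    ∃ C : Subgroup (O Q), C ≤ goodGroup Q κ ∧ HasFieldOrder Q hQ h2 d (Nat.card C) := by
  classical
  haveI : Fact (∀ r : F, r ^ 2 ≠ a + 0 * r) :=
    ⟨fun r h => hκ.nsq ⟨r, by rw [← pow_two, h, zero_mul, add_zero]⟩⟩
  let hroot : {u : Module.End F V // u * u = a • 1 + (0 : F) • u} :=
    ⟨κ, LinearMap.ext fun v => by simp [hκ.sq]⟩
  let φ : QuadraticAlgebra F a 0 →ₐ[F] Module.End F V := QuadraticAlgebra.lift hroot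
  letI : Module (QuadraticAlgebra F a 0) V := Module.compHom V φ.toRingHom
  have hsm : ∀ (z : QuadraticAlgebra F a 0) (v : V), z • v = z.re • v + z.im • κ v := fun z v => rfl
  haveI : IsScalarTower F (QuadraticAlgebra F a 0) V := ⟨fun r z v => by
    rw [hsm, hsm, smul_add, smul_smul, smul_smul]; rfl⟩
  haveI : Finite (QuadraticAlgebra F a 0) := Module.finite_of_finite F
  haveI : FiniteDimensional (QuadraticAlgebra F a 0) V := Module.Finite.of_restrictScalars_finite F _ _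
  have hKd : finrank (QuadraticAlgebra F a 0) V = d := by
    have h1 := Module.finrank_mul_finrank F (QuadraticAlgebra F a 0) V
    rw [QuadraticAlgebra.finrank_eq_two, hn] at h1
    omega
  have h2K : (2 : QuadraticAlgebra F a 0) ≠ 0 := fun h => h2 ((algebraMap F (QuadraticAlgebra F a 0)).injective
    (by rw [map_ofNat, h, map_zero]))
  let b : V → V → QuadraticAlgebra F a 0 := fun u v => ⟨polar Q u (κ v), polar Q u v⟩
  have hbs : ∀ (z : QuadraticAlgebra F a 0) u v, b (z • u) v = z * b u v := fun z u v => by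
    ext
    · show polar Q (z • u) (κ v) = _
      rw [hsm, polar_add_left, polar_smul_left', polar_smul_left', hκ.sa, hκ.sq, polar_smul_right',
        QuadraticAlgebra.re_mul]
      simp only [b]; ring
    · show polar Q (z • u) v = _
      rw [hsm, polar_add_left, polar_smul_left', polar_smul_left', hκ.sa, QuadraticAlgebra.im_mul]
      simp only [b]; ring
  have hbc : ∀ u v, b u v = b v u := fun u v => by
    ext
    · show polar Q u (κ v) = polar Q v (κ u)
      rw [← hκ.sa, polar_comm]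
    · exact polar_comm _ _ _
  have hba : ∀ x y v, b (x + y) v = b x v + b y v := fun x y v => by
    ext <;> simp [b, polar_add_left]
  let bK : LinearMap.BilinForm (QuadraticAlgebra F a 0) V := LinearMap.mk₂ _ b hba
    (fun z u v => by rw [hbs, smul_eq_mul])
    (fun u x y => by rw [hbc, hba, hbc x, hbc y])
    (fun z u v => by rw [hbc, hbs, hbc, smul_eq_mul])
  let QK : QuadraticForm (QuadraticAlgebra F a 0) V := LinearMap.BilinMap.toQuadraticMap bK
  have hQK : ∀ v, QK v = ⟨polar Q v (κ v), polar Q v v⟩ := fun v => rfl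
  have hpol : ∀ u v, polar QK u v = 2 * b u v := fun u v => by
    show polar (LinearMap.BilinMap.toQuadraticMap bK) u v = _
    rw [LinearMap.BilinMap.polar_toQuadraticMap]
    show b u v + b v u = _
    rw [hbc v u, two_mul]
  have hKn : Nondeg QK := fun x hx => hQ x fun y => by
    have h1 := hx y
    rw [hpol] at h1
    exact congrArg QuadraticAlgebra.im ((mul_eq_zero.1 h1).resolve_left h2K)
  have hbasis : ∀ qc : ℕ → F × F, ∃ B : FieldBasis Q κ a d, ∀ i : Fin d, (i : ℕ) + 1 < d → (qc i).1 ≠ 0 →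
      B.q i = (qc i).1 ∧ B.c i = (qc i).2 := by
    intro qc
    obtain ⟨v, h1, h3, h4⟩ := exists_ortho h2K d QK hKn hKd fun i => ⟨2 * (qc i).2, 2 * (qc i).1⟩
    let u : Fin d → V := fun i => if Q (v i) = 0 then v i + κ (v i) else v i
    have hu : ∀ i, ∃ z : QuadraticAlgebra F a 0, u i = z • v i := fun i => by
      by_cases h : Q (v i) = 0
      · exact ⟨⟨1, 1⟩, by simp [u, h, hsm]⟩
      · exact ⟨1, by simp [u, h]⟩
    have hb0 : ∀ i j, i ≠ j → b (u i) (u j) = 0 := fun i j hij => by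
      obtain ⟨z, hz⟩ := hu i
      obtain ⟨z', hz'⟩ := hu j
      have h5 : b (v i) (v j) = 0 := by
        have := h1 i j hij
        rw [hpol] at this
        exact (mul_eq_zero.1 this).resolve_left h2K
      rw [hz, hz', hbs, hbc, hbs, hbc (v j), h5, mul_zero, mul_zero]
    refine ⟨⟨u, fun i => Q (u i), fun i => polar Q (u i) (κ (u i)) / 2, fun i => ?_, fun i => rfl,
      fun i => (mul_div_cancel₀ _ h2).symm, fun i j hij => congrArg QuadraticAlgebra.im (hb0 i j hij),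
      fun i j hij => congrArg QuadraticAlgebra.re (hb0 i j hij)⟩, fun i hi hq => ?_⟩
    · by_cases h : Q (v i) = 0
      · simp only [u, if_pos h]
        rw [map_add_polar, hκ.qκ h2, h, mul_zero, zero_add, zero_add]
        intro h0
        exact h3 i (by rw [hQK, polar_self', h, mul_zero, h0]; rfl)
      · simpa only [u, if_neg h] using h
    · have h5 := h4 i hi (fun h0 => hq ((mul_eq_zero.1 (congrArg QuadraticAlgebra.im h0)).resolve_left h2))
      rw [hQK] at h5
      have e1 : polar Q (v i) (κ (v i)) = 2 * (qc i).2 := congrArg QuadraticAlgebra.re h5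
      have e2 : polar Q (v i) (v i) = 2 * (qc i).1 := congrArg QuadraticAlgebra.im h5
      rw [polar_self'] at e2
      have e3 : Q (v i) = (qc i).1 := mul_left_cancel₀ h2 e2
      have e4 : u i = v i := by simp [u, e3, hq]
      refine ⟨?_, ?_⟩
      · show Q (u i) = _
        rw [e4, e3]
      · show polar Q (u i) (κ (u i)) / 2 = _
        rw [e4, e1, mul_div_cancel_left₀ _ h2]
  refine ⟨hbasis, ?_⟩
  have hres : ∀ (g : O QK) (x : V), Q (((g : V ≃ₗ[QuadraticAlgebra F a 0] V).restrictScalars F) x) = Q x := fun g x => by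
    have h1 := congrArg QuadraticAlgebra.im (O.map_app g x)
    rw [hQK, hQK] at h1
    change polar Q _ _ = polar Q _ _ at h1
    rw [polar_self', polar_self'] at h1
    exact mul_left_cancel₀ h2 h1
  let ρ : O QK →* O Q :=
    { toFun := fun g => ⟨(g : V ≃ₗ[QuadraticAlgebra F a 0] V).restrictScalars F, hres g⟩
      map_one' := O.ext_app fun x => rfl
      map_mul' := fun g h => O.ext_app fun x => rfl }
  have hρ : Function.Injective ρ := fun g h hgh => O.ext_app fun x =>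
    congrArg (fun t : O Q => (t : V ≃ₗ[F] V) x) hgh
  refine ⟨ρ.range, ?_, ?_⟩
  · rintro - ⟨g, rfl⟩
    refine ⟨1, Or.inl rfl, fun v => ?_⟩
    have hκv : ∀ w, κ w = (⟨0, 1⟩ : QuadraticAlgebra F a 0) • w := fun w => by simp [hsm]
    show (g : V ≃ₗ[QuadraticAlgebra F a 0] V) (κ v) = (1 : F) • κ ((g : V ≃ₗ[QuadraticAlgebra F a 0] V) v)
    rw [one_smul, hκv, map_smul, ← hκv]
  rw [Nat.card_congr (MonoidHom.ofInjective hρ).toEquiv.symm]
  have hcard : Nat.card (QuadraticAlgebra F a 0) = Nat.card F ^ 2 := by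
    rw [Module.natCard_eq_pow_finrank (K := F), QuadraticAlgebra.finrank_eq_two]
  -- the two classes
  have hneg : sqSign (-1 : QuadraticAlgebra F a 0) = 1 := by
    refine sqSign_of_isSquare ?_
    by_cases h : IsSquare (-1 : F)
    · obtain ⟨r, hr⟩ := h
      exact ⟨algebraMap F _ r, by rw [← map_mul, ← hr, map_neg, map_one]⟩
    · obtain ⟨r, hr⟩ := sqSign_eq_one_iff.1 (show sqSign ((-1) * a : F) = 1 by
        rw [sqSign_mul h2 (neg_ne_zero.2 one_ne_zero) hκ.ne, sqSign_of_not_isSquare h, sqSign_of_not_isSquare hκ.nsq]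
        rfl)
      refine ⟨⟨0, r / a⟩, ?_⟩
      have := hκ.ne
      ext
      · rw [QuadraticAlgebra.re_neg, QuadraticAlgebra.re_one, QuadraticAlgebra.re_mul]; field_simp; linear_combination hr
      · rw [QuadraticAlgebra.im_neg, QuadraticAlgebra.im_one, QuadraticAlgebra.im_mul]; simp
  have hN : ∀ z : QuadraticAlgebra F a 0, z ≠ 0 → sqSign (QuadraticAlgebra.norm z) = sqSign z := by
    intro z hz
    by_cases hs : IsSquare z
    · rw [sqSign_of_isSquare hs, sqSign_of_isSquare (hs.map QuadraticAlgebra.norm)]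
    · obtain ⟨ν, hν⟩ : ∃ ν : F, ¬ IsSquare ν := ⟨a, hκ.nsq⟩
      obtain ⟨x, y, hxy⟩ := exists_sq_add_sq one_ne_zero (neg_ne_zero.2 hκ.ne) ν
      let z₀ : QuadraticAlgebra F a 0 := ⟨x, y⟩
      have hN₀ : QuadraticAlgebra.norm z₀ = ν := by
        rw [QuadraticAlgebra.norm_def]; simp only [z₀]; linear_combination hxy
      have hz₀ : ¬ IsSquare z₀ := fun h => hν (hN₀ ▸ h.map QuadraticAlgebra.norm)
      have hz0 : z₀ ≠ 0 := fun h => hz₀ (h ▸ IsSquare.zero)
      have e1 : IsSquare (z * z₀) := (isSquare_mul_iff h2K hz hz0).2 (iff_of_false hs hz₀)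
      have e2 := e1.map (QuadraticAlgebra.norm (R := F) (a := a) (b := 0))
      rw [map_mul, hN₀, isSquare_mul_iff h2 ((QuadraticAlgebra.norm_eq_zero_iff_eq_zero).not.2 hz)
        (fun h => hν (by rw [h]; exact IsSquare.zero))] at e2
      rw [sqSign_of_not_isSquare hs, sqSign_of_not_isSquare (mt e2.1 hν)]
  obtain ⟨B, -⟩ := hbasis fun _ => (1, 0)
  have hbu : ∀ i j, i ≠ j → b (B.u i) (B.u j) = 0 := fun i j hij =>
    QuadraticAlgebra.ext (B.orthκ i j hij) (B.orth i j hij)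
  have hQu : ∀ i, QK (B.u i) = ⟨2 * B.c i, 2 * B.q i⟩ := fun i => by
    rw [hQK, B.c_eq, polar_self', B.q_eq]
  have hQu0 : ∀ i, QK (B.u i) ≠ 0 := fun i h => mul_ne_zero h2 (B.q_ne i) (by
    rw [hQu] at h; exact congrArg QuadraticAlgebra.im h)
  have hcls : cls Q hQ h2 = sqSign (-1 : F) ^ d * cls QK hKn h2K := by
    have hdd : sqSign (-1 : F) ^ d = ∏ _i : Fin d, sqSign (-1 : F) := by simp
    rw [B.cls_eq_prod hκ hQ h2 hn, cls_eq hKn h2K (v := B.u)
      (fun i j hij => by rw [hpol, hbu i j hij, mul_zero]) hQu0 (by simp [hKd]), hdd, ← Finset.prod_mul_distrib]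
    refine Finset.prod_congr rfl fun i _ => ?_
    rw [← hN _ (hQu0 i), hQu, QuadraticAlgebra.norm_def]
    have h4 : (2 * B.c i) * (2 * B.c i) + 0 * (2 * B.c i) * (2 * B.q i) - a * (2 * B.q i) * (2 * B.q i)
        = (-1) * (2 * 2 * B.δ i) := by rw [FieldBasis.δ]; ring
    rw [h4, sqSign_mul h2 (neg_ne_zero.2 one_ne_zero) (mul_ne_zero (mul_ne_zero h2 h2) (B.δ_ne hκ i)),
      sqSign_mul h2 (mul_ne_zero h2 h2) (B.δ_ne hκ i), sqSign_of_isSquare ⟨2, rfl⟩, one_mul, ← mul_assoc,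
      Int.units_mul_self, one_mul]
  rcases Nat.even_or_odd' d with ⟨m, hm | hm⟩
  · cases m with
    | zero => omega
    | succ m =>
      rcases card_O_cases hKn h2K (m := m) (by rw [hKd, hm]) with ⟨hc, hO⟩ | ⟨hc, hO⟩
      · refine Or.inr (Or.inl ⟨m, hm, ?_, by rw [hO, hcard]⟩)
        rw [hcls, hc, hneg, one_pow, mul_one]
      · refine Or.inr (Or.inr ⟨m, hm, fun h => hc ?_, by rw [hO, hcard]⟩)
        rw [hcls] at h
        rw [hneg, one_pow]
        exact mul_eq_left.1 h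
  · obtain ⟨k, e, f, hf, ha⟩ := hKn.exists_frame
    have hr := hf.finrank_kernel hKn
    have hle := finrank_le_two_of_aniso (hf.nondeg_kernel hKn) ha
    obtain rfl : k = m := by omega
    exact Or.inl ⟨k, hm, by rw [card_O_odd k QK hKn hf ha (by omega), hcard]⟩

/-! ### Normalising elements with square `±1` -/

theorem exists_square_offset (h2 : (2 : F) ≠ 0) (ha : ¬ IsSquare a) (σ : ℤˣ) :
    ∃ c : F, a - c ^ 2 ≠ 0 ∧ sqSign (a - c ^ 2) = σ := by
  rcases Int.units_eq_one_or σ with rfl | rfl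
  · obtain ⟨x, y, h⟩ := exists_sq_add_sq (one_ne_zero (α := F)) one_ne_zero a
    have hy : y ≠ 0 := fun h0 => ha ⟨x, by rw [← h, h0]; ring⟩
    have he : a - x ^ 2 = y * y := by linear_combination -h
    exact ⟨x, by rw [he]; exact mul_ne_zero hy hy, by rw [he, sqSign_of_isSquare ⟨y, rfl⟩]⟩
  · have he : a - (0 : F) ^ 2 = a := by ring
    exact ⟨0, by rw [he]; exact fun h => ha (h ▸ IsSquare.zero), by rw [he, sqSign_of_not_isSquare ha]⟩

theorem exists_good_invol (hQ : Nondeg Q) (h2 : (2 : F) ≠ 0) (hκ : IsSAField Q κ a) {d : ℕ}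
    (hn : finrank F V = 2 * d) {l : ℕ} (hl : 0 < l) (hld : l < d) (σ : ℤˣ) :
    ∃ y r : O Q, y ∈ goodGroup Q κ ∧ y * y = 1 ∧ spinor Q hQ h2 y = σ ∧ detSign Q hQ h2 y = 1 ∧
      finrank F (LinearMap.ker (((y : V ≃ₗ[F] V) : V →ₗ[F] V) + 1)) = 2 * l ∧
      detSign Q hQ h2 r = -1 ∧ r * y * r⁻¹ ∈ goodGroup Q κ := by
  classical
  obtain ⟨cσ, -, hσ'⟩ := exists_square_offset h2 hκ.nsq σ
  obtain ⟨c1, -, h1'⟩ := exists_square_offset h2 hκ.nsq 1
  obtain ⟨B, hB⟩ := (exists_field_data hQ h2 hκ hn (by omega)).1 fun i => (1, if i = 0 then cσ else c1)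
  have hδ : ∀ i : Fin l, sqSign (B.δ (Fin.castLE hld.le i)) = if (i : ℕ) = 0 then σ else 1 := fun i => by
    obtain ⟨e1, e2⟩ := hB (Fin.castLE hld.le i) (by simp only [Fin.val_castLE]; omega) one_ne_zero
    rw [FieldBasis.δ, e1, e2, Fin.val_castLE, one_pow, mul_one]
    by_cases h : (i : ℕ) = 0
    · simp only [h, if_pos, hσ']
    · simp only [h, if_false, h1']
  let em : Fin l ⊕ Fin l → V := fun s => B.e (s.map (Fin.castLE hld.le) (Fin.castLE hld.le))
  have hem : Ortho Q em := fun s t hst => B.ortho hκ _ _ fun h => hst (by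
    rcases s with i | i <;> rcases t with j | j <;> simp at h <;> rw [h])
  have hem0 : ∀ s, Q (em s) ≠ 0 := fun s => B.qe_ne hκ h2 _
  set y := reflOn Q em with hy
  let sg : Fin d → F := fun i => if (i : ℕ) < l then -1 else 1
  have happ : ∀ i, (y : V ≃ₗ[F] V) (B.u i) = sg i • B.u i ∧ (y : V ≃ₗ[F] V) (B.w i) = sg i • B.w i := fun i => by
    by_cases h : (i : ℕ) < l
    · have e1 := reflOn_app hem hem0 (.inl ⟨i, h⟩)
      have e2 := reflOn_app hem hem0 (.inr ⟨i, h⟩)
      simp only [sg, if_pos h, neg_one_smul]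
      exact ⟨e1, e2⟩
    · have hne : ∀ (t : Fin d ⊕ Fin d), (t = .inl i ∨ t = .inr i) →
          ∀ s : Fin l ⊕ Fin l, polar Q (em s) (B.e t) = 0 := fun t ht s => B.ortho hκ _ _ fun hh => by
        rcases s with j | j <;> rcases ht with rfl | rfl <;> simp at hh <;>
          exact h (by rw [← hh]; exact j.2)
      simp only [sg, if_neg h, one_smul]
      exact ⟨reflOn_fix (hne (.inl i) (Or.inl rfl)), reflOn_fix (hne (.inr i) (Or.inr rfl))⟩
  let i0 : Fin d := ⟨0, by omega⟩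
  have hu0 : Q (B.u i0) ≠ 0 := B.qe_ne hκ h2 (.inl i0)
  have hgood : y ∈ goodGroup Q κ := B.good_diag hκ h2 hn sg (fun i => (happ i).1) fun i => (happ i).2
  refine ⟨y, rO Q (B.u i0), hgood, B.ext_app hκ h2 hn (fun i => ?_) fun i => ?_, ?_, ?_, ?_,
    detSign_rO hQ h2 hu0, ?_⟩
  · rw [Subgroup.coe_mul, mul_app, (happ i).1, map_smul, (happ i).1, smul_smul]
    simp only [sg]; split_ifs <;> simp
  · rw [Subgroup.coe_mul, mul_app, (happ i).2, map_smul, (happ i).2, smul_smul]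
    simp only [sg]; split_ifs <;> simp
  · rw [hy, spinor_reflOn hQ h2 hem0, Fintype.prod_sum_type, ← Finset.prod_mul_distrib,
      Finset.prod_eq_single (⟨0, hl⟩ : Fin l) (fun i _ hi => ?_) (by simp)]
    · show sqSign (Q (B.u (Fin.castLE hld.le ⟨0, hl⟩))) * sqSign (Q (B.w (Fin.castLE hld.le ⟨0, hl⟩))) = σ
      rw [← sqSign_mul h2 (B.qu_ne hκ h2 _) (B.qw_ne hκ h2 _), B.q_eq, B.qw hκ h2,
        mul_div_cancel₀ _ (B.q_ne _), hδ, if_pos rfl]
    · show sqSign (Q (B.u (Fin.castLE hld.le i))) * sqSign (Q (B.w (Fin.castLE hld.le i))) = 1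
      rw [← sqSign_mul h2 (B.qu_ne hκ h2 _) (B.qw_ne hκ h2 _), B.q_eq, B.qw hκ h2,
        mul_div_cancel₀ _ (B.q_ne _), hδ, if_neg fun h => hi (Fin.ext h)]
  · rw [hy, detSign_reflOn hQ h2 hem0, Fintype.card_sum, Fintype.card_fin, ← two_mul, (even_two_mul l).neg_one_pow]
  · set M := LinearMap.ker (((y : V ≃ₗ[F] V) : V →ₗ[F] V) + 1)
    set P := LinearMap.ker (((y : V ≃ₗ[F] V) : V →ₗ[F] V) - 1)
    let sh : Fin (d - l) → Fin d := fun i => ⟨(i : ℕ) + l, by have := i.2; omega⟩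
    let rest : Fin (d - l) ⊕ Fin (d - l) → V := fun s => B.e (s.map sh sh)
    have h1 : Submodule.span F (Set.range em) ≤ M := Submodule.span_le.2 (by
      rintro - ⟨s, rfl⟩
      show ((y : V ≃ₗ[F] V) : V →ₗ[F] V) (em s) + em s = 0
      rw [LinearEquiv.coe_coe, hy, reflOn_app hem hem0, neg_add_cancel])
    have h3 : Submodule.span F (Set.range rest) ≤ P := Submodule.span_le.2 (by
      rintro - ⟨s, rfl⟩
      show ((y : V ≃ₗ[F] V) : V →ₗ[F] V) (rest s) - rest s = 0
      rw [sub_eq_zero, LinearEquiv.coe_coe]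
      rcases s with i | i
      · refine ((happ (sh i)).1).trans ?_
        simp [sg, rest, sh, FieldBasis.e]
      · refine ((happ (sh i)).2).trans ?_
        simp [sg, rest, sh, FieldBasis.e])
    have hrest : Ortho Q rest := fun s t hst => B.ortho hκ _ _ fun h => hst (by
      rcases s with i | i <;> rcases t with j | j <;> simp [sh, Fin.ext_iff] at h <;> simp [Fin.ext_iff, h])
    have f1 := Submodule.finrank_mono h1
    have f3 := Submodule.finrank_mono h3
    rw [finrank_span_eq_card (hem.linearIndependent h2 hem0)] at f1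
    rw [finrank_span_eq_card (hrest.linearIndependent h2 fun s => B.qe_ne hκ h2 _)] at f3
    have hdis : Disjoint M P := Submodule.disjoint_def.2 fun v hv hv' => by
      have e1 : ((y : V ≃ₗ[F] V) : V →ₗ[F] V) v + v = 0 := hv
      have e2 : ((y : V ≃ₗ[F] V) : V →ₗ[F] V) v - v = 0 := hv'
      rw [sub_eq_zero] at e2
      rw [e2, ← two_smul F] at e1
      exact (smul_eq_zero.1 e1).resolve_left h2
    have f5 := Submodule.finrank_add_finrank_le_of_disjoint hdis
    simp only [Fintype.card_sum, Fintype.card_fin] at f1 f3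
    omega
  · rw [show rO Q (B.u i0) * y * (rO Q (B.u i0))⁻¹ = y from ?_]
    · exact hgood
    rw [mul_inv_eq_iff_eq_mul]
    have hrw0 : ∀ i, (rO Q (B.u i0) : V ≃ₗ[F] V) (B.w i) = B.w i := fun i =>
      rO_fix (show polar Q (B.u i0) (B.w i) = 0 from B.ortho hκ (.inl i0) (.inr i) (by simp))
    refine B.ext_app hκ h2 hn (fun i => ?_) fun i => ?_
    · rw [Subgroup.coe_mul, Subgroup.coe_mul, mul_app, mul_app, (happ i).1, map_smul]
      by_cases h : i = i0
      · subst h; rw [rO_self hu0, map_neg, (happ _).1, smul_neg]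
      · rw [rO_fix (B.orth i0 i (Ne.symm h)), (happ i).1]
    · rw [Subgroup.coe_mul, Subgroup.coe_mul, mul_app, mul_app, (happ i).2, map_smul,
        hrw0, (happ i).2]

theorem exists_good_negone (hQ : Nondeg Q) (h2 : (2 : F) ≠ 0) (hκ : IsSAField Q κ a) {d : ℕ}
    (hn : finrank F V = 2 * d) (hd : 0 < d) (hc : cls Q hQ h2 = 1) :
    ∃ y r : O Q, y ∈ goodGroup Q κ ∧ (∀ v, (y : V ≃ₗ[F] V) ((y : V ≃ₗ[F] V) v) = -v) ∧
      detSign Q hQ h2 r = -1 ∧ r * y * r⁻¹ ∈ goodGroup Q κ := by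
  classical
  obtain ⟨n, rfl⟩ : ∃ n, d = n + 1 := ⟨d - 1, by omega⟩
  obtain ⟨c1, -, h1⟩ := exists_square_offset h2 hκ.nsq 1
  obtain ⟨B, hB⟩ := (exists_field_data hQ h2 hκ hn (by omega)).1 fun _ => (1, c1)
  have hfirst : ∀ i : Fin n, sqSign (B.δ i.castSucc) = 1 := fun i => by
    obtain ⟨e1, e2⟩ := hB i.castSucc (by simp) one_ne_zero
    rw [FieldBasis.δ, e1, e2, one_pow, mul_one, h1]
  have hall : ∀ i, ∃ s : F, s * s = B.δ i := fun i => by
    suffices sqSign (B.δ i) = 1 by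
      obtain ⟨s, hs⟩ := sqSign_eq_one_iff.1 this; exact ⟨s, hs.symm⟩
    cases i using Fin.lastCases with
    | cast i => exact hfirst i
    | last =>
      rw [B.cls_eq_prod hκ hQ h2 hn, Fin.prod_univ_castSucc, Finset.prod_eq_one fun i _ => hfirst i, one_mul] at hc
      exact hc
  choose s hs using hall
  have hs0 : ∀ i, s i ≠ 0 := fun i h => B.δ_ne hκ i (by rw [← hs, h, mul_zero])
  let f : Fin (n + 1) ⊕ Fin (n + 1) → V :=
    Sum.elim (fun i => (B.q i / s i) • B.w i) fun i => (-(s i / B.q i)) • B.u i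
  obtain ⟨g, hg⟩ := exists_map_family hQ (v := B.e) (w := f)
    ((B.ortho hκ).linearIndependent h2 (B.qe_ne hκ h2))
    (by
      refine Ortho.linearIndependent (Q := Q) ?_ h2 ?_
      · intro x y hxy
        rcases x with i | i <;> rcases y with j | j <;> simp only [f, Sum.elim_inl, Sum.elim_inr, polar_smul_left', polar_smul_right']
        · have : polar Q (B.w i) (B.w j) = 0 := B.ortho hκ (.inr i) (.inr j) (by simpa using hxy)
          rw [this]; simp
        · have : polar Q (B.w i) (B.u j) = 0 := B.ortho hκ (.inr i) (.inl j) (by simp)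
          rw [this]; simp
        · have : polar Q (B.u i) (B.w j) = 0 := B.ortho hκ (.inl i) (.inr j) (by simp)
          rw [this]; simp
        · have : polar Q (B.u i) (B.u j) = 0 := B.ortho hκ (.inl i) (.inl j) (by simpa using hxy)
          rw [this]; simp
      · rintro (i | i) <;> simp only [f, Sum.elim_inl, Sum.elim_inr, qmap_smul]
        · exact mul_ne_zero (pow_ne_zero 2 (div_ne_zero (B.q_ne i) (hs0 i))) (B.qe_ne hκ h2 (.inr i))
        · exact mul_ne_zero (pow_ne_zero 2 (neg_ne_zero.2 (div_ne_zero (hs0 i) (B.q_ne i)))) (B.qe_ne hκ h2 (.inl i)))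
    (by
      rintro (i | i) <;> simp only [f, Sum.elim_inl, Sum.elim_inr, qmap_smul, FieldBasis.e, B.qw hκ h2, B.q_eq, ← hs]
      · have := B.q_ne i; have := hs0 i; field_simp
      · have := B.q_ne i; have := hs0 i; field_simp)
    (fun x y hxy => by
      rw [B.ortho hκ x y hxy]
      rcases x with i | i <;> rcases y with j | j <;> simp only [f, Sum.elim_inl, Sum.elim_inr, polar_smul_left', polar_smul_right']
      · have : polar Q (B.w i) (B.w j) = 0 := B.ortho hκ (.inr i) (.inr j) (by simpa using hxy)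
        rw [this]; simp
      · have : polar Q (B.w i) (B.u j) = 0 := B.ortho hκ (.inr i) (.inl j) (by simp)
        rw [this]; simp
      · have : polar Q (B.u i) (B.w j) = 0 := B.ortho hκ (.inl i) (.inr j) (by simp)
        rw [this]; simp
      · have : polar Q (B.u i) (B.u j) = 0 := B.ortho hκ (.inl i) (.inl j) (by simpa using hxy)
        rw [this]; simp)
  have hu : ∀ i, (g : V ≃ₗ[F] V) (B.u i) = (B.q i / s i) • B.w i := fun i => hg (.inl i)
  have hw : ∀ i, (g : V ≃ₗ[F] V) (B.w i) = (-(s i / B.q i)) • B.u i := fun i => hg (.inr i)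
  have hgg : g * g = negO Q := B.ext_app hκ h2 hn
    (fun i => by
      rw [Subgroup.coe_mul, mul_app, hu, map_smul, hw, smul_smul, negO_app, ← neg_one_smul F (B.u i)]
      congr 1
      have := B.q_ne i; have := hs0 i; field_simp)
    fun i => by
      rw [Subgroup.coe_mul, mul_app, hw, map_smul, hu, smul_smul, negO_app, ← neg_one_smul F (B.w i)]
      congr 1
      have := B.q_ne i; have := hs0 i; field_simp
  let i0 : Fin (n + 1) := 0
  have hu0 : Q (B.u i0) ≠ 0 := B.qe_ne hκ h2 (.inl i0)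
  refine ⟨g, rO Q (B.u i0), B.good_turn hκ h2 hn s hs hu hw, fun v => ?_, detSign_rO hQ h2 hu0, ?_⟩
  · rw [← mul_app, ← Subgroup.coe_mul, hgg]; rfl
  let s' : Fin (n + 1) → F := fun i => if i = i0 then -s i else s i
  have hrw : ∀ i, (rO Q (B.u i0) : V ≃ₗ[F] V) (B.w i) = B.w i := fun i =>
    rO_fix (show polar Q (B.u i0) (B.w i) = 0 from B.ortho hκ (.inl i0) (.inr i) (by simp))
  refine B.good_turn hκ h2 hn s' (fun i => ?_) (fun i => ?_) fun i => ?_
  · simp only [s']; split_ifs <;> rw [← hs i] <;> ring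
  · rw [rO_inv, Subgroup.coe_mul, Subgroup.coe_mul, mul_app, mul_app]
    by_cases h : i = i0
    · subst h; rw [rO_self hu0, map_neg, hu, map_neg, map_smul, hrw]
      simp [s', div_neg]
    · rw [rO_fix (B.orth i0 i (Ne.symm h)), hu, map_smul, hrw]
      simp [s', h]
  · rw [rO_inv, Subgroup.coe_mul, Subgroup.coe_mul, mul_app, mul_app, hrw, hw, map_smul]
    by_cases h : i = i0
    · subst h; rw [rO_self hu0]
      simp [s', neg_div]
    · rw [rO_fix (B.orth i0 i (Ne.symm h))]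
      simp [s', h]

end Cfsg.Agent.H48.OrthField
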