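import Mathlib
import Cfsg.Prelude.Def_GeometricClasses

/-!
Elements of prime order that preserve no non-degenerate sesquilinear form up to a scalar.
-/

set_option autoImplicit false
set_option linter.style.haveILetI false

namespace Cfsg.Agent.H48.SimForm

open scoped Matrix MatrixGroups
open Polynomial

variable {F : Type*} [Field F] {n : ℕ}

/-- A form, linear in the first and `σ`-semilinear in the second variable, with trivial left radical. -/
structure IsSesq (σ : F ≃+* F) {V : Type*} [AddCommGroup V] [Module F V] (g : V → V → F) : Prop where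
  add_left : ∀ x y v, g (x + y) v = g x v + g y v
  smul_left : ∀ (c : F) x v, g (c • x) v = c * g x v
  add_right : ∀ v x y, g v (x + y) = g v x + g v y
  smul_right : ∀ (c : F) v x, g v (c • x) = σ c * g v x
  nd : ∀ v, (∀ w, g v w = 0) → v = 0

variable {σ : F ≃+* F}

theorem IsSesq.zero_left {V : Type*} [AddCommGroup V] [Module F V] {g : V → V → F} (hg : IsSesq σ g) (v : V) :
    g 0 v = 0 := by
  simpa using hg.smul_left 0 0 v

theorem IsSesq.zero_right {V : Type*} [AddCommGroup V] [Module F V] {g : V → V → F} (hg : IsSesq σ g) (v : V) :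
    g v 0 = 0 := by
  simpa using hg.smul_right 0 v 0

theorem IsSesq.sum_left {V : Type*} [AddCommGroup V] [Module F V] {g : V → V → F} (hg : IsSesq σ g) {ι : Type*}
    (s : Finset ι) (f : ι → V) (v : V) : g (∑ i ∈ s, f i) v = ∑ i ∈ s, g (f i) v :=
  map_sum (AddMonoidHom.mk' (fun x => g x v) fun x y => hg.add_left x y v) f s

theorem IsSesq.sum_right {V : Type*} [AddCommGroup V] [Module F V] {g : V → V → F} (hg : IsSesq σ g) {ι : Type*}
    (s : Finset ι) (f : ι → V) (v : V) : g v (∑ i ∈ s, f i) = ∑ i ∈ s, g v (f i) :=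
  map_sum (AddMonoidHom.mk' (g v) (hg.add_right v)) f s

theorem IsSesq.pullback {V W : Type*} [AddCommGroup V] [Module F V] [AddCommGroup W] [Module F W] {g : V → V → F}
    (hg : IsSesq σ g) (e : W ≃ₗ[F] V) : IsSesq σ fun a b => g (e a) (e b) where
  add_left x y v := by simp [hg.add_left]
  smul_left c x v := by simp [hg.smul_left]
  add_right v x y := by simp [hg.add_right]
  smul_right c v x := by simp [hg.smul_right]
  nd v hv := e.injective (by
    rw [map_zero]
    exact hg.nd _ fun w => by simpa using hv (e.symm w))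

/-- `x` multiplies some form by a non-zero scalar. -/
def IsSimil (σ : F ≃+* F) (x : Matrix (Fin n) (Fin n) F) : Prop :=
  ∃ (g : (Fin n → F) → (Fin n → F) → F) (c : F), IsSesq σ g ∧ c ≠ 0 ∧ ∀ a b, g (x *ᵥ a) (x *ᵥ b) = c * g a b

theorem isSimil_of_conj {f : (Fin n → F) → (Fin n → F) → F} (hf : IsSesq σ f) (x P : GL (Fin n) F) (c : F)
    (hc : c ≠ 0) (h : ∀ a b, f (((P⁻¹ * x * P : GL (Fin n) F) : Matrix (Fin n) (Fin n) F) *ᵥ a)
      (((P⁻¹ * x * P : GL (Fin n) F) : Matrix (Fin n) (Fin n) F) *ᵥ b) = c * f a b) :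
    IsSimil σ (x : Matrix (Fin n) (Fin n) F) := by
  let e : (Fin n → F) ≃ₗ[F] (Fin n → F) :=
    LinearMap.GeneralLinearGroup.generalLinearEquiv F _ (Matrix.GeneralLinearGroup.toLin P⁻¹)
  have he : ∀ v, e v = ((P⁻¹ : GL (Fin n) F) : Matrix (Fin n) (Fin n) F) *ᵥ v := fun v => rfl
  refine ⟨_, c, hf.pullback e, hc, fun a b => ?_⟩
  have h1 := h (e a) (e b)
  have h2 : ∀ v, ((P⁻¹ * x * P : GL (Fin n) F) : Matrix (Fin n) (Fin n) F) *ᵥ e v =
      e ((x : Matrix (Fin n) (Fin n) F) *ᵥ v) := by
    intro v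
    rw [he, he, Matrix.mulVec_mulVec, Matrix.mulVec_mulVec, ← Units.val_mul, mul_inv_cancel_right, Units.val_mul]
  rwa [h2, h2] at h1

theorem simil_pow {x : Matrix (Fin n) (Fin n) F} {g : (Fin n → F) → (Fin n → F) → F} {c : F}
    (h : ∀ a b, g (x *ᵥ a) (x *ᵥ b) = c * g a b) (k : ℕ) (a b : Fin n → F) :
    g ((x ^ k) *ᵥ a) ((x ^ k) *ᵥ b) = c ^ k * g a b := by
  induction k generalizing a b with
  | zero => simp
  | succ k ih =>
    rw [pow_succ, ← Matrix.mulVec_mulVec, ← Matrix.mulVec_mulVec, ih, h]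
    ring

theorem pow_factor_eq_one {x : Matrix (Fin n) (Fin n) F} {g : (Fin n → F) → (Fin n → F) → F} {c : F}
    (hg : IsSesq σ g) (hn : 0 < n) (h : ∀ a b, g (x *ᵥ a) (x *ᵥ b) = c * g a b) {r : ℕ}
    (hx : x ^ r = 1) : c ^ r = 1 := by
  haveI : NeZero n := ⟨by omega⟩
  let a : Fin n → F := Pi.single 0 1
  obtain ⟨b, hb⟩ : ∃ b, g a b ≠ 0 := by
    by_contra hno
    push Not at hno
    simpa [a] using congrFun (hg.nd a hno) 0
  have := simil_pow h r a b
  rw [hx, Matrix.one_mulVec, Matrix.one_mulVec] at this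
  exact mul_right_cancel₀ hb (by rw [one_mul]; exact this.symm)

/-- Eigenvalue multiplicities of a diagonal similitude with eigenvalues fixed by `σ`. -/
theorem exists_count_eq [DecidableEq F] {d : Fin n → F} (hσ : ∀ i, σ (d i) = d i)
    (h : IsSimil σ (Matrix.diagonal d)) :
    ∃ c : F, c ≠ 0 ∧ ∀ μ : F, μ ≠ 0 →
      (Finset.univ.filter fun i => d i = μ).card = (Finset.univ.filter fun i => d i = c / μ).card := by
  classical
  obtain ⟨g, c, hg, hc, h⟩ := h
  refine ⟨c, hc, ?_⟩
  have hle : ∀ μ : F, μ ≠ 0 →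
      (Finset.univ.filter fun i => d i = μ).card ≤ (Finset.univ.filter fun i => d i = c / μ).card := by
    intro μ hμ
    set I := Finset.univ.filter fun i => d i = μ with hI
    set J := Finset.univ.filter fun i => d i = c / μ with hJ
    have hev : ∀ i, Matrix.diagonal d *ᵥ (Pi.single i 1) = d i • (Pi.single i 1 : Fin n → F) := by
      intro i
      funext j
      by_cases hj : j = i
      · subst hj; simp [Matrix.mulVec_diagonal]
      · simp [Matrix.mulVec_diagonal, hj]
    have horth : ∀ i ∈ I, ∀ j, j ∉ J → g (Pi.single i 1) (Pi.single j 1) = 0 := by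
      intro i hi j hj
      have h1 := h (Pi.single i 1) (Pi.single j 1)
      rw [hev, hev, hg.smul_left, hg.smul_right, hσ, (Finset.mem_filter.1 hi).2] at h1
      by_contra hne
      apply hj
      refine Finset.mem_filter.2 ⟨Finset.mem_univ _, ?_⟩
      rw [eq_div_iff hμ]
      exact mul_right_cancel₀ hne (by linear_combination h1)
    let emb : (I → F) →ₗ[F] (Fin n → F) :=
      Fintype.linearCombination F (fun i : I => (Pi.single (i : Fin n) 1 : Fin n → F))
    let ev : Fin n → (Fin n → F) →ₗ[F] F := fun j =>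
      { toFun := fun v => g v (Pi.single j 1)
        map_add' := fun x y => hg.add_left x y _
        map_smul' := fun a x => hg.smul_left a x _ }
    let res : (I → F) →ₗ[F] (J → F) := LinearMap.pi fun j : J => (ev j).comp emb
    have hinj : Function.Injective res := by
      refine (injective_iff_map_eq_zero res).2 fun v hv => ?_
      have h0 : emb v = 0 := hg.nd _ fun w => by
        rw [pi_eq_sum_univ' w, hg.sum_right]
        refine Finset.sum_eq_zero fun j _ => ?_
        rw [hg.smul_right]
        by_cases hj : j ∈ J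
        · rw [show g (emb v) (Pi.single j 1) = 0 from congrFun hv ⟨j, hj⟩, mul_zero]
        · simp only [emb, Fintype.linearCombination_apply, hg.sum_left, hg.smul_left]
          rw [Finset.sum_eq_zero (fun i _ => by rw [horth i i.2 j hj, mul_zero]), mul_zero]
      funext i
      have := congrFun h0 (i : Fin n)
      simpa [emb, Fintype.linearCombination_apply, Finset.sum_apply, Pi.single_apply,
        ← Subtype.ext_iff] using this
    simpa using LinearMap.finrank_le_finrank_of_injective hinj
  intro μ hμ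
  refine le_antisymm (hle μ hμ) ?_
  have := hle (c / μ) (div_ne_zero hc hμ)
  rwa [div_div_cancel₀ hc] at this

/-- A matrix of determinant one, of prime order modulo scalars, preserving no form up to a scalar. -/
def HasFormless (σ : F ≃+* F) (n r : ℕ) : Prop :=
  ∃ x : GL (Fin n) F, x ∈ Cfsg.Geo.specialLinear (Fin n) F ∧
    (∃ z : F, ((x ^ r : GL (Fin n) F) : Matrix (Fin n) (Fin n) F) = z • (1 : Matrix (Fin n) (Fin n) F)) ∧
    (∀ z : F, (x : Matrix (Fin n) (Fin n) F) ≠ z • (1 : Matrix (Fin n) (Fin n) F)) ∧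
    ¬ IsSimil σ (x : Matrix (Fin n) (Fin n) F)

theorem hasFormless_mk (M : Matrix (Fin n) (Fin n) F) (hdet : M.det = 1) {r : ℕ} (z : F) (hz : M ^ r = z • 1)
    (hns : ∀ z : F, M ≠ z • (1 : Matrix (Fin n) (Fin n) F)) (h : ¬ IsSimil σ M) : HasFormless σ n r := by
  refine ⟨Matrix.GeneralLinearGroup.mkOfDetNeZero M (by rw [hdet]; exact one_ne_zero), ?_, ⟨z, ?_⟩, hns, h⟩
  · rw [Cfsg.Geo.specialLinear, MonoidHom.mem_ker, ← Units.val_inj]
    exact hdet
  · rw [Units.val_pow_eq_pow_val]
    exact hz

/-- Three exceptional eigenvalues `ω, ω, ω⁻²`. -/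
theorem hasFormless_diagonal (r : ℕ) (hr : r.Prime) (hr2 : r ≠ 2) (hn : 3 ≤ n) (hgap : ¬ (n = 6 ∧ r = 3))
    (hexc : ¬ ((r = 3 ∨ r = 5) ∧ n = r)) (w : Fˣ) (hw : orderOf w = r) (hσw : σ (w : F) = (w : F)) :
    HasFormless σ n r := by
  classical
  set ω : F := (w : F) with hω
  have hw0 : ω ≠ 0 := w.ne_zero
  have hpow : ∀ k : ℕ, ω ^ k = 1 ↔ r ∣ k := fun k => by
    rw [hω, ← hw, orderOf_dvd_iff_pow_eq_one, Units.ext_iff, Units.val_pow_eq_pow_val, Units.val_one]
  have hr3 : 3 ≤ r := by have := hr.two_le; omega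
  have hsmall : ∀ k : ℕ, 0 < k → k < r → ω ^ k ≠ 1 := fun k hk hkr h =>
    Nat.not_le.2 hkr (Nat.le_of_dvd hk ((hpow k).1 h))
  have hω1 : ω ≠ 1 := fun h => hsmall 1 one_pos (by omega) (by rw [pow_one, h])
  set z : F := (ω ^ 2)⁻¹ with hz
  have hzω : z * ω ^ 2 = 1 := inv_mul_cancel₀ (pow_ne_zero _ hw0)
  have hz1 : z ≠ 1 := fun h => hsmall 2 two_pos (by omega) (inv_eq_one.1 h)
  have hz0 : z ≠ 0 := inv_ne_zero (pow_ne_zero _ hw0)
  let d : Fin n → F := fun i => if (i : ℕ) < 2 then ω else if (i : ℕ) = 2 then z else 1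
  let j0 : Fin n := ⟨0, by omega⟩
  let j1 : Fin n := ⟨1, by omega⟩
  let j2 : Fin n := ⟨2, by omega⟩
  have hd3 : ∀ i : Fin n, d i ≠ 1 → i = j0 ∨ i = j1 ∨ i = j2 := by
    intro i hi
    simp only [d] at hi
    simp only [j0, j1, j2, Fin.ext_iff]
    split_ifs at hi with a b
    · omega
    · omega
    · exact absurd rfl hi
  have d0 : d j0 = ω := by simp [d, j0]
  have d1 : d j1 = ω := by simp [d, j1]
  have d2 : d j2 = z := by simp [d, j2]
  have hval : ∀ i, d i = ω ∨ d i = z ∨ d i = 1 := by
    intro i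
    simp only [d]
    split_ifs <;> simp
  have h012 : Finset.card ({j0, j1, j2} : Finset (Fin n)) = 3 :=
    Finset.card_eq_three.2 ⟨j0, j1, j2, by simp [j0, j1], by simp [j0, j2], by simp [j1, j2], rfl⟩
  have hdet : (Matrix.diagonal d).det = 1 := by
    rw [Matrix.det_diagonal, ← Finset.prod_subset (Finset.subset_univ {j0, j1, j2}) (fun i _ hi => by
      by_contra hne
      rcases hd3 i hne with rfl | rfl | rfl <;> simp at hi)]
    rw [Finset.prod_insert (by simp [j0, j1, j2]), Finset.prod_pair (by simp [j1, j2]), d0, d1, d2]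
    linear_combination hzω
  have hdr : ∀ i, d i ^ r = 1 := by
    intro i
    have hωr : ω ^ r = 1 := (hpow r).2 dvd_rfl
    rcases hval i with e | e | e <;> rw [e]
    · exact hωr
    · rw [hz, inv_pow, ← pow_mul, mul_comm, pow_mul, hωr, one_pow, inv_one]
    · rw [one_pow]
  have hωz : ω = z → r = 3 := fun h => by
    have h3 : ω ^ 3 = 1 := by rw [← h] at hzω; linear_combination hzω
    exact (Nat.prime_dvd_prime_iff_eq hr Nat.prime_three).1 ((hpow 3).1 h3)
  refine hasFormless_mk (Matrix.diagonal d) hdet 1 ?_ (fun t ht => ?_) (fun hsim => ?_)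
  · rw [Matrix.diagonal_pow, show d ^ r = 1 from funext hdr, one_smul]
    exact Matrix.diagonal_one
  · have hall : ∀ i, d i = t := fun i => by
      have := congrFun (congrFun ht i) i
      simpa using this
    have e := (hall j0).trans (hall j2).symm
    rw [d0, d2] at e
    have h3 := hωz e
    have h4 : (⟨3, by
      by_contra h
      exact hexc ⟨Or.inl h3, by omega⟩⟩ : Fin n) ≠ j0 := by simp [j0]
    have e1 := (hall j0).trans (hall ⟨3, by
      by_contra h
      exact hexc ⟨Or.inl h3, by omega⟩⟩).symm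
    simp [d, j0] at e1
    exact hω1 e1
  obtain ⟨c, hc0, hsym⟩ := exists_count_eq (σ := σ) (fun i => by
    rcases hval i with e | e | e <;> rw [e]
    · exact hσw
    · rw [hz, map_inv₀, map_pow, hσw]
    · exact map_one σ) hsim
  set N : F → ℕ := fun μ => (Finset.univ.filter fun i => d i = μ).card with hN
  change ∀ μ, μ ≠ 0 → N μ = N (c / μ) at hsym
  have hvalN : ∀ μ, N μ ≠ 0 → μ = ω ∨ μ = z ∨ μ = 1 := by
    intro μ hμ
    obtain ⟨i, hi⟩ := Finset.card_pos.1 (Nat.pos_of_ne_zero hμ)
    rw [← (Finset.mem_filter.1 hi).2]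
    exact hval i
  have hN1 : N 1 = n - 3 := by
    have : (Finset.univ.filter fun i => d i = 1) = (Finset.univ : Finset (Fin n)) \ {j0, j1, j2} := by
      ext i
      simp only [Finset.mem_filter, Finset.mem_univ, true_and, Finset.mem_sdiff, Finset.mem_insert,
        Finset.mem_singleton, not_or]
      constructor
      · intro hi
        refine ⟨?_, ?_, ?_⟩ <;> rintro rfl
        · exact hω1 (d0 ▸ hi)
        · exact hω1 (d1 ▸ hi)
        · exact hz1 (d2 ▸ hi)
      · intro hi
        by_contra hne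
        have := hd3 i hne
        tauto
    simp only [hN, this]
    rw [Finset.card_sdiff_of_subset (Finset.subset_univ _), Finset.card_univ, Fintype.card_fin, h012]
  by_cases h3 : r = 3
  · have hzz : ω = z := by
      have h : ω ^ 3 = 1 := (hpow 3).2 (by rw [h3])
      exact mul_right_cancel₀ (pow_ne_zero 2 hw0) (by linear_combination h - hzω)
    have hn4 : 4 ≤ n := by
      by_contra h
      exact hexc ⟨Or.inl h3, by omega⟩
    have hNω : N ω = 3 := by
      have : (Finset.univ.filter fun i => d i = ω) = {j0, j1, j2} := by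
        ext i
        simp only [Finset.mem_filter, Finset.mem_univ, true_and, Finset.mem_insert, Finset.mem_singleton]
        refine ⟨fun hi => hd3 i (by rw [hi]; exact hω1), ?_⟩
        rintro (rfl | rfl | rfl)
        exacts [d0, d1, d2.trans hzz.symm]
      simp only [hN, this]
      exact h012
    have a := hsym ω hw0
    rw [hNω] at a
    rcases hvalN _ (by omega : N (c / ω) ≠ 0) with e | e | e
    rotate_left 2
    · rw [e, hN1] at a
      exact hgap ⟨by omega, h3⟩
    all_goals
      try rw [← hzz] at e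
      have hc : c = ω * ω := (div_eq_iff hw0).1 e
      have b := hsym 1 one_ne_zero
      rw [div_one, hN1, hc] at b
      rcases hvalN _ (by omega : N (ω * ω) ≠ 0) with f | f | f
      · exact hω1 (mul_left_cancel₀ hw0 (f.trans (mul_one ω).symm))
      · rw [← hzz] at f; exact hω1 (mul_left_cancel₀ hw0 (f.trans (mul_one ω).symm))
      · exact hsmall 2 two_pos (by omega) (by rw [sq]; exact f)
  · have hne : ω ≠ z := fun e => h3 (hωz e)
    have hNω : N ω = 2 := by
      have : (Finset.univ.filter fun i => d i = ω) = {j0, j1} := by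
        ext i
        simp only [Finset.mem_filter, Finset.mem_univ, true_and, Finset.mem_insert, Finset.mem_singleton]
        constructor
        · intro hi
          rcases hd3 i (by rw [hi]; exact hω1) with rfl | rfl | rfl
          exacts [Or.inl rfl, Or.inr rfl, absurd (hi.symm.trans d2) hne]
        · rintro (rfl | rfl)
          exacts [d0, d1]
      simp only [hN, this]
      exact Finset.card_pair (by simp [j0, j1])
    have hNz : N z = 1 := by
      have : (Finset.univ.filter fun i => d i = z) = {j2} := by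
        ext i
        simp only [Finset.mem_filter, Finset.mem_univ, true_and, Finset.mem_singleton]
        refine ⟨fun hi => ?_, fun e => e ▸ d2⟩
        rcases hd3 i (by rw [hi]; exact hz1) with rfl | rfl | rfl
        exacts [absurd (d0.symm.trans hi) hne, absurd (d1.symm.trans hi) hne, rfl]
      simp only [hN, this, Finset.card_singleton]
    have a := hsym ω hw0
    rw [hNω] at a
    rcases hvalN _ (by omega : N (c / ω) ≠ 0) with e | e | e
    · have hc : c = ω * ω := (div_eq_iff hw0).1 e
      have b := hsym z hz0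
      rw [hNz] at b
      rcases hvalN _ (by omega : N (c / z) ≠ 0) with f | f | f
      · rw [f, hNω] at b; omega
      · have h4 : ω * ω = z * z := hc.symm.trans ((div_eq_iff hz0).1 f)
        have h6 : ω ^ 6 = 1 := by
          linear_combination (ω ^ 4) * h4 + (z * ω ^ 2 + 1) * hzω
        rcases (Nat.Prime.dvd_mul hr).1 (show r ∣ 2 * 3 from (hpow 6).1 h6) with h | h
        · exact hr2 ((Nat.prime_dvd_prime_iff_eq hr Nat.prime_two).1 h)
        · exact h3 ((Nat.prime_dvd_prime_iff_eq hr Nat.prime_three).1 h)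
      · have h4 : ω ^ 4 = 1 := by
          have : c = z := by simpa using (div_eq_iff hz0).1 f
          linear_combination (ω ^ 2) * (hc.symm.trans this) + hzω
        rcases (Nat.Prime.dvd_mul hr).1 (show r ∣ 2 * 2 from (hpow 4).1 h4) with h | h <;>
          exact hr2 ((Nat.prime_dvd_prime_iff_eq hr Nat.prime_two).1 h)
    · rw [e, hNz] at a; omega
    · rw [e, hN1] at a
      have hn5 : n = 5 := by omega
      have hc : c = ω := by simpa using (div_eq_iff hw0).1 e
      have b := hsym z hz0
      rw [hNz] at b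
      rcases hvalN _ (by omega : N (c / z) ≠ 0) with f | f | f
      · rw [f, hNω] at b; omega
      · have h4 : ω = z * z := hc.symm.trans ((div_eq_iff hz0).1 f)
        have h5 : ω ^ 5 = 1 := by
          linear_combination (ω ^ 4) * h4 + (z * ω ^ 2 + 1) * hzω
        exact hexc ⟨Or.inr ((Nat.prime_dvd_prime_iff_eq hr Nat.prime_five).1 ((hpow 5).1 h5)),
          by rw [hn5, (Nat.prime_dvd_prime_iff_eq hr Nat.prime_five).1 ((hpow 5).1 h5)]⟩
      · rw [f, hN1] at b; omega

/-- `n = r` and an element of order `r²`. -/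
theorem hasFormless_diagonal_sq (r : ℕ) (hr : r.Prime) (hr2 : r ≠ 2) (hn : n = r) (v : Fˣ)
    (hv : orderOf v = r ^ 2) (hσv : σ (v : F) = (v : F)) : HasFormless σ n r := by
  classical
  subst hn
  obtain ⟨t, ht⟩ := hr.odd_of_ne_two hr2
  have hn3 : 3 ≤ n := by have := hr.two_le; omega
  set ν : F := (v : F) with hν
  have hν0 : ν ≠ 0 := v.ne_zero
  have hpow : ∀ k : ℕ, ν ^ k = 1 ↔ n ^ 2 ∣ k := fun k => by
    rw [hν, ← hv, orderOf_dvd_iff_pow_eq_one, Units.ext_iff, Units.val_pow_eq_pow_val, Units.val_one]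
  let a := n * t + 1
  set μ : F := ν ^ a with hμ
  have hne : ν ≠ μ := fun h => by
    have h1 : ν * ν ^ (n * t) = ν * 1 := by rw [mul_one, ← pow_succ', ← show a = n * t + 1 from rfl]; exact h.symm
    have h2 := (hpow _).1 (mul_left_cancel₀ hν0 h1)
    rw [sq] at h2
    have h3 := Nat.le_of_dvd (by omega) (Nat.dvd_of_mul_dvd_mul_left hr.pos h2)
    omega
  let d : Fin n → F := fun i => if (i : ℕ) < n - 2 then ν else μ
  have hvald : ∀ i, d i = ν ∨ d i = μ := fun i => by simp only [d]; split_ifs <;> simp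
  have hcard : (Finset.univ.filter fun i : Fin n => (i : ℕ) < n - 2).card = n - 2 := by
    rw [← Fintype.card_subtype, Fintype.card_fin_lt_of_le (by omega)]
  have hdet : (Matrix.diagonal d).det = 1 := by
    rw [Matrix.det_diagonal, Finset.prod_ite, Finset.prod_const, Finset.prod_const, hcard, Finset.filter_not,
      Finset.card_sdiff_of_subset (Finset.filter_subset _ _), hcard, Finset.card_univ, Fintype.card_fin, hμ,
      ← pow_mul, ← pow_add, hpow]
    refine ⟨1, ?_⟩
    have : n - (n - 2) = 2 := by omega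
    rw [this, sq, mul_one]
    show n - 2 + (n * t + 1) * 2 = n * n
    have : n * n = n * (2 * t + 1) := by rw [← ht]
    rw [this, mul_add, mul_one, mul_left_comm]
    omega
  refine hasFormless_mk (Matrix.diagonal d) hdet (ν ^ n) ?_ (fun z hz => ?_) (fun hsim => ?_)
  · rw [Matrix.diagonal_pow, ← Matrix.diagonal_one, ← Matrix.diagonal_smul]
    refine congrArg _ (funext fun i => ?_)
    rcases hvald i with e | e <;> simp only [Pi.pow_apply, Pi.smul_apply, smul_eq_mul, e, mul_one]
    rw [hμ, ← pow_mul, show a * n = n ^ 2 * t + n by simp only [a]; ring, pow_add, pow_mul,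
      (hpow _).2 dvd_rfl, one_pow, one_mul]
  · have h0 := congrFun (congrFun hz ⟨0, by omega⟩) ⟨0, by omega⟩
    have h1 := congrFun (congrFun hz ⟨n - 1, by omega⟩) ⟨n - 1, by omega⟩
    simp [d, show 2 < n by omega, show ¬ (n - 1 < n - 2) by omega] at h0 h1
    exact hne (h0.trans h1.symm)
  obtain ⟨c, hc0, hsym⟩ := exists_count_eq (σ := σ) (fun i => by
    rcases hvald i with e | e <;> rw [e]
    · exact hσv
    · rw [hμ, map_pow, hσv]) hsim
  set N : F → ℕ := fun x => (Finset.univ.filter fun i => d i = x).card with hN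
  change ∀ x, x ≠ 0 → N x = N (c / x) at hsym
  have hvalN : ∀ x, N x ≠ 0 → x = ν ∨ x = μ := by
    intro x hx
    obtain ⟨i, hi⟩ := Finset.card_pos.1 (Nat.pos_of_ne_zero hx)
    rw [← (Finset.mem_filter.1 hi).2]
    exact hvald i
  have hNν : N ν = n - 2 := by
    rw [← hcard]
    simp only [hN]
    congr 1
    ext i
    simp only [Finset.mem_filter, Finset.mem_univ, true_and, d]
    split_ifs with h <;> simp [h, hne.symm]
  have hNμ : N μ = 2 := by
    have : (Finset.univ.filter fun i : Fin n => d i = μ) = Finset.univ.filter fun i : Fin n => ¬ (i : ℕ) < n - 2 := by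
      ext i
      simp only [Finset.mem_filter, Finset.mem_univ, true_and, d]
      split_ifs with h <;> simp [h, hne]
    simp only [hN, this]
    rw [Finset.filter_not, Finset.card_sdiff_of_subset (Finset.filter_subset _ _), hcard, Finset.card_univ,
      Fintype.card_fin]
    omega
  have a1 := hsym ν hν0
  rw [hNν] at a1
  rcases hvalN _ (by omega : N (c / ν) ≠ 0) with e | e
  · have a2 := hsym μ (pow_ne_zero _ hν0)
    rw [hNμ] at a2
    rcases hvalN _ (by omega : N (c / μ) ≠ 0) with f | f
    · rw [f, hNν] at a2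
      omega
    · have h1 : ν * ν = μ * μ := ((div_eq_iff hν0).1 e).symm.trans ((div_eq_iff (pow_ne_zero _ hν0)).1 f)
      have h2 : ν ^ 2 * ν ^ (2 * (n * t)) = ν ^ 2 * 1 := by
        rw [← pow_add, mul_one, sq, h1, hμ, ← pow_add]; congr 1; simp only [a]; ring
      have h3 := (hpow _).1 (mul_left_cancel₀ (pow_ne_zero _ hν0) h2)
      rw [sq, mul_left_comm] at h3
      have h4 := Nat.le_of_dvd (by omega) (Nat.dvd_of_mul_dvd_mul_left hr.pos h3)
      omega
  · rw [e, hNμ] at a1
    omega

/-- An element of order `r` acting by a root of unity on a subspace, over a field without such roots. -/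
theorem hasFormless_extension [Fintype F] (r : ℕ) (hr : r.Prime) (hn : 0 < n)
    (hrF : ∀ t : F, t ^ r = 1 → t = 1) {i : ℕ} (hi : 0 < i) (hin : i ≤ n)
    (hri : r ∣ Fintype.card F ^ i - 1) (hrp : (r : F) ≠ 0)
    (hinv : ∀ (ψ : F[X]) [Fact (Irreducible ψ)], ψ.natDegree ∣ i → IsPrimitiveRoot (AdjoinRoot.root ψ) r →
      aeval (AdjoinRoot.root ψ)⁻¹ (ψ.map (σ.symm : F →+* F)) ≠ 0) :
    HasFormless σ n r := by
  classical
  obtain ⟨ψ, hψ, hψd⟩ : ∃ ψ : F[X], Irreducible ψ ∧ ψ ∣ cyclotomic r F := by
    obtain ⟨ψ, -, h1, h2⟩ := exists_monic_irreducible_factor (cyclotomic r F)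
      (fun hu => by
        have := natDegree_eq_zero_of_isUnit hu
        rw [natDegree_cyclotomic, Nat.totient_prime hr] at this
        have := hr.two_le; omega)
    exact ⟨ψ, h1, h2⟩
  haveI : Fact (Irreducible ψ) := ⟨hψ⟩
  let L := AdjoinRoot ψ
  haveI : Module.Finite F L := (AdjoinRoot.powerBasis hψ.ne_zero).finite
  haveI : Finite L := Module.finite_of_finite F
  set ω : L := AdjoinRoot.root ψ with hω
  have hψω : aeval ω ψ = 0 := by rw [hω, AdjoinRoot.aeval_eq, AdjoinRoot.mk_self]
  haveI : NeZero ((r : F)) := ⟨hrp⟩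
  haveI : NeZero ((r : L)) := ⟨fun h => hrp ((algebraMap F L).injective (by simpa using h))⟩
  have hprim : IsPrimitiveRoot ω r := by
    rw [← isRoot_cyclotomic_iff, ← map_cyclotomic r (algebraMap F L), IsRoot.def, eval_map_algebraMap]
    obtain ⟨u, hu⟩ := hψd
    rw [hu, map_mul, hψω, zero_mul]
  have hω1 : ω ≠ 1 := hprim.ne_one hr.one_lt
  have hω0 : ω ≠ 0 := hprim.ne_zero hr.ne_zero
  have hd : Module.finrank F L = ψ.natDegree := by
    rw [(AdjoinRoot.powerBasis hψ.ne_zero).finrank, AdjoinRoot.powerBasis_dim]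
  have hdi : Module.finrank F L ∣ i := by
    rw [hd]
    refine Irreducible.natDegree_dvd_of_dvd_X_pow_card_pow_sub_X hψ ?_
    rw [← AdjoinRoot.mk_eq_zero, ← AdjoinRoot.aeval_eq, map_sub, map_pow, aeval_X, sub_eq_zero,
      Nat.card_eq_fintype_card]
    obtain ⟨k, hk⟩ := hri
    have : Fintype.card F ^ i = r * k + 1 := by
      have := Nat.one_le_pow i (Fintype.card F) Fintype.card_pos
      omega
    rw [this, pow_succ, pow_mul, hprim.pow_eq_one, one_pow, one_mul]
  have hdle : Module.finrank F L ≤ n := (Nat.le_of_dvd hi hdi).trans hin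
  have hψinv := hinv ψ (hd ▸ hdi) hprim
  set d := Module.finrank F L with hddef
  -- the space
  let V := L × (Fin (n - d) → F)
  have hV : Module.finrank F V = n := by
    simp only [V, Module.finrank_prod, Module.finrank_fin_fun]
    rw [← hddef]; omega
  let e : V ≃ₗ[F] (Fin n → F) := LinearEquiv.ofFinrankEq _ _ (by rw [hV, Module.finrank_fin_fun])
  let X : Module.End F V := (LinearMap.mulLeft F ω).prodMap LinearMap.id
  have hX : ∀ l u, X (l, u) = (ω * l, u) := fun l u => rfl
  have hXk : ∀ (k : ℕ) l u, (X ^ k) (l, u) = (ω ^ k * l, u) := by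
    intro k
    induction k with
    | zero => intro l u; simp
    | succ k ih => intro l u; rw [pow_succ, Module.End.mul_apply, hX, ih, pow_succ, mul_assoc]
  let M : Matrix (Fin n) (Fin n) F := LinearMap.toMatrix' (e.conj X)
  have hM : ∀ v : V, M *ᵥ e v = e (X v) := fun v => by
    simp [M, LinearMap.toMatrix'_mulVec, LinearEquiv.conj_apply]
  have hMk : ∀ (k : ℕ) (v : V), (M ^ k) *ᵥ e v = e ((X ^ k) v) := by
    intro k
    induction k with
    | zero => intro v; simp
    | succ k ih => intro v; rw [pow_succ, ← Matrix.mulVec_mulVec, hM, ih, pow_succ, Module.End.mul_apply]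
  have hMr : M ^ r = 1 := by
    refine Matrix.ext_iff_mulVec.2 fun v => ?_
    obtain ⟨⟨l, u⟩, rfl⟩ := e.surjective v
    rw [hMk, hXk, hprim.pow_eq_one, one_mul, Matrix.one_mulVec]
  have hdet : M.det = 1 := hrF _ (by rw [← Matrix.det_pow, hMr, Matrix.det_one])
  refine hasFormless_mk M hdet 1 (by rw [hMr, one_smul]) (fun z hz => ?_) ?_
  · have h2 := hM (1, 0)
    rw [hz, Matrix.smul_mulVec, Matrix.one_mulVec, ← map_smul, hX, mul_one] at h2
    have h3 : z • (1 : L) = ω := congrArg Prod.fst (e.injective h2)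
    rw [Algebra.smul_def, mul_one] at h3
    have hz1 : z = 1 := hrF z ((algebraMap F L).injective (by rw [map_pow, h3, map_one, hprim.pow_eq_one]))
    rw [hz1, map_one] at h3
    exact hω1 h3.symm
  · rintro ⟨g, c, hg, hc0, h⟩
    have hc : c = 1 := hrF c (pow_factor_eq_one hg hn h hMr)
    set G : V → V → F := fun a b => g (e a) (e b) with hGdef
    have hG : IsSesq σ G := hg.pullback e
    have hGX : ∀ v w, G (X v) (X w) = G v w := fun v w => by
      have := h (e v) (e w)
      rwa [hM, hM, hc, one_mul] at this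
    let Y : Module.End F V := (LinearMap.mulLeft F ω⁻¹).prodMap LinearMap.id
    have hY : ∀ l u, Y (l, u) = (ω⁻¹ * l, u) := fun l u => rfl
    have hXY : ∀ w, X (Y w) = w := by
      rintro ⟨l, u⟩
      rw [hY, hX, ← mul_assoc, mul_inv_cancel₀ hω0, one_mul]
    have hadj : ∀ (P : F[X]) v w, G (aeval X P v) w = G v (aeval Y (P.map (σ.symm : F →+* F)) w) := by
      intro P
      induction P using Polynomial.induction_on' with
      | add P Q hP hQ => intro v w; simp [hP, hQ, hG.add_left, hG.add_right]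
      | monomial k a =>
        intro v w
        rw [Polynomial.map_monomial, aeval_monomial, aeval_monomial, Module.End.mul_apply, Module.End.mul_apply,
          Module.algebraMap_end_apply, Module.algebraMap_end_apply, hG.smul_left, hG.smul_right,
          RingEquiv.coe_toRingHom, RingEquiv.apply_symm_apply]
        congr 1
        induction k generalizing v w with
        | zero => simp
        | succ k ih =>
          rw [pow_succ, pow_succ', Module.End.mul_apply, Module.End.mul_apply, ih]
          conv_lhs => rw [← hXY ((Y ^ k) w)]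
          exact hGX _ _
    have hval : ∀ (Z : Module.End F V) (t : L), (∀ l u, Z (l, u) = (t * l, u)) → ∀ (P : F[X]) l u,
        aeval Z P (l, u) = (aeval t P * l, P.eval 1 • u) := by
      intro Z t hZ P
      induction P using Polynomial.induction_on' with
      | add P Q hP hQ => intro l u; simp [hP, hQ, add_mul, add_smul]; rfl
      | monomial k a =>
        intro l u
        have : ∀ k l u, (Z ^ k) (l, u) = (t ^ k * l, u) := by
          intro k
          induction k with
          | zero => intro l u; simp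
          | succ k ih => intro l u; rw [pow_succ, Module.End.mul_apply, hZ, ih, pow_succ, mul_assoc]
        rw [aeval_monomial, aeval_monomial, Module.End.mul_apply, Module.algebraMap_end_apply, this,
          Prod.smul_mk, eval_monomial, one_pow, mul_one, Algebra.smul_def, mul_assoc]
    have hψ1 : ψ.eval 1 ≠ 0 := by
      intro h0
      have h1 : (cyclotomic r F).eval 1 = 0 := by
        obtain ⟨u, hu⟩ := hψd; rw [hu, eval_mul, h0, zero_mul]
      haveI : Fact r.Prime := ⟨hr⟩
      rw [eval_one_cyclotomic_prime] at h1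
      exact hrp h1
    have hinjY : Function.Injective (aeval Y (ψ.map (σ.symm : F →+* F))) := by
      refine (injective_iff_map_eq_zero _).2 fun w hw => ?_
      obtain ⟨l, u⟩ := w
      rw [hval Y ω⁻¹ hY, Prod.mk_eq_zero, mul_eq_zero, smul_eq_zero] at hw
      refine Prod.mk_eq_zero.2 ⟨hw.1.resolve_left hψinv, hw.2.resolve_left ?_⟩
      rw [Polynomial.eval_one_map]
      exact fun h => hψ1 (σ.symm.injective (h.trans (map_zero σ.symm).symm))
    have hsurj := LinearMap.injective_iff_surjective.1 hinjY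
    have h0 : ((1 : L), (0 : Fin (n - d) → F)) = 0 := hG.nd _ fun w => by
      obtain ⟨w, rfl⟩ := hsurj w
      rw [← hadj, hval X ω hX, hψω, zero_mul, smul_zero, Prod.mk_zero_zero, hG.zero_left]
    simpa using congrArg Prod.fst h0

/-- In an extension of odd degree the inverse of a primitive root of unity is no conjugate of it. -/
theorem inv_not_root [Finite F] {r i : ℕ} (hr2 : 2 < r) (hi : Odd i) (ψ : F[X]) [hψ : Fact (Irreducible ψ)]
    (hdi : ψ.natDegree ∣ i) (hprim : IsPrimitiveRoot (AdjoinRoot.root ψ) r) :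
    aeval (AdjoinRoot.root ψ)⁻¹ ψ ≠ 0 := by
  intro h0
  let L := AdjoinRoot ψ
  haveI : Module.Finite F L := (AdjoinRoot.powerBasis hψ.out.ne_zero).finite
  haveI : Finite L := Module.finite_of_finite F
  set ω : L := AdjoinRoot.root ψ with hω
  have hd : Module.finrank F L = ψ.natDegree := by
    rw [(AdjoinRoot.powerBasis hψ.out.ne_zero).finrank, AdjoinRoot.powerBasis_dim]
  let σ : L →ₐ[F] L := AdjoinRoot.liftAlgHom ψ (Algebra.ofId F L) ω⁻¹ h0
  have hσω : σ ω = ω⁻¹ := AdjoinRoot.liftAlgHom_root ψ _ _ h0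
  let τ : L ≃ₐ[F] L := AlgEquiv.ofBijective σ ⟨σ.toRingHom.injective,
    Finite.surjective_of_injective σ.toRingHom.injective⟩
  have hτω : τ ω = ω⁻¹ := hσω
  have hτ2 : τ ^ 2 = 1 := by
    refine AlgEquiv.coe_toAlgHom_injective (AdjoinRoot.algHom_ext ?_)
    show τ (τ ω) = ω
    rw [hτω, map_inv₀, hτω, inv_inv]
  have h1 : orderOf τ ∣ 2 := orderOf_dvd_of_pow_eq_one hτ2
  have h2 : orderOf τ ∣ ψ.natDegree := hd ▸ IsGalois.card_aut_eq_finrank F L ▸ orderOf_dvd_natCard τ
  have hcop : Nat.Coprime 2 ψ.natDegree := Nat.coprime_two_left.2 (Odd.of_dvd_nat hi hdi)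
  have hτ1 : τ = 1 := orderOf_eq_one_iff.1 (Nat.dvd_one.1 (hcop ▸ Nat.dvd_gcd h1 h2))
  rw [hτ1, AlgEquiv.one_apply] at hτω
  have h3 : ω ^ 2 = 1 := by rw [sq]; nth_rewrite 2 [hτω]; rw [mul_inv_cancel₀ (hprim.ne_zero (by omega))]
  have := Nat.le_of_dvd two_pos (hprim.dvd_of_pow_eq_one 2 h3)
  omega

end Cfsg.Agent.H48.SimForm
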