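import Cfsg.Agent.H48.OrthField
import Cfsg.Agent.H48.SimForm
import Cfsg.Agent.H96.OmegaBridge

/-!
Elements of prime order of `Ω_{2d}(q)`, `q` odd, and the normaliser of a self-adjoint quadratic field.
-/

set_option autoImplicit false
set_option linter.style.haveILetI false

namespace Cfsg.Agent.H48.OrthFieldPrime

open Module Polynomial
open Cfsg.Agent.Orthogonal Cfsg.Agent.Orthogonal.IsFrame Cfsg.Agent.H48.OrthClass Cfsg.Agent.H48.OrthField
open QuadraticMap (polar)

variable {F : Type*} [Field F] [Finite F] {V : Type*} [AddCommGroup V] [Module F V] [FiniteDimensional F V]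
  {Q : QuadraticForm F V} {κ : V →ₗ[F] V} {a : F}

theorem finite_O : Finite (O Q) := by
  have : Finite V := Module.finite_of_finite F
  exact Finite.of_injective (fun g : O Q => ((g : V ≃ₗ[F] V) : V → V)) fun g h e => O.ext_app (congrFun e)

theorem units_eq_one {u : ℤˣ} {n : ℕ} (hn : Odd n) (h : u ^ n = 1) : u = 1 := by
  rcases Int.units_eq_one_or u with rfl | rfl
  · rfl
  · rw [hn.neg_one_pow] at h; exact h

theorem mem_commutator_of_odd (hQ : Nondeg Q) (h2 : (2 : F) ≠ 0) {x : O Q} {r : ℕ} (hr : Odd r) (hx : x ^ r = 1) :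
    x ∈ commutator (O Q) :=
  (mem_commutator_iff hQ h2 x).2 ⟨units_eq_one hr (by rw [← map_pow, hx, map_one]),
    units_eq_one hr (by rw [← map_pow, hx, map_one])⟩

/-- No self-adjoint square root of `a` commutes with `x`. -/
def Obstructed (Q : QuadraticForm F V) (a : F) (x : O Q) : Prop :=
  ∀ κ : V →ₗ[F] V, IsSAField Q κ a → (∀ v, (x : V ≃ₗ[F] V) (κ v) = κ ((x : V ≃ₗ[F] V) v)) → False

theorem conj_not_good (h2 : (2 : F) ≠ 0) (hκ : IsSAField Q κ a) {x : O Q} {r : ℕ} (hr : Odd r) (hxr : x ^ r = 1)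
    (hobs : Obstructed Q a x) (h : O Q) : h⁻¹ * x * h ∉ goodGroup Q κ := by
  rintro ⟨ε, hε, hy⟩
  set y := h⁻¹ * x * h with hydef
  have hpow : ∀ (k : ℕ) v, ((y ^ k : O Q) : V ≃ₗ[F] V) (κ v) = ε ^ k • κ (((y ^ k : O Q) : V ≃ₗ[F] V) v) := by
    intro k
    induction k with
    | zero => intro v; simp
    | succ k ih =>
      intro v
      rw [pow_succ' y k, Subgroup.coe_mul, mul_app, mul_app, ih, map_smul, hy, smul_smul, pow_succ']
      congr 1; ring
  have hyr : y ^ r = 1 := by
    have := conj_pow (i := r) (a := h⁻¹) (b := x)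
    rw [inv_inv] at this
    rw [hydef, this, hxr, mul_one, inv_mul_cancel]
  have hε1 : ε = 1 := by
    rcases hε with hε | hε
    · exact hε
    · exfalso
      by_cases hV : ∀ v : V, v = 0
      · exact hobs κ hκ fun v => by rw [hV v, map_zero, map_zero, map_zero]
      push Not at hV
      obtain ⟨v, hv⟩ := hV
      have h1 := hpow r v
      rw [hyr, hε, hr.neg_one_pow] at h1
      change κ v = (-1 : F) • κ v at h1
      have h3 : (2 : F) • κ v = 0 := by rw [two_smul]; nth_rewrite 2 [h1]; rw [neg_one_smul, add_neg_cancel]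
      have h4 := congrArg κ ((smul_eq_zero.1 h3).resolve_left h2)
      rw [hκ.sq, map_zero] at h4
      exact hv ((smul_eq_zero.1 h4).resolve_left hκ.ne)
  have hh : ∀ w, ((h⁻¹ : O Q) : V ≃ₗ[F] V) ((h : V ≃ₗ[F] V) w) = w := fun w => by
    rw [← mul_app, ← Subgroup.coe_mul, inv_mul_cancel]; rfl
  have hh' : ∀ w, (h : V ≃ₗ[F] V) (((h⁻¹ : O Q) : V ≃ₗ[F] V) w) = w := fun w => by
    rw [← mul_app, ← Subgroup.coe_mul, mul_inv_cancel]; rfl
  refine hobs (((h : V ≃ₗ[F] V) : V →ₗ[F] V) ∘ₗ κ ∘ₗ (((h⁻¹ : O Q) : V ≃ₗ[F] V) : V →ₗ[F] V)) ⟨fun v => ?_, fun u v => ?_, hκ.nsq⟩ fun v => ?_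
  · simp only [LinearMap.comp_apply, LinearEquiv.coe_coe, hh, hκ.sq, map_smul, hh']
  · obtain ⟨u, rfl⟩ : ∃ u', (h : V ≃ₗ[F] V) u' = u := ⟨_, hh' u⟩
    obtain ⟨v, rfl⟩ : ∃ v', (h : V ≃ₗ[F] V) v' = v := ⟨_, hh' v⟩
    simp only [LinearMap.comp_apply, LinearEquiv.coe_coe, hh, O.polar_app]
    exact hκ.sa u v
  · have e : x = h * y * h⁻¹ := by rw [hydef]; group
    simp only [LinearMap.comp_apply, LinearEquiv.coe_coe]
    rw [e, Subgroup.coe_mul, Subgroup.coe_mul]
    simp only [mul_app, hh]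
    rw [hy, hε1, one_smul]

/-- A long root element. -/
theorem exists_root (hQ : Nondeg Q) (h2 : (2 : F) ≠ 0) (hn : 5 ≤ finrank F V) {r : ℕ} (hr : r.Prime)
    (hr2 : r ≠ 2) (hrF : (r : F) = 0) (a : F) :
    ∃ x : O Q, x ^ r = 1 ∧ (∀ z : F, ¬ ∀ v, (x : V ≃ₗ[F] V) v = z • v) ∧ Obstructed Q a x := by
  obtain ⟨k, e, f, hf, ha⟩ := hQ.exists_frame
  have hrk := hf.finrank_kernel hQ
  have hle := finrank_le_two_of_aniso (hf.nondeg_kernel hQ) ha
  let i : Fin k := ⟨0, by omega⟩
  let i' : Fin k := ⟨1, by omega⟩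
  have hii : i ≠ i' := by simp [i, i', Fin.ext_iff]
  let u := e i
  let w := e i'
  have huw : polar Q u w = 0 := hf.ee i i'
  have huu : polar Q u u = 0 := hf.ee i i
  have hww : polar Q w w = 0 := hf.ee i' i'
  have hfu : polar Q (f i) u = 1 := by rw [hf.fe]; simp
  have hfw : polar Q (f i) w = 0 := by rw [hf.fe, if_neg hii]
  have hfu' : polar Q (f i') u = 0 := by rw [hf.fe, if_neg (Ne.symm hii)]
  have hfw' : polar Q (f i') w = 1 := by rw [hf.fe]; simp
  let N : V →ₗ[F] V := (Q.polarBilin w).smulRight u - (Q.polarBilin u).smulRight w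
  have hN : ∀ v, N v = polar Q w v • u - polar Q u v • w := fun v => rfl
  have hNN : ∀ v, N (N v) = 0 := fun v => by
    rw [hN (N v), hN v]
    simp only [sub_eq_add_neg, QuadraticMap.polar_add_right, QuadraticMap.polar_neg_right, polar_smul_right']
    rw [huu, hww, huw, QuadraticMap.polar_comm Q w u, huw]
    simp
  have hQN : ∀ v, Q (v + N v) = Q v := fun v => by
    rw [map_add_polar, hN, qmap_sub, qmap_smul, qmap_smul, polar_smul_left', polar_smul_right', sub_eq_add_neg _ (_ • w),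
      QuadraticMap.polar_add_right, QuadraticMap.polar_neg_right, polar_smul_right', polar_smul_right', huw,
      show Q u = 0 from hf.qe i, show Q w = 0 from hf.qe i', QuadraticMap.polar_comm Q v u,
      QuadraticMap.polar_comm Q v w]
    ring
  let L : V ≃ₗ[F] V := LinearEquiv.ofLinear (LinearMap.id + N) (LinearMap.id - N)
    (LinearMap.ext fun v => by simp [map_sub, hNN]) (LinearMap.ext fun v => by simp [map_add, hNN])
  let x : O Q := ⟨L, fun v => hQN v⟩
  have hx : ∀ v, (x : V ≃ₗ[F] V) v = v + N v := fun v => rfl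
  have hpow : ∀ (j : ℕ) v, ((x ^ j : O Q) : V ≃ₗ[F] V) v = v + (j : F) • N v := by
    intro j
    induction j with
    | zero => intro v; simp
    | succ j ih =>
      intro v
      rw [pow_succ', Subgroup.coe_mul, mul_app, ih, hx, map_add, map_smul, hNN, smul_zero, add_zero, Nat.cast_succ,
        add_smul, one_smul, add_assoc]
  have hNf : N (f i) = -w := by
    rw [hN, QuadraticMap.polar_comm Q w, hfw, QuadraticMap.polar_comm Q u, hfu]; simp
  have hNf' : N (f i') = u := by
    rw [hN, QuadraticMap.polar_comm Q w, hfw', QuadraticMap.polar_comm Q u, hfu']; simp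
  refine ⟨x, O.ext_app fun v => by rw [hpow, hrF, zero_smul, add_zero]; rfl, fun z hz => ?_, fun κ' hκ hcomm => ?_⟩
  · have e1 := hz (f i')
    rw [hx, hNf'] at e1
    have e3 := congrArg (fun t => polar Q t (f i)) e1
    simp only [QuadraticMap.polar_add_left, polar_smul_left', hf.ff] at e3
    rw [QuadraticMap.polar_comm Q u, hfu, mul_zero, zero_add] at e3
    exact one_ne_zero e3
  · have hc : ∀ v, κ' (N v) = N (κ' v) := fun v => by
      have := hcomm v
      rw [hx, hx, map_add] at this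
      exact (add_left_cancel this).symm
    set A := polar Q w (κ' (f i')) with hAdef
    set C := polar Q u (κ' (f i')) with hCdef
    have ku : κ' u = A • u - C • w := (congrArg κ' hNf'.symm).trans ((hc _).trans (hN _))
    have eC : polar Q (κ' u) (f i') = -C := by
      rw [ku, sub_eq_add_neg, QuadraticMap.polar_add_left, QuadraticMap.polar_neg_left, polar_smul_left',
        polar_smul_left', QuadraticMap.polar_comm Q u, hfu', QuadraticMap.polar_comm Q w, hfw']
      ring
    rw [hκ.sa u] at eC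
    have hC : C = 0 := (mul_eq_zero.1 (by linear_combination eC : (2 : F) * C = 0)).resolve_left h2
    have eA : polar Q (κ' u) (f i) = A := by
      rw [ku, sub_eq_add_neg, QuadraticMap.polar_add_left, QuadraticMap.polar_neg_left, polar_smul_left',
        polar_smul_left', QuadraticMap.polar_comm Q u, hfu, QuadraticMap.polar_comm Q w, hfw]
      ring
    rw [hC, zero_smul, sub_zero] at ku
    have h1 := hκ.sq u
    rw [ku, map_smul, ku, smul_smul] at h1
    have h3 := congrArg (fun t => polar Q t (f i)) h1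
    simp only [polar_smul_left'] at h3
    rw [QuadraticMap.polar_comm Q u, hfu, mul_one, mul_one] at h3
    exact hκ.nsq ⟨A, h3.symm⟩

/-- Where `r` divides the order of an orthogonal group of dimension `2 (m + 1)`. -/
theorem type_of_dvd (hQ : Nondeg Q) (h2 : (2 : F) ≠ 0) {m : ℕ} (hn : finrank F V = 2 * (m + 1)) {r : ℕ}
    (hr : r.Prime) (hr2 : r ≠ 2) (hrq : ¬ r ∣ Nat.card F) (hdvd : r ∣ Nat.card (O Q)) :
    let e := orderOf (Nat.card F : ZMod r)
    (∃ i, 0 < i ∧ i ≤ m ∧ e ∣ 2 * i) ∨ (e ∣ m + 1 ∧ cls Q hQ h2 = sqSign (-1 : F) ^ (m + 1)) ∨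
      (e ∣ 2 * (m + 1) ∧ ¬ e ∣ m + 1 ∧ cls Q hQ h2 ≠ sqSign (-1 : F) ^ (m + 1)) := by
  intro e
  haveI : Fact r.Prime := ⟨hr⟩
  set q := Nat.card F with hq
  have hq0 : 0 < q := Nat.card_pos
  have hsub : ∀ n, r ∣ q ^ n - 1 → e ∣ n := fun n h => orderOf_dvd_of_pow_eq_one (by
    have := (ZMod.natCast_eq_zero_iff _ _).2 h
    rwa [Nat.cast_sub (Nat.one_le_pow _ _ hq0), Nat.cast_pow, Nat.cast_one, sub_eq_zero] at this)
  have hoprod : r ∣ oprod q m → ∃ i, 0 < i ∧ i ≤ m ∧ e ∣ 2 * i := fun h => by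
    obtain ⟨i, hi, hd⟩ := (Prime.dvd_finsetProd_iff hr.prime _).1 h
    exact ⟨i + 1, Nat.succ_pos i, Finset.mem_range.1 hi, hsub _ hd⟩
  have h2' : ¬ r ∣ 2 := fun h => hr2 ((Nat.prime_dvd_prime_iff_eq hr Nat.prime_two).1 h)
  have hqn : ∀ n, ¬ r ∣ 2 * q ^ n := fun n h => (hr.dvd_mul.1 h).elim h2' fun h => hrq (hr.dvd_of_dvd_pow h)
  rcases card_O_cases hQ h2 hn with ⟨hc, hO⟩ | ⟨hc, hO⟩ <;> rw [hO] at hdvd
  · rcases hr.dvd_mul.1 hdvd with h | h
    · exact Or.inr (Or.inl ⟨hsub _ ((hr.dvd_mul.1 h).resolve_left (hqn _)), hc⟩)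
    · exact Or.inl (hoprod h)
  · rcases hr.dvd_mul.1 hdvd with h | h
    · have h1 := (ZMod.natCast_eq_zero_iff _ _).2 ((hr.dvd_mul.1 h).resolve_left (hqn _))
      rw [Nat.cast_add, Nat.cast_pow, Nat.cast_one, add_eq_zero_iff_eq_neg] at h1
      refine Or.inr (Or.inr ⟨orderOf_dvd_of_pow_eq_one (by rw [mul_comm, pow_mul, h1, neg_one_sq]), fun he => ?_, hc⟩)
      rw [orderOf_dvd_iff_pow_eq_one] at he
      rw [he] at h1
      refine h2' ((ZMod.natCast_eq_zero_iff 2 r).1 ?_)
      push_cast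
      linear_combination h1
    · exact Or.inl (hoprod h)

theorem aeval_intertwine {P W : Type*} [AddCommGroup P] [Module F P] [AddCommGroup W] [Module F W]
    (A : Module.End F W) (j : P →ₗ[F] W) (X : Module.End F P)
    (h : ∀ u, A (j u) = j (X u)) (R : F[X]) : ∀ u, aeval A R (j u) = j (aeval X R u) := by
  induction R using Polynomial.induction_on' with
  | add R R' hR hR' =>
    intro u
    rw [map_add, map_add, LinearMap.add_apply, hR, hR', LinearMap.add_apply, map_add]
  | monomial n c =>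
    have hp : ∀ (n : ℕ) u, (A ^ n) (j u) = j ((X ^ n) u) := by
      intro n
      induction n with
      | zero => intro u; simp
      | succ n ih => intro u; rw [pow_succ', Module.End.mul_apply, ih, h, pow_succ', Module.End.mul_apply]
    intro u
    rw [aeval_monomial, aeval_monomial, Module.End.mul_apply, Module.End.mul_apply, Module.algebraMap_end_apply,
      Module.algebraMap_end_apply, hp, map_smul]

theorem aeval_prodMap_mulLeft {K L : Type*} [CommRing K] [CommRing L] [Algebra K L] (a b : L) (R : K[X])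
    (u : L × L) :
    aeval ((LinearMap.mulLeft K a).prodMap (LinearMap.mulLeft K b) : Module.End K (L × L)) R u
      = (aeval a R * u.1, aeval b R * u.2) := by
  induction R using Polynomial.induction_on' with
  | add A A' hA hA' =>
    rw [map_add, map_add, map_add, LinearMap.add_apply, hA, hA', add_mul, add_mul]
    rfl
  | monomial n c =>
    have hp : ∀ n : ℕ, (((LinearMap.mulLeft K a).prodMap (LinearMap.mulLeft K b) : Module.End K (L × L)) ^ n) u
        = (a ^ n * u.1, b ^ n * u.2) := by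
      intro n
      induction n with
      | zero => simp
      | succ n ih =>
        rw [pow_succ', Module.End.mul_apply, ih]
        simp only [LinearMap.prodMap_apply, LinearMap.mulLeft_apply]
        rw [pow_succ', pow_succ', mul_assoc, mul_assoc]
    rw [aeval_monomial, aeval_monomial, aeval_monomial, Module.End.mul_apply, Module.algebraMap_end_apply, hp,
      Prod.smul_mk, Algebra.smul_def, Algebra.smul_def, mul_assoc, mul_assoc]

theorem aeval_one_apply {W : Type*} [AddCommGroup W] [Module F W] (R : F[X]) (w : W) :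
    aeval (1 : Module.End F W) R w = R.eval 1 • w := by
  rw [show (1 : Module.End F W) = algebraMap F _ 1 from (map_one _).symm, aeval_algebraMap_apply_eq_algebraMap_eval]
  rfl

/-- An isometry extending a given one by the identity. -/
theorem exists_embedded {P : Type*} [AddCommGroup P] [Module F P] [FiniteDimensional F P] {QP : QuadraticForm F P}
    (hP : Nondeg QP) (hQ : Nondeg Q) (h2 : (2 : F) ≠ 0)
    (hd : finrank F P < finrank F V ∨ (finrank F P = finrank F V ∧ cls QP hP h2 = cls Q hQ h2))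
    (X : O QP) {r : ℕ} (hXr : X ^ r = 1) (ψ : F[X]) (hψ1 : ψ.eval 1 ≠ 0) :
    ∃ (x : O Q) (j : P →ₗ[F] V), x ^ r = 1 ∧ Function.Injective j ∧ (∀ u, Q (j u) = QP u) ∧
      (∀ u, (x : V ≃ₗ[F] V) (j u) = j ((X : P ≃ₗ[F] P) u)) ∧
      ∀ v, aeval ((x : V ≃ₗ[F] V) : V →ₗ[F] V) ψ v = 0 →
        ∃ u, aeval ((X : P ≃ₗ[F] P) : P →ₗ[F] P) ψ u = 0 ∧ v = j u := by
  obtain ⟨j, hj, hjQ⟩ := exists_embedding h2 hP hQ hd
  let E : P ≃ₗ[F] LinearMap.range j := LinearEquiv.ofInjective j hj
  have hE : ∀ u, (E u : V) = j u := fun u => rfl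
  have hEQ : ∀ u, restr Q (LinearMap.range j) (E u) = QP u := fun u => hjQ u
  have hW : Nondeg (restr Q (LinearMap.range j)) := fun z hz => by
    obtain ⟨u, rfl⟩ := E.surjective z
    refine E.map_eq_zero_iff.2 (hP u fun t => ?_)
    rw [← polar_map (Q' := restr Q (LinearMap.range j)) (e := E.toLinearMap) hEQ]
    exact hz _
  let x := extendO hQ hW (congrO E hEQ X)
  have hxj : ∀ u, (x : V ≃ₗ[F] V) (j u) = j ((X : P ≃ₗ[F] P) u) := fun u => by
    rw [← hE, extendO_app, congrO_apply, E.symm_apply_apply, hE]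
  refine ⟨x, j, by rw [← map_pow, ← map_pow, hXr, map_one, map_one], hj, hjQ, hxj, fun v hv => ?_⟩
  obtain ⟨v1, h1, v2, h3, rfl⟩ := Submodule.mem_sup.1 ((hQ.isCompl_perp hW).sup_eq_top ▸ Submodule.mem_top :
    v ∈ LinearMap.range j ⊔ perp Q (LinearMap.range j))
  obtain ⟨u, rfl⟩ := h1
  have e2 : aeval ((x : V ≃ₗ[F] V) : V →ₗ[F] V) ψ v2 = ψ.eval 1 • v2 := by
    rw [show (v2 : V) = (perp Q (LinearMap.range j)).subtype ⟨v2, h3⟩ from rfl,
      aeval_intertwine _ (perp Q (LinearMap.range j)).subtype 1 (fun z => extendO_app_perp hQ hW _ z.2),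
      aeval_one_apply, map_smul]
  rw [map_add, aeval_intertwine _ j ((X : P ≃ₗ[F] P) : P →ₗ[F] P) hxj, e2] at hv
  have hdis := Submodule.disjoint_def.1 (hQ.isCompl_perp hW).disjoint
  have e3 : ψ.eval 1 • v2 = 0 := hdis _ (by
    rw [eq_neg_of_add_eq_zero_right hv]
    exact Submodule.neg_mem _ ⟨_, rfl⟩) ((perp Q (LinearMap.range j)).smul_mem _ h3)
  rw [e3, add_zero] at hv
  exact ⟨u, hj (hv.trans (map_zero j).symm), by rw [(smul_eq_zero.1 e3).resolve_left hψ1, add_zero]⟩

set_option maxHeartbeats 2000000 in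
theorem exists_derangement (hQ : Nondeg Q) (h2 : (2 : F) ≠ 0) (ha : ¬ IsSquare a) {m : ℕ}
    (hn : finrank F V = 2 * (m + 1)) {r : ℕ} (hr : r.Prime) (hr2 : r ≠ 2) (hrF : (r : F) ≠ 0)
    (hrq : ¬ r ∣ Nat.card F) (hdvd : r ∣ Nat.card (O Q)) :
    (∃ x : O Q, x ^ r = 1 ∧ (∀ z : F, ¬ ∀ v, (x : V ≃ₗ[F] V) v = z • v) ∧ Obstructed Q a x) ∨
      4 ∣ orderOf (Nat.card F : ZMod r) := by
  classical
  haveI : Fact r.Prime := ⟨hr⟩
  haveI := Fintype.ofFinite F
  obtain ⟨ψ, hψ, hψd⟩ : ∃ ψ : F[X], Irreducible ψ ∧ ψ ∣ cyclotomic r F := by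
    obtain ⟨ψ, -, h1, h2⟩ := exists_monic_irreducible_factor (cyclotomic r F)
      (fun hu => by
        have := natDegree_eq_zero_of_isUnit hu
        rw [natDegree_cyclotomic, Nat.totient_prime hr] at this
        have := hr.two_le; omega)
    exact ⟨ψ, h1, h2⟩
  haveI : Fact (Irreducible ψ) := ⟨hψ⟩
  let L := AdjoinRoot ψ
  haveI : Module.Finite F L := (AdjoinRoot.powerBasis hψ.ne_zero).finite
  haveI : Finite L := Module.finite_of_finite F
  set ω : L := AdjoinRoot.root ψ with hω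
  have hψω : aeval ω ψ = 0 := by rw [hω, AdjoinRoot.aeval_eq, AdjoinRoot.mk_self]
  haveI : NeZero ((r : L)) := ⟨fun h => hrF ((algebraMap F L).injective (by simpa using h))⟩
  have hprim : IsPrimitiveRoot ω r := by
    rw [← isRoot_cyclotomic_iff, ← map_cyclotomic r (algebraMap F L), IsRoot.def, eval_map_algebraMap]
    obtain ⟨u, hu⟩ := hψd
    rw [hu, map_mul, hψω, zero_mul]
  have hω0 : ω ≠ 0 := hprim.ne_zero hr.ne_zero
  have hr3 : 2 < r := lt_of_le_of_ne hr.two_le (Ne.symm hr2)
  have hωinv : ω ≠ ω⁻¹ := fun h => by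
    have : ω ^ 2 = 1 := by rw [sq]; nth_rewrite 2 [h]; rw [mul_inv_cancel₀ hω0]
    have := Nat.le_of_dvd two_pos (hprim.dvd_of_pow_eq_one 2 this)
    omega
  have hψ1 : ψ.eval 1 ≠ 0 := by
    intro h0
    have h1 : (cyclotomic r F).eval 1 = 0 := by
      obtain ⟨u, hu⟩ := hψd; rw [hu, eval_mul, h0, zero_mul]
    rw [eval_one_cyclotomic_prime] at h1
    exact hrF h1
  set e := ψ.natDegree with he
  have hfe : finrank F L = e := by
    rw [(AdjoinRoot.powerBasis hψ.ne_zero).finrank, AdjoinRoot.powerBasis_dim]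
  set q := Nat.card F with hq
  have hpow : ∀ t : ℕ, (q : ZMod r) ^ t = 1 → e ∣ t := by
    intro t ht
    refine Irreducible.natDegree_dvd_of_dvd_X_pow_card_pow_sub_X hψ ?_
    rw [← AdjoinRoot.mk_eq_zero, ← AdjoinRoot.aeval_eq, map_sub, map_pow, aeval_X, sub_eq_zero,
      ← hq, ← pow_mod_orderOf, ← hprim.eq_orderOf]
    have : q ^ t % r = 1 % r := (ZMod.natCast_eq_natCast_iff' _ _ _).1 (by simpa using ht)
    rw [this, Nat.mod_eq_of_lt hr.one_lt, pow_one]
  have hqe : (q : ZMod r) ^ e = 1 := by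
    have h1 : ω ^ (Nat.card L) = ω := by
      haveI := Fintype.ofFinite L
      rw [Nat.card_eq_fintype_card]; exact FiniteField.pow_card ω
    rw [Module.natCard_eq_pow_finrank (K := F), hfe, ← hq] at h1
    have h3 : q ^ e ≡ 1 [MOD r] := by
      rw [hprim.eq_orderOf]
      exact (IsOfFinOrder.pow_eq_pow_iff_modEq (hprim.isOfFinOrder hr.pos.ne')).1 (by rwa [pow_one])
    simpa using (ZMod.natCast_eq_natCast_iff _ _ _).2 h3
  have heo : orderOf (q : ZMod r) = e :=
    Nat.dvd_antisymm (orderOf_dvd_of_pow_eq_one hqe) (hpow _ (pow_orderOf_eq_one _))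
  have he0 : 0 < e := hψ.natDegree_pos
  have hT := type_of_dvd hQ h2 hn hr hr2 hrq hdvd
  simp only [← hq, heo] at hT
  have hmulk : ∀ (Z : Module.End F L) (t : L), (∀ l, Z l = t * l) → ∀ (R : F[X]) l, aeval Z R l = aeval t R * l := by
    intro Z t hZ R
    induction R using Polynomial.induction_on' with
    | add A A' hA hA' => intro l; simp [hA, hA', add_mul]
    | monomial j c =>
      intro l
      have : ∀ j : ℕ, (Z ^ j) l = t ^ j * l := by
        intro j
        induction j with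
        | zero => simp
        | succ j ih => rw [pow_succ', Module.End.mul_apply, ih, hZ, pow_succ', mul_assoc]
      rw [aeval_monomial, aeval_monomial, Module.End.mul_apply, Module.algebraMap_end_apply, this,
        Algebra.smul_def, mul_assoc]
  have hmin : ∀ s : L, s * s = algebraMap F L a → (minpoly F s) = X ^ 2 - C a := fun s hs => by
    have hirr : Irreducible (X ^ 2 - C a) :=
      X_pow_sub_C_irreducible_of_prime Nat.prime_two fun b hb => ha ⟨b, by rw [← hb, sq]⟩
    exact (minpoly.eq_of_irreducible_of_monic hirr (x := s) (by simp [sq, hs]) (monic_X_pow_sub_C a two_ne_zero)).symm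
  rcases Nat.even_or_odd e with ⟨t, ht⟩ | hodd
  · by_cases ht2 : Even t
    · right
      obtain ⟨b, hb⟩ := ht2
      rw [heo]
      exact ⟨b, by omega⟩
    refine Or.inl ?_
    rw [Nat.not_even_iff_odd] at ht2
    have ht0 : 0 < t := by omega
    have hqt : (q : ZMod r) ^ t = -1 := by
      have h1 : (q : ZMod r) ^ t * (q : ZMod r) ^ t = 1 := by rw [← pow_add, ← ht, hqe]
      refine (mul_self_eq_one_iff.1 h1).resolve_left fun h => ?_
      have := Nat.le_of_dvd ht0 (hpow t h)
      omega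
    let τ : L →ₐ[F] L := FiniteField.frobeniusAlgHom F L ^ t
    have hτpow : ∀ (j : ℕ) (l : L), (FiniteField.frobeniusAlgHom F L ^ j) l = l ^ (q ^ j) := by
      intro j
      induction j with
      | zero => simp
      | succ j ih =>
        intro l
        rw [pow_succ, AlgHom.mul_apply, ih, FiniteField.coe_frobeniusAlgHom]
        show (l ^ Fintype.card F) ^ (q ^ j) = _
        rw [← pow_mul, ← Nat.card_eq_fintype_card, ← hq, ← pow_succ']
    have hτω : τ ω = ω⁻¹ := by
      refine eq_inv_of_mul_eq_one_left ?_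
      rw [hτpow, ← pow_succ, ← pow_mod_orderOf, ← hprim.eq_orderOf,
        Nat.mod_eq_zero_of_dvd ((ZMod.natCast_eq_zero_iff _ _).1 (by push_cast; rw [hqt]; ring)), pow_zero]
    have hττ : ∀ l, τ (τ l) = l := fun l => by
      haveI := Fintype.ofFinite L
      rw [hτpow, hτpow, ← pow_mul, ← pow_add, ← ht, ← hfe, hq,
        ← Module.natCard_eq_pow_finrank, Nat.card_eq_fintype_card]
      exact FiniteField.pow_card l
    let τe : L ≃ₐ[F] L := AlgEquiv.ofBijective τ ⟨τ.toRingHom.injective, Finite.surjective_of_injective τ.toRingHom.injective⟩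
    let bb : LinearMap.BilinForm F L := LinearMap.mk₂ F (fun u v => Algebra.trace F L (u * τ v))
      (fun x y v => by rw [← map_add]; congr 1; ring) (fun c x v => by rw [smul_mul_assoc, map_smul])
      (fun x y v => by rw [← map_add, map_add τ, mul_add])
      (fun c x v => by rw [map_smul τ, mul_smul_comm, map_smul])
    have hbb : ∀ u v, bb u v = Algebra.trace F L (u * τ v) := fun u v => rfl
    have hbsymm : ∀ u v, bb v u = bb u v := fun u v => by
      rw [hbb, hbb, ← Algebra.trace_eq_of_algEquiv τe]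
      show Algebra.trace F L (τ (v * τ u)) = _
      rw [map_mul τ, hττ, mul_comm]
    let QP : QuadraticForm F L := LinearMap.BilinMap.toQuadraticMap bb
    have hQP : ∀ u, QP u = bb u u := fun u => rfl
    have hpol : ∀ u v, polar QP u v = 2 * bb u v := fun u v => by
      show polar (LinearMap.BilinMap.toQuadraticMap bb) u v = _
      rw [LinearMap.BilinMap.polar_toQuadraticMap, hbsymm u v, two_mul]
    have hP : Nondeg QP := fun u hu => (traceForm_nondegenerate F L).1 _ fun v => by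
      have h1 := hu (τ v)
      rw [hpol, hbb, hττ] at h1
      simpa [Algebra.traceForm_apply] using (mul_eq_zero.1 h1).resolve_left h2
    have hωτ : ω * τ ω = 1 := by rw [hτω, mul_inv_cancel₀ hω0]
    let XL : L ≃ₗ[F] L := LinearEquiv.ofLinear (LinearMap.mulLeft F ω) (LinearMap.mulLeft F ω⁻¹)
      (LinearMap.ext fun l => by simp [hω0]) (LinearMap.ext fun l => by simp [hω0])
    have hXm : XL ∈ O QP := fun u => by
      show QP (ω * u) = _
      rw [hQP, hQP, hbb, hbb, map_mul τ, mul_mul_mul_comm, hωτ, one_mul]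
    let XP : O QP := ⟨XL, hXm⟩
    have hXap : ∀ l, (XP : L ≃ₗ[F] L) l = ω * l := fun l => rfl
    have hXpow : ∀ (k : ℕ) l, ((XP ^ k : O QP) : L ≃ₗ[F] L) l = ω ^ k * l := by
      intro k
      induction k with
      | zero => simp
      | succ k ih => intro l; rw [pow_succ', Subgroup.coe_mul, mul_app, ih, hXap, pow_succ', mul_assoc]
    have hXr : XP ^ r = 1 := O.ext_app fun l => by rw [hXpow, hprim.pow_eq_one, one_mul]; rfl
    have hX1 : XP ≠ 1 := fun h => hprim.ne_one hr.one_lt (by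
      have := hXap 1; rw [h, mul_one] at this; exact this.symm)
    have hPdvd : r ∣ Nat.card (O QP) := by
      haveI := finite_O (Q := QP)
      rw [← orderOf_eq_prime hXr hX1]; exact orderOf_dvd_natCard XP
    have hd : finrank F L < finrank F V ∨ (finrank F L = finrank F V ∧ cls QP hP h2 = cls Q hQ h2) := by
      rw [hfe, hn]
      rcases Nat.lt_or_ge e (2 * (m + 1)) with hlt | hge
      · exact Or.inl hlt
      have hbound : e ≤ 2 * (m + 1) := by
        rcases hT with ⟨i, hi, him, hei⟩ | ⟨h1, -⟩ | ⟨h1, -, -⟩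
        · exact (Nat.le_of_dvd (by omega) hei).trans (by omega)
        · exact (Nat.le_of_dvd (by omega) h1).trans (by omega)
        · exact Nat.le_of_dvd (by omega) h1
      refine Or.inr ⟨le_antisymm hbound hge, ?_⟩
      have hcV : cls Q hQ h2 ≠ sqSign (-1 : F) ^ (m + 1) := by
        rcases hT with ⟨i, hi, him, hei⟩ | ⟨h1, -⟩ | ⟨-, -, h1⟩
        · have := Nat.le_of_dvd (by omega) hei; omega
        · have := Nat.le_of_dvd (by omega) h1; omega
        · exact h1
      have hcP : cls QP hP h2 ≠ sqSign (-1 : F) ^ (m + 1) := by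
        have hTP := type_of_dvd hP h2 (m := m) (by rw [hfe]; omega) hr hr2 hrq hPdvd
        simp only [← hq, heo] at hTP
        rcases hTP with ⟨i, hi, him, hei⟩ | ⟨h1, -⟩ | ⟨-, -, h1⟩
        · have := Nat.le_of_dvd (by omega) hei; omega
        · have := Nat.le_of_dvd (by omega) h1; omega
        · exact h1
      rcases Int.units_eq_one_or (sqSign (-1 : F) ^ (m + 1)) with h | h <;>
        rcases Int.units_eq_one_or (cls QP hP h2) with h' | h' <;>
        rcases Int.units_eq_one_or (cls Q hQ h2) with h'' | h'' <;> simp_all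
    obtain ⟨x, j, hxr, hji, hjQ, hxj, hker⟩ := exists_embedded hP hQ h2 hd XP hXr ψ hψ1
    refine ⟨x, hxr, fun z hz => ?_, fun κ' hκ hcomm => ?_⟩
    · have h1 : j (ω * 1) = j (z • (1 : L)) := by rw [map_smul, ← hz]; exact (hxj 1).symm
      have h3 : ω = z • (1 : L) := by simpa using hji h1
      exact hωinv (by rw [← hτω, h3, map_smul, map_one])
    · have hX0 : ∀ u, aeval ((XP : L ≃ₗ[F] L) : L →ₗ[F] L) ψ u = 0 := fun u => by
        rw [hmulk _ ω hXap, hψω, zero_mul]
      have hex : ∀ u, ∃ u', κ' (j u) = j u' := fun u => by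
        obtain ⟨u', -, hu'⟩ := hker (κ' (j u)) (by
          rw [aeval_intertwine ((x : V ≃ₗ[F] V) : V →ₗ[F] V) κ' ((x : V ≃ₗ[F] V) : V →ₗ[F] V) hcomm,
            aeval_intertwine _ j ((XP : L ≃ₗ[F] L) : L →ₗ[F] L) hxj, hX0, map_zero, map_zero])
        exact ⟨u', hu'⟩
      choose kf hkf using hex
      let kl : Module.End F L :=
        { toFun := kf
          map_add' := fun u v => hji (by rw [map_add, ← hkf, ← hkf, ← hkf, map_add, map_add])
          map_smul' := fun c u => hji (by rw [RingHom.id_apply, map_smul, ← hkf, ← hkf, map_smul, map_smul]) }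
      have hkl : ∀ u, κ' (j u) = j (kl u) := hkf
      have hkX : ∀ l, kl (ω * l) = ω * kl l := fun l => hji (by
        rw [← hkl, ← hXap, ← hxj, ← hcomm, hkl, hxj, hXap])
      set s := kl 1
      have hks : ∀ l, kl l = s * l := by
        intro l
        obtain ⟨R, rfl⟩ := AdjoinRoot.mk_surjective l
        rw [← AdjoinRoot.aeval_eq]
        induction R using Polynomial.induction_on' with
        | add A A' hA hA' => rw [map_add, map_add, hA, hA', mul_add]
        | monomial n c =>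
          rw [aeval_monomial, ← Algebra.smul_def, map_smul, mul_smul_comm]
          congr 1
          clear c
          induction n with
          | zero => rw [pow_zero, mul_one]
          | succ n ih => rw [pow_succ', hkX, ih]; ring
      have hss : s * s = algebraMap F L a := by
        refine hji ?_
        rw [← hks s, ← hkl, show s = kl 1 from rfl, ← hkl, hκ.sq, ← map_smul, Algebra.smul_def, mul_one]
      have hτs : τ s = s := by
        refine sub_eq_zero.1 (hP _ fun v => ?_)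
        have h3 : polar Q (κ' (j 1)) (j v) = polar Q (j 1) (κ' (j v)) := hκ.sa _ _
        rw [hkl, hkl, polar_map hjQ, polar_map hjQ, hks v, hpol, hpol] at h3
        have h4 : bb 1 (s * v) = bb (τ s) v := by rw [hbb, hbb, map_mul τ, one_mul]
        rw [sub_eq_add_neg, QuadraticMap.polar_add_left, QuadraticMap.polar_neg_left, hpol, hpol, h3, h4]
        ring
      have hdiv : 2 ∣ t := by
        rw [← natDegree_X_pow_sub_C (n := 2) (r := a)]
        refine Irreducible.natDegree_dvd_of_dvd_X_pow_card_pow_sub_X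
          (X_pow_sub_C_irreducible_of_prime Nat.prime_two fun b hb => ha ⟨b, by rw [← hb, sq]⟩) ?_
        rw [← hmin s hss]
        refine minpoly.dvd F s ?_
        rw [map_sub, map_pow, aeval_X, ← hq, ← hτpow]
        exact sub_eq_zero.2 hτs
      obtain ⟨b, hb⟩ := ht2
      omega
  · refine Or.inl ?_
    have hcop : ∀ i, e ∣ 2 * i → e ∣ i := fun i h => (Nat.coprime_two_right.2 hodd).dvd_of_dvd_mul_left h
    have hinv := Cfsg.Agent.H48.SimForm.inv_not_root hr3 hodd ψ dvd_rfl hprim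
    let bb : LinearMap.BilinForm F (L × L) := LinearMap.mk₂ F (fun u v => Algebra.trace F L (u.1 * v.2))
      (fun x y v => by rw [← map_add]; congr 1; simp; ring)
      (fun c x v => by simp only [Prod.smul_fst, smul_mul_assoc, map_smul])
      (fun x y v => by rw [← map_add]; congr 1; simp; ring)
      (fun c x v => by simp only [Prod.smul_snd, mul_smul_comm, map_smul])
    let QP : QuadraticForm F (L × L) := LinearMap.BilinMap.toQuadraticMap bb
    have hQP : ∀ u, QP u = Algebra.trace F L (u.1 * u.2) := fun u => rfl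
    have hpol : ∀ u v, polar QP u v = Algebra.trace F L (u.1 * v.2) + Algebra.trace F L (v.1 * u.2) := fun u v => by
      show polar (LinearMap.BilinMap.toQuadraticMap bb) u v = _
      rw [LinearMap.BilinMap.polar_toQuadraticMap]
      rfl
    have hP : Nondeg QP := fun u hu => Prod.ext
      ((traceForm_nondegenerate F L).1 _ fun v => by
        have h1 := hu (0, v); rw [hpol] at h1; simpa [Algebra.traceForm_apply] using h1)
      ((traceForm_nondegenerate F L).1 _ fun v => by
        have h1 := hu (v, 0); rw [hpol] at h1; simpa [Algebra.traceForm_apply, mul_comm] using h1)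
    let X0 : Module.End F (L × L) := (LinearMap.mulLeft F ω).prodMap (LinearMap.mulLeft F ω⁻¹)
    let XL : (L × L) ≃ₗ[F] (L × L) := LinearEquiv.ofLinear X0
      ((LinearMap.mulLeft F ω⁻¹).prodMap (LinearMap.mulLeft F ω))
      (LinearMap.ext fun l => by simp [X0, hω0]) (LinearMap.ext fun l => by simp [X0, hω0])
    have hXm : XL ∈ O QP := fun u => by
      show QP (ω * u.1, ω⁻¹ * u.2) = _
      rw [hQP, hQP, mul_mul_mul_comm, mul_inv_cancel₀ hω0, one_mul]
    let XP : O QP := ⟨XL, hXm⟩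
    have hXap : ∀ l, (XP : (L × L) ≃ₗ[F] (L × L)) l = (ω * l.1, ω⁻¹ * l.2) := fun l => rfl
    have hXpow : ∀ (k : ℕ) l, ((XP ^ k : O QP) : (L × L) ≃ₗ[F] (L × L)) l = (ω ^ k * l.1, ω⁻¹ ^ k * l.2) := by
      intro k
      induction k with
      | zero => simp
      | succ k ih =>
        intro l; rw [pow_succ', Subgroup.coe_mul, mul_app, ih, hXap, pow_succ', pow_succ', mul_assoc, mul_assoc]
    have hXr : XP ^ r = 1 := O.ext_app fun l => by
      rw [hXpow, inv_pow, hprim.pow_eq_one, inv_one, one_mul, one_mul]; rfl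
    have hX1 : XP ≠ 1 := fun h => hprim.ne_one hr.one_lt (by
      have := hXap (1, 0); rw [h, mul_one, mul_zero] at this; exact (congrArg Prod.fst this).symm)
    have hPdvd : r ∣ Nat.card (O QP) := by
      haveI := finite_O (Q := QP)
      rw [← orderOf_eq_prime hXr hX1]; exact orderOf_dvd_natCard XP
    have hd : finrank F (L × L) < finrank F V ∨
        (finrank F (L × L) = finrank F V ∧ cls QP hP h2 = cls Q hQ h2) := by
      rw [Module.finrank_prod, hfe, hn]
      rcases Nat.lt_or_ge e (m + 1) with hlt | hge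
      · exact Or.inl (by omega)
      have hres : e = m + 1 ∧ cls Q hQ h2 = sqSign (-1 : F) ^ (m + 1) := by
        rcases hT with ⟨i, hi, him, hei⟩ | ⟨h1, hc⟩ | ⟨h1, h3, -⟩
        · have := Nat.le_of_dvd hi (hcop i hei); omega
        · exact ⟨le_antisymm (Nat.le_of_dvd (by omega) h1) hge, hc⟩
        · exact absurd (hcop _ h1) h3
      refine Or.inr ⟨by omega, ?_⟩
      have hTP := type_of_dvd hP h2 (m := m) (by rw [Module.finrank_prod, hfe]; omega) hr hr2 hrq hPdvd
      simp only [← hq, heo] at hTP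
      rcases hTP with ⟨i, hi, him, hei⟩ | ⟨-, hc⟩ | ⟨h1, h3, -⟩
      · have := Nat.le_of_dvd hi (hcop i hei); omega
      · rw [hc, hres.2]
      · exact absurd (hcop _ h1) h3
    obtain ⟨x, j, hxr, hji, -, hxj, hker⟩ := exists_embedded hP hQ h2 hd XP hXr ψ hψ1
    have hval : ∀ (R : F[X]) u, aeval X0 R u = (aeval ω R * u.1, aeval ω⁻¹ R * u.2) := aeval_prodMap_mulLeft ω ω⁻¹
    refine ⟨x, hxr, fun z hz => ?_, fun κ' hκ hcomm => ?_⟩
    · have h1 : j ((XP : (L × L) ≃ₗ[F] (L × L)) (1, 1)) = j (z • ((1, 1) : L × L)) := by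
        rw [map_smul, ← hxj, hz]
      have h3 := hji h1
      rw [hXap, Prod.smul_mk, Prod.mk.injEq, mul_one, mul_one] at h3
      exact hωinv (h3.1.trans h3.2.symm)
    · let j1 : L →ₗ[F] V := j ∘ₗ LinearMap.inl F L L
      have hxj1 : ∀ l, (x : V ≃ₗ[F] V) (j1 l) = j1 (ω * l) := fun l => by
        show (x : V ≃ₗ[F] V) (j (l, 0)) = j (ω * l, 0)
        rw [hxj, hXap, mul_zero]
      have hex : ∀ u, ∃ u', κ' (j1 u) = j1 u' := fun u => by
        obtain ⟨⟨c, b⟩, h0, hu'⟩ := hker (κ' (j1 u)) (by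
          rw [aeval_intertwine ((x : V ≃ₗ[F] V) : V →ₗ[F] V) κ' ((x : V ≃ₗ[F] V) : V →ₗ[F] V) hcomm,
            aeval_intertwine _ j1 (LinearMap.mulLeft F ω) hxj1, hmulk _ ω (fun _ => rfl), hψω, zero_mul, map_zero,
            map_zero])
        have hX0 : ((XP : (L × L) ≃ₗ[F] (L × L)) : (L × L) →ₗ[F] (L × L)) = X0 := rfl
        rw [hX0, hval] at h0
        have hb : b = 0 := (mul_eq_zero.1 (congrArg Prod.snd h0)).resolve_left hinv
        exact ⟨c, by rw [hu', hb]; rfl⟩
      choose kf hkf using hex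
      have hj1 : Function.Injective j1 := fun p q h => congrArg Prod.fst (hji h)
      let kl : Module.End F L :=
        { toFun := kf
          map_add' := fun u v => hj1 (by rw [map_add, ← hkf, ← hkf, ← hkf, map_add, map_add])
          map_smul' := fun c u => hj1 (by rw [RingHom.id_apply, map_smul, ← hkf, ← hkf, map_smul, map_smul]) }
      have hkl : ∀ u, κ' (j1 u) = j1 (kl u) := hkf
      have hkX : ∀ l, kl (ω * l) = ω * kl l := fun l => hj1 (by
        rw [← hkl, ← hxj1, ← hcomm, hkl, hxj1])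
      set s := kl 1
      have hks : ∀ l, kl l = s * l := by
        intro l
        obtain ⟨R, rfl⟩ := AdjoinRoot.mk_surjective l
        rw [← AdjoinRoot.aeval_eq]
        induction R using Polynomial.induction_on' with
        | add A A' hA hA' => rw [map_add, map_add, hA, hA', mul_add]
        | monomial n c =>
          rw [aeval_monomial, ← Algebra.smul_def, map_smul, mul_smul_comm]
          congr 1
          clear c
          induction n with
          | zero => rw [pow_zero, mul_one]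
          | succ n ih => rw [pow_succ', hkX, ih]; ring
      have hss : s * s = algebraMap F L a := by
        refine hj1 ?_
        rw [← hks s, ← hkl, show s = kl 1 from rfl, ← hkl, hκ.sq, ← map_smul, Algebra.smul_def, mul_one]
      have hdiv : 2 ∣ e := by
        rw [← natDegree_X_pow_sub_C (n := 2) (r := a), ← hmin s hss, ← hfe]
        exact minpoly.degree_dvd (IsIntegral.of_finite F s)
      obtain ⟨b, hb⟩ := hodd
      omega

theorem oprod_even_split (q : ℕ) {c d' : ℕ} (hd : d' = 2 * c ∨ d' = 2 * c + 1) :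
    oprod q d' = oprod (q ^ 2) c * ∏ i ∈ (Finset.range d').filter (fun i => Even i), (q ^ (2 * (i + 1)) - 1) := by
  rw [oprod, ← Finset.prod_filter_mul_prod_filter_not (Finset.range d') (fun i => ¬ Even i)]
  congr 1
  · refine (Finset.prod_bij (fun i _ => 2 * i + 1) (fun i hi => ?_) (fun i _ i' _ h => by omega) (fun b hb => ?_)
      (fun i hi => ?_)).symm
    · have := Finset.mem_range.1 hi
      refine Finset.mem_filter.2 ⟨Finset.mem_range.2 (by omega), ?_⟩
      rw [Nat.not_even_iff]; omega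
    · obtain ⟨hb, hodd⟩ := Finset.mem_filter.1 hb
      have := Finset.mem_range.1 hb
      rw [Nat.not_even_iff] at hodd
      exact ⟨b / 2, Finset.mem_range.2 (by omega), by omega⟩
    · rw [← pow_mul]; congr 2 <;> omega
  · exact Finset.prod_congr (Finset.filter_congr fun i _ => by simp) fun _ _ => rfl

theorem not_dvd_relIndex (hQ : Nondeg Q) (h2 : (2 : F) ≠ 0) (hκ : IsSAField Q κ a) {d : ℕ} (hd : 2 ≤ d)
    (hn : finrank F V = 2 * d) {r : ℕ} (hr : r.Prime) (hr2 : r ≠ 2) (hrq : ¬ r ∣ Nat.card F)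
    (he : 4 ∣ orderOf (Nat.card F : ZMod r)) :
    ¬ r ∣ (goodGroup Q κ).relIndex (commutator (O Q)) := by
  classical
  intro hdvd
  haveI : Fact r.Prime := ⟨hr⟩
  haveI := finite_O (Q := Q)
  set q := Nat.card F with hq
  have hq0 : 0 < q := Nat.card_pos
  have hq1 : 1 < q := Finite.one_lt_card
  obtain ⟨C, hC, hCn⟩ := (exists_field_data hQ h2 hκ hn (by omega)).2
  have hrel : r ∣ (C ⊓ commutator (O Q)).relIndex (commutator (O Q)) :=
    hdvd.trans (Subgroup.relIndex_dvd_of_le_left _ (inf_le_left.trans hC))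
  have e1 : Nat.card ↥(C ⊓ commutator (O Q) : Subgroup (O Q)) * (C ⊓ commutator (O Q)).relIndex (commutator (O Q)) =
      Nat.card (commutator (O Q)) := by
    rw [← Subgroup.relIndex_bot_left, ← Subgroup.relIndex_bot_left]
    exact Subgroup.relIndex_mul_relIndex _ _ _ bot_le inf_le_right
  have e2 : Nat.card (commutator (O Q)) * 4 = Nat.card (O Q) := by
    rw [← index_commutator_eq_four hQ h2 (by omega), Subgroup.card_mul_index]
  have e3 : Nat.card ↥(C ⊓ commutator (O Q) : Subgroup (O Q)) * (C ⊓ commutator (O Q)).relIndex C = Nat.card C := by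
    rw [← Subgroup.relIndex_bot_left, ← Subgroup.relIndex_bot_left]
    exact Subgroup.relIndex_mul_relIndex _ _ _ bot_le inf_le_left
  have e4 : (C ⊓ commutator (O Q)).relIndex C ∣ 4 := by
    rw [inf_comm, Subgroup.inf_relIndex_right, ← index_commutator_eq_four hQ h2 (show 2 ≤ finrank F V by omega)]
    exact Subgroup.relIndex_dvd_index_of_normal _ _
  obtain ⟨A, B, hAB, hB⟩ : ∃ A B : ℕ, Nat.card (O Q) * q ^ A = Nat.card C * B ∧ ¬ r ∣ B := by
    have h4 : ∀ i, Odd i → ¬ r ∣ q ^ (2 * i) - 1 := fun i hi h => by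
      have h1 : orderOf (q : ZMod r) ∣ 2 * i := orderOf_dvd_of_pow_eq_one (by
        have := (ZMod.natCast_eq_zero_iff _ _).2 h
        rwa [Nat.cast_sub (Nat.one_le_pow _ _ hq0), Nat.cast_pow, Nat.cast_one, sub_eq_zero] at this)
      obtain ⟨b, hb⟩ := he.trans h1
      obtain ⟨b', hb'⟩ := hi
      omega
    have hprod : ∀ n, ¬ r ∣ ∏ i ∈ (Finset.range n).filter (fun i => Even i), (q ^ (2 * (i + 1)) - 1) := fun n h => by
      obtain ⟨i, hi, hd⟩ := (Prime.dvd_finsetProd_iff hr.prime _).1 h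
      exact h4 (i + 1) (Finset.mem_filter.1 hi).2.add_one hd
    have hqn : ∀ n, ¬ r ∣ q ^ n := fun n h => hrq (hr.dvd_of_dvd_pow h)
    have hsq : ∀ n, q ^ (2 * n) - 1 = (q ^ n + 1) * (q ^ n - 1) := fun n => by
      rw [mul_comm 2, pow_mul]; simpa using Nat.sq_sub_sq (q ^ n) 1
    obtain ⟨m, hm⟩ : ∃ m, d = m + 1 := ⟨d - 1, by omega⟩
    have hn' : finrank F V = 2 * (m + 1) := by omega
    rcases hCn with ⟨c, hdc, hc⟩ | ⟨c, hdc, hcl, hc⟩ | ⟨c, hdc, hcl, hc⟩
    · obtain rfl : m = 2 * c := by omega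
      have hs := oprod_even_split q (c := c) (d' := 2 * c) (Or.inl rfl)
      set R := ∏ i ∈ (Finset.range (2 * c)).filter (fun i => Even i), (q ^ (2 * (i + 1)) - 1)
      have hR : ¬ r ∣ R := hprod _
      rcases card_O_cases hQ h2 hn' with ⟨-, hO⟩ | ⟨-, hO⟩
      · refine ⟨2 * c ^ 2, q ^ ((2 * c + 1) * (2 * c)) * (q ^ (2 * c + 1) - 1) * R, ?_, ?_⟩
        · rw [hO, hc, ← hq, hs, ← pow_mul]; ring
        · intro h
          rcases hr.dvd_mul.1 h with h | h
          · rcases hr.dvd_mul.1 h with h | h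
            · exact hqn _ h
            · refine h4 (2 * c + 1) (odd_two_mul_add_one c) (h.trans ?_)
              rw [hsq]
              exact dvd_mul_left _ _
          · exact hR h
      · refine ⟨2 * c ^ 2, q ^ ((2 * c + 1) * (2 * c)) * (q ^ (2 * c + 1) + 1) * R, ?_, ?_⟩
        · rw [hO, hc, ← hq, hs, ← pow_mul]; ring
        · intro h
          rcases hr.dvd_mul.1 h with h | h
          · rcases hr.dvd_mul.1 h with h | h
            · exact hqn _ h
            · refine h4 (2 * c + 1) (odd_two_mul_add_one c) (h.trans ?_)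
              rw [hsq]
              exact dvd_mul_right _ _
          · exact hR h
    all_goals
      obtain rfl : m = 2 * c + 1 := by omega
      have hs := oprod_even_split q (c := c) (d' := 2 * c + 1) (Or.inr rfl)
      set R := ∏ i ∈ (Finset.range (2 * c + 1)).filter (fun i => Even i), (q ^ (2 * (i + 1)) - 1)
      refine ⟨2 * ((c + 1) * c), q ^ ((2 * c + 1 + 1) * (2 * c + 1)) * R, ?_, fun h => ?_⟩
      · rcases card_O_cases hQ h2 hn' with ⟨hcl', hO⟩ | ⟨hcl', hO⟩
        · first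
          | (rw [hO, hc, ← hq, hs, ← pow_mul, ← pow_mul, show 2 * c + 1 + 1 = 2 * (c + 1) by ring]; ring; done)
          | exact absurd (by rw [hdc, show 2 * (c + 1) = 2 * c + 1 + 1 by ring]; exact hcl') hcl
        · first
          | (rw [hO, hc, ← hq, hs, ← pow_mul, ← pow_mul, show 2 * c + 1 + 1 = 2 * (c + 1) by ring]; ring; done)
          | exact absurd (by rw [hdc] at hcl; rw [← show 2 * (c + 1) = 2 * c + 1 + 1 by ring]; exact hcl) hcl'
      · exact (hr.dvd_mul.1 h).elim (hqn _) (hprod _)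
  set I := (C ⊓ commutator (O Q)).relIndex C
  set R := (C ⊓ commutator (O Q)).relIndex (commutator (O Q))
  set D := Nat.card ↥(C ⊓ commutator (O Q) : Subgroup (O Q))
  rw [← e2, ← e1, ← e3] at hAB
  have h5 : R * 4 * q ^ A = I * B := Nat.eq_of_mul_eq_mul_left (Nat.card_pos : 0 < D) (by linear_combination hAB)
  have h6 : r ∣ I * B := h5 ▸ Dvd.dvd.mul_right (Dvd.dvd.mul_right hrel 4) _
  rcases hr.dvd_mul.1 h6 with h | h
  · have h7 : r ∣ 2 ^ 2 := h.trans e4
    exact hr2 ((Nat.prime_dvd_prime_iff_eq hr Nat.prime_two).1 (hr.dvd_of_dvd_pow h7))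
  · exact hB h

theorem two_case (hQ : Nondeg Q) (h2 : (2 : F) ≠ 0) (hκ : IsSAField Q κ a) {d : ℕ} (hd : 2 ≤ d)
    (hn : finrank F V = 2 * d) {x : O Q} (hx : x ∈ commutator (O Q)) (hx2 : x * x = 1 ∨ x * x = negO Q)
    (h1 : x ≠ 1) (hne : x ≠ negO Q) : ∃ h ∈ commutator (O Q), h⁻¹ * x * h ∈ goodGroup Q κ := by
  classical
  obtain ⟨hxd, hxs⟩ := (mem_commutator_iff hQ h2 x).1 hx
  obtain ⟨y, r, h, hy, hrd, hry, hh⟩ : ∃ y r h : O Q, y ∈ goodGroup Q κ ∧ detSign Q hQ h2 r = -1 ∧
      r * y * r⁻¹ ∈ goodGroup Q κ ∧ h⁻¹ * x * h = y := by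
    rcases hx2 with hsq | hsq
    · obtain ⟨l, hl⟩ : ∃ l, finrank F (LinearMap.ker (((x : V ≃ₗ[F] V) : V →ₗ[F] V) + 1)) = l := ⟨_, rfl⟩
      obtain ⟨l', v, v0, v1, v2, v3, v4, -, -⟩ := exists_eigen_ortho hQ h2 hsq hl
      have hc : Fintype.card (Fin l ⊕ Fin l') = finrank F V := by simp [v0]
      have hxr : x = reflOn Q (fun i => v (.inl i)) := v1.ext_app h2 v2 hc fun s => by
        rcases s with i | i
        · rw [v3, reflOn_app (fun p q hpq => v1 _ _ (by simpa using hpq)) (fun p => v2 _)]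
        · rw [v4, reflOn_fix fun p => v1 _ _ (by simp)]
      rw [hxr, detSign_reflOn hQ h2 (fun p => v2 _), Fintype.card_fin] at hxd
      have hev : Even l := (neg_one_pow_eq_one_iff_even (by decide)).1 hxd
      obtain ⟨b, hb⟩ := hev
      have hl0 : l ≠ 0 := fun h0 => h1 (v1.ext_app h2 v2 hc fun s => by
        rcases s with i | i
        · exact (Fin.cast h0 i).elim0
        · rw [v4]; rfl)
      have hl0' : l' ≠ 0 := fun h0 => hne (v1.ext_app h2 v2 hc fun s => by
        rcases s with i | i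
        · rw [v3]; rfl
        · exact (Fin.cast h0 i).elim0)
      obtain ⟨y, r, hy, hyy, hys, -, hyl, hrd, hry⟩ := exists_good_invol hQ h2 hκ hn (l := b) (by omega) (by omega) 1
      obtain ⟨h, hh⟩ := conj_of_sq_one hQ h2 hsq hyy (by rw [hl, hyl]; omega) (by rw [hxs, hys])
      exact ⟨y, r, h, hy, hrd, hry, hh⟩
    · have hxx : ∀ w, (x : V ≃ₗ[F] V) ((x : V ≃ₗ[F] V) w) = -w := fun w => by
        rw [← mul_app, ← Subgroup.coe_mul, hsq]; rfl
      obtain ⟨y, r, hy, hyy, hrd, hry⟩ :=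
        exists_good_negone hQ h2 hκ hn (by omega) (cls_of_sq_negone h2 hQ hn hxx)
      obtain ⟨h, hh⟩ := conj_of_sq_negone h2 hQ hn hxx hyy
      exact ⟨y, r, h, hy, hrd, hry, hh⟩
  -- make the determinant one
  obtain ⟨h, hhd, hh⟩ : ∃ h : O Q, detSign Q hQ h2 h = 1 ∧ h⁻¹ * x * h ∈ goodGroup Q κ := by
    rcases Int.units_eq_one_or (detSign Q hQ h2 h) with e | e
    · exact ⟨h, e, hh ▸ hy⟩
    · refine ⟨h * r⁻¹, by rw [map_mul, map_inv, e, hrd]; decide, ?_⟩
      rwa [show (h * r⁻¹)⁻¹ * x * (h * r⁻¹) = r * (h⁻¹ * x * h) * r⁻¹ by group, hh]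
  rcases Int.units_eq_one_or (spinor Q hQ h2 h) with e | e
  · exact ⟨h, (mem_commutator_iff hQ h2 h).2 ⟨hhd, e⟩, hh⟩
  · obtain ⟨n, -, hn1, -, hns, hnd, -, -⟩ := exists_good_invol hQ h2 hκ hn (l := 1) one_pos (by omega) (-1)
    refine ⟨h * n, (mem_commutator_iff hQ h2 _).2 ⟨by rw [map_mul, hhd, hnd, one_mul], by rw [map_mul, e, hns]; decide⟩, ?_⟩
    rw [show (h * n)⁻¹ * x * (h * n) = n⁻¹ * (h⁻¹ * x * h) * n by group]
    exact Subgroup.mul_mem _ (Subgroup.mul_mem _ (Subgroup.inv_mem _ hn1) hh) hn1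

theorem abstract_iff (hQ : Nondeg Q) (h2 : (2 : F) ≠ 0) (hκ : IsSAField Q κ a) {d : ℕ} (hd : 4 ≤ d)
    (hn : finrank F V = 2 * d) {r : ℕ} (hr : r.Prime)
    (hΩ : r ∣ (goodGroup Q κ).relIndex (commutator (O Q))) :
    (∀ x ∈ commutator (O Q), (x ^ r = 1 ∨ x ^ r = negO Q) → x ≠ 1 → x ≠ negO Q →
      ∃ h ∈ commutator (O Q), h⁻¹ * x * h ∈ goodGroup Q κ) ↔ r = 2 := by
  constructor
  · intro hall
    by_contra hr2
    have hodd := hr.odd_of_ne_two hr2
    obtain ⟨x, hxr, hns, hobs⟩ : ∃ x : O Q, x ^ r = 1 ∧ (∀ z : F, ¬ ∀ v, (x : V ≃ₗ[F] V) v = z • v) ∧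
        Obstructed Q a x := by
      by_cases hrF : (r : F) = 0
      · exact exists_root hQ h2 (by omega) hr hr2 hrF a
      · have hrq : ¬ r ∣ Nat.card F := fun h => by
          haveI := Fintype.ofFinite F
          obtain ⟨p, _⟩ := CharP.exists F
          haveI := CharP.char_is_prime F p
          obtain ⟨k, hk, he⟩ := FiniteField.card F p
          rw [Nat.card_eq_fintype_card, he] at h
          have := (Nat.prime_dvd_prime_iff_eq hr hk).1 (hr.dvd_of_dvd_pow h)
          subst this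
          exact hrF (CharP.cast_eq_zero F r)
        haveI := finite_O (Q := Q)
        have hcard : r ∣ Nat.card (O Q) :=
          hΩ.trans ((Subgroup.relIndex_dvd_card _ _).trans (Subgroup.card_subgroup_dvd_card _))
        obtain ⟨m, rfl⟩ : ∃ m, d = m + 1 := ⟨d - 1, by omega⟩
        rcases exists_derangement hQ h2 hκ.nsq hn hr hr2 hrF hrq hcard with h | h
        · exact h
        · exact absurd hΩ (not_dvd_relIndex hQ h2 hκ (by omega) hn hr hr2 hrq h)
    obtain ⟨h, -, hh⟩ := hall x (mem_commutator_of_odd hQ h2 hodd hxr) (Or.inl hxr)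
      (fun e => hns 1 fun v => by rw [e, one_smul]; rfl) (fun e => hns (-1) fun v => by rw [e, neg_one_smul]; rfl)
    exact conj_not_good h2 hκ hodd hxr hobs h hh
  · rintro rfl x hx hx2 h1 hne
    rw [pow_two] at hx2
    exact two_case hQ h2 hκ (by omega) hn hx hx2 h1 hne

/-! ### Matrices -/

theorem gl_iff {F : Type*} [Field F] [Fintype F] {ι : Type} [Fintype ι] [DecidableEq ι]
    (Q : QuadraticForm F (ι → F)) (hQ : Nondeg Q) (h2 : (2 : F) ≠ 0) (d : ℕ) (hd : 4 ≤ d)
    (hι : Fintype.card ι = 2 * d) (K : Subalgebra F (Matrix ι ι F)) (hK : Cfsg.Geo.IsFieldSubalgebra 2 K)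
    (hKf : Cfsg.Geo.IsSelfAdjointFor (polar (⇑Q)) K) (r : ℕ) [Fact r.Prime]
    (hΩ : r ∣ (Cfsg.Geo.subalgebraNormalizer K).relIndex (Cfsg.Geo.omegaGL (⇑Q))) :
    (∀ x ∈ Cfsg.Geo.omegaGL (⇑Q), (∃ z : F, ((x ^ r : GL ι F) : Matrix ι ι F) = z • (1 : Matrix ι ι F)) →
      (∀ z : F, (x : Matrix ι ι F) ≠ z • (1 : Matrix ι ι F)) →
      ∃ g ∈ Cfsg.Geo.omegaGL (⇑Q), g⁻¹ * x * g ∈ Cfsg.Geo.subalgebraNormalizer K) ↔ r = 2 := by
  classical
  have hr : r.Prime := Fact.out
  have hn : finrank F (ι → F) = 2 * d := by rw [Module.finrank_pi, hι]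
  haveI : Nonempty ι := Fintype.card_pos_iff.1 (by omega)
  -- the generator
  haveI : Nontrivial K := Module.nontrivial_of_finrank_pos (R := F) (by rw [hK.finrank_eq]; norm_num)
  obtain ⟨κ₀, hκ₀K, hns₀⟩ : ∃ κ₀ ∈ K, ∀ s : F, κ₀ ≠ s • 1 := by
    by_contra hno
    push Not at hno
    have h1 : Module.finrank F K = 1 := Subalgebra.bot_eq_top_iff_finrank_eq_one.1 (eq_top_iff.2 fun x _ => by
      obtain ⟨s, hs⟩ := hno x x.2
      exact Algebra.mem_bot.2 ⟨s, Subtype.ext (by
        show algebraMap F (Matrix ι ι F) s = _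
        rw [hs, Algebra.algebraMap_eq_smul_one])⟩)
    rw [hK.finrank_eq] at h1
    omega
  have hli : LinearIndependent F ![(1 : K), ⟨κ₀, hκ₀K⟩] := by
    refine LinearIndependent.pair_iff.2 fun s t h => ?_
    have h' : s • (1 : Matrix ι ι F) + t • κ₀ = 0 := congrArg Subtype.val h
    by_cases ht : t = 0
    · rw [ht, zero_smul, add_zero] at h'
      exact ⟨(smul_eq_zero.1 h').resolve_right one_ne_zero, ht⟩
    · exact absurd (by
        rw [add_eq_zero_iff_neg_eq, ← neg_smul] at h'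
        rw [← inv_smul_smul₀ ht κ₀, ← h', smul_smul]) (hns₀ (t⁻¹ * -s))
  have hspan₀ : ∀ k' ∈ K, ∃ s t : F, k' = s • 1 + t • κ₀ := by
    intro k' hk'
    have htop := hli.span_eq_top_of_card_eq_finrank (by rw [Fintype.card_fin, hK.finrank_eq])
    have hmem : (⟨k', hk'⟩ : K) ∈ Submodule.span F (Set.range ![(1 : K), ⟨κ₀, hκ₀K⟩]) := by rw [htop]; trivial
    rw [Matrix.range_cons, Matrix.range_cons, Matrix.range_empty, Set.union_empty, Set.singleton_union] at hmem
    obtain ⟨s, t, hst⟩ := Submodule.mem_span_pair.1 hmem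
    exact ⟨s, t, (congrArg Subtype.val hst).symm⟩
  obtain ⟨s, t, hst⟩ := hspan₀ _ (K.mul_mem hκ₀K hκ₀K)
  set κm := κ₀ - (t / 2) • (1 : Matrix ι ι F) with hκdef
  have hκK : κm ∈ K := K.sub_mem hκ₀K (K.smul_mem K.one_mem _)
  set a := s + t ^ 2 / 4 with hadef
  have hκκ : κm * κm = a • 1 := by
    rw [hκdef, sub_mul, mul_sub, mul_sub, hst, Matrix.smul_mul, Matrix.smul_mul, one_mul, one_mul, Matrix.mul_smul,
      mul_one, smul_smul, hadef]
    have h4 : (4 : F) ≠ 0 := by
      rw [show (4 : F) = 2 * 2 by norm_num]; exact mul_ne_zero h2 h2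
    match_scalars <;> field_simp <;> ring
  have hnsc : ∀ c : F, κm ≠ c • 1 := fun c h => hns₀ (c + t / 2) (by rw [add_smul, ← h, hκdef, sub_add_cancel])
  have ha : ¬ IsSquare a := by
    rintro ⟨c, hc⟩
    have h1 : (κm - c • 1) * (κm + c • 1) = 0 := by
      rw [sub_mul, mul_add, mul_add, hκκ, hc]; simp [smul_smul]; abel
    obtain ⟨w, -, hw⟩ := hK.inv _ (K.sub_mem hκK (K.smul_mem K.one_mem c)) (sub_ne_zero.2 (hnsc c))
    have h3 : κm + c • 1 = 0 := by
      have h4 := congrArg (w * ·) h1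
      simp only [mul_zero, ← mul_assoc] at h4
      rwa [mul_eq_one_comm.1 hw, one_mul] at h4
    exact hnsc (-c) (by rw [neg_smul]; exact eq_neg_of_add_eq_zero_left h3)
  have hspan : ∀ k' ∈ K, ∃ c e : F, k' = c • 1 + e • κm := fun k' hk' => by
    obtain ⟨c, e, rfl⟩ := hspan₀ k' hk'
    exact ⟨c + e * (t / 2), e, by rw [hκdef, smul_sub, smul_smul, add_smul]; abel⟩
  let κ : (ι → F) →ₗ[F] (ι → F) := Matrix.toLin' κm
  have hκ : IsSAField Q κ a := ⟨fun v => by
      show κm.mulVec (κm.mulVec v) = _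
      rw [Matrix.mulVec_mulVec, hκκ, Matrix.smul_mulVec, Matrix.one_mulVec],
    fun u v => hKf κm hκK u v, ha⟩
  -- the normaliser
  have hN : (Cfsg.Geo.subalgebraNormalizer K).comap (H96.om Q) = goodGroup Q κ := by
    ext g
    set y := H96.om Q g with hy
    have hyv : ∀ v, (y : Matrix ι ι F).mulVec v = (g : (ι → F) ≃ₗ[F] (ι → F)) v := H96.om_mulVec Q g
    have hiff : ∀ ε : F, ((y : Matrix ι ι F) * κm = ε • (κm * (y : Matrix ι ι F))) ↔
        ∀ v, (g : (ι → F) ≃ₗ[F] (ι → F)) (κ v) = ε • κ ((g : (ι → F) ≃ₗ[F] (ι → F)) v) := by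
      intro ε
      rw [Matrix.ext_iff_mulVec]
      refine forall_congr' fun v => ?_
      rw [Matrix.smul_mulVec, ← Matrix.mulVec_mulVec, ← Matrix.mulVec_mulVec, hyv, hyv]
      exact Iff.rfl
    rw [Subgroup.mem_comap, mem_goodGroup]
    constructor
    · intro hg
      obtain ⟨c, e, hce⟩ := hspan _ ((hg κm).1 hκK)
      have hyk : (y : Matrix ι ι F) * κm = c • (y : Matrix ι ι F) + e • (κm * (y : Matrix ι ι F)) := by
        have h' := congrArg (· * (y : Matrix ι ι F)) hce
        simp only [add_mul, Matrix.smul_mul, one_mul] at h'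
        rw [← h', mul_assoc ((y : Matrix ι ι F) * κm), Units.inv_mul, mul_one]
      have hsq : (c • 1 + e • κm) * (c • 1 + e • κm) = a • (1 : Matrix ι ι F) := by
        rw [← hce]
        simp only [mul_assoc, Units.inv_mul_cancel_left]
        rw [← mul_assoc κm, hκκ, Matrix.smul_mul, one_mul, Matrix.mul_smul, Units.mul_inv]
      have hli' : ∀ p q : F, p • (1 : Matrix ι ι F) + q • κm = 0 → p = 0 ∧ q = 0 := fun p q h => by
        by_cases hq : q = 0
        · rw [hq, zero_smul, add_zero] at h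
          exact ⟨(smul_eq_zero.1 h).resolve_right one_ne_zero, hq⟩
        · rw [add_eq_zero_iff_neg_eq, ← neg_smul] at h
          exact absurd (by rw [← inv_smul_smul₀ hq κm, ← h, smul_smul]) (hnsc (q⁻¹ * -p))
      have h1 : (c * c + e * e * a - a) • (1 : Matrix ι ι F) + (2 * c * e) • κm = 0 := by
        simp only [add_mul, mul_add, Matrix.smul_mul, Matrix.mul_smul, one_mul, mul_one, hκκ, smul_smul] at hsq
        rw [sub_smul, add_smul, show (2 * c * e) • κm = (c * e) • κm + (e * c) • κm by rw [← add_smul]; congr 1; ring]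
        linear_combination (norm := module) hsq
      obtain ⟨e1, e2⟩ := hli' _ _ h1
      have hc : c = 0 := by
        rcases mul_eq_zero.1 e2 with h | h
        · exact (mul_eq_zero.1 h).resolve_left h2
        · exact absurd ⟨c, by rw [h] at e1; linear_combination -e1⟩ ha
      refine ⟨e, ?_, (hiff e).1 (by rw [hyk, hc, zero_smul, zero_add])⟩
      rw [hc] at e1
      exact mul_self_eq_one_iff.1 (mul_right_cancel₀ hκ.ne (by linear_combination e1))
    · rintro ⟨ε, hε, h⟩
      have hyk := (hiff ε).2 h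
      have hεε : ε * ε = 1 := by rcases hε with rfl | rfl <;> simp
      have hfwd : ∀ c e : F, (y : Matrix ι ι F) * (c • 1 + e • κm) * ((y⁻¹ : GL ι F) : Matrix ι ι F) = c • 1 + (e * ε) • κm := by
        intro c e
        rw [mul_add, add_mul, Matrix.mul_smul, Matrix.mul_smul, mul_one, hyk, smul_smul, Matrix.smul_mul, Matrix.smul_mul,
          Units.mul_inv, mul_assoc, Units.mul_inv, mul_one]
      have hK' : ∀ c e : F, c • 1 + e • κm ∈ K := fun c e => K.add_mem (K.smul_mem K.one_mem c) (K.smul_mem hκK e)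
      refine fun k => ⟨fun hk => ?_, fun hk => ?_⟩
      · obtain ⟨c, e, rfl⟩ := hspan k hk
        rw [hfwd]; exact hK' _ _
      · obtain ⟨c, e, he⟩ := hspan _ hk
        have h3 : k = c • 1 + (e * ε) • κm := by
          have := hfwd c (e * ε)
          rw [mul_assoc e ε ε, hεε, mul_one, ← he] at this
          rw [mul_assoc, mul_assoc, Units.mul_right_inj, Units.mul_left_inj] at this
          exact this.symm
        rw [h3]; exact hK' _ _
  have hmap : Cfsg.Geo.omegaGL (⇑Q) = (commutator (O Q)).map (H96.om Q) := by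
    ext g; rw [H96.mem_omegaGL_iff]; rfl
  rw [hmap, ← Subgroup.relIndex_comap, hN] at hΩ
  have key := abstract_iff hQ h2 hκ hd hn hr hΩ
  -- scalars
  have hscal : ∀ (g : O Q) (z : F), ((H96.om Q g : GL ι F) : Matrix ι ι F) = z • 1 → g = 1 ∨ g = negO Q := by
    intro g z hz
    have hg : ∀ v, (g : (ι → F) ≃ₗ[F] (ι → F)) v = z • v := fun v => by
      rw [← H96.om_mulVec Q g v, hz, Matrix.smul_mulVec, Matrix.one_mulVec]
    obtain ⟨y, hy⟩ := exists_ne_zero (Q := Q) hQ (x := (1 : ι → F)) one_ne_zero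
    have h1 := O.map_app g y
    rw [hg, qmap_smul] at h1
    rcases sq_eq_one_iff.1 (mul_right_cancel₀ hy (h1.trans (one_mul _).symm)) with rfl | rfl
    · exact Or.inl (O.ext_app fun v => by rw [hg, one_smul]; rfl)
    · exact Or.inr (O.ext_app fun v => by rw [hg, neg_one_smul]; rfl)
  have hom1 : ((H96.om Q (1 : O Q) : GL ι F) : Matrix ι ι F) = (1 : F) • 1 := by rw [map_one, one_smul]; rfl
  have homn : ((H96.om Q (negO Q) : GL ι F) : Matrix ι ι F) = (-1 : F) • 1 := Matrix.ext_iff_mulVec.2 fun v => by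
    rw [H96.om_mulVec, negO_app, Matrix.smul_mulVec, Matrix.one_mulVec, neg_one_smul]
  rw [← key]
  constructor
  · intro hall x hx hxr h1 hne
    obtain ⟨g, hg, hgx⟩ := hall (H96.om Q x) (hmap ▸ Subgroup.mem_map_of_mem _ hx) (by
      rcases hxr with h | h
      · exact ⟨1, by rw [← map_pow, h, hom1]⟩
      · exact ⟨-1, by rw [← map_pow, h, homn]⟩)
      (fun z hz => (hscal x z hz).elim h1 hne)
    obtain ⟨h, hh, rfl⟩ := hmap ▸ hg
    refine ⟨h, hh, hN ▸ ?_⟩
    rw [Subgroup.mem_comap, map_mul, map_mul, map_inv]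
    exact hgx
  · intro hall x hx hxr hns
    obtain ⟨x, hx', rfl⟩ := hmap ▸ hx
    obtain ⟨z, hz⟩ := hxr
    obtain ⟨h, hh, hhx⟩ := hall x hx' (hscal (x ^ r) z (by rw [map_pow]; exact hz))
      (fun e => hns 1 (by rw [e, hom1])) (fun e => hns (-1) (by rw [e, homn]))
    refine ⟨H96.om Q h, hmap ▸ Subgroup.mem_map_of_mem _ hh, ?_⟩
    rw [← hN, Subgroup.mem_comap, map_mul, map_mul, map_inv] at hhx
    exact hhx

end Cfsg.Agent.H48.OrthFieldPrime
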