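import Cfsg.Agent.CharInduce.Induce
import Cfsg.Agent.CharInduce.Correspondence
import Cfsg.Agent.CharInduce.CoprimeExt
import Cfsg.Agent.CharInduce.Twist
import Cfsg.Agent.CharInduce.Det
import Cfsg.Agent.CharBasic.Kernel
import Cfsg.Agent.CharBasic.Complete
import Cfsg.Agent.Cores.PCore
import Cfsg.Agent.Cores.PSolvable
import Cfsg.Agent.Cores.Constrained
import Cfsg.Agent.H75.Cover

/-!
# `p`-soluble groups all of whose irreducible degrees are prime to `p` (Itô)
-/

set_option autoImplicit false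

namespace Cfsg.Agent.H48.PrimeDegree

open scoped ComplexConjugate
open Cfsg.Agent.CharBasic Cfsg.Agent.CharInduce

universe u

variable {G : Type u} [Group G] [Fintype G] {p : ℕ}

/-- All irreducible degrees are prime to `p`. -/
def Prime' (p : ℕ) (G : Type u) [Group G] : Prop :=
  ∀ χ : G → ℂ, IsIrrCharacter G χ → ∀ n : ℕ, χ 1 = n → ¬ p ∣ n

theorem Prime'.quotient (h : Prime' p G) (N : Subgroup G) [N.Normal] : Prime' p (G ⧸ N) :=
  fun χ hχ n hn => h (fun g => χ (QuotientGroup.mk' N g))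
    (CharInduce.IsIrr.comp hχ _ (QuotientGroup.mk'_surjective N)) n (by rw [map_one]; exact hn)

/-- An irreducible character of a normal subgroup lies below some character. -/
theorem exists_above (N : Subgroup G) [N.Normal] [Fintype N] {θ : N → ℂ} (hθ : IsIrrCharacter N θ) :
    ∃ χ : G → ℂ, IsIrrCharacter G χ ∧ classInner (fun n : N => χ n) θ ≠ 0 := by
  have h0 : indFun N θ ≠ 0 := fun h => by
    have h1 := congrFun h 1
    rw [indFun_one, Pi.zero_apply, mul_eq_zero, Nat.cast_eq_zero] at h1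
    rcases h1 with h1 | h1
    · exact Subgroup.FiniteIndex.index_ne_zero h1
    · exact CharBasic.IsIrr.one_ne_zero hθ h1
  obtain ⟨χ, hχ⟩ := exists_constituent (CharInduce.IsChar.ind N (CharBasic.IsIrr.isCharacter hθ)) h0
  refine ⟨χ, χ.2, fun h => hχ ?_⟩
  rw [classInner_indFun_left N θ _ (CharBasic.IsIrr.isClassFunction χ.2), ← conj_classInner, h, map_zero]

/-- Clifford's formula for degrees. -/
theorem exists_degrees (N : Subgroup G) [N.Normal] [Fintype N] {χ : G → ℂ} (hχ : IsIrrCharacter G χ)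
    {θ : N → ℂ} (hθ : IsIrrCharacter N θ) (h : classInner (fun n : N => χ n) θ ≠ 0) {d : ℕ}
    (hd : χ 1 = d) :
    ∃ e m : ℕ, θ 1 = m ∧ d = e * (inertia N θ).index * m := by
  obtain ⟨e, he⟩ := classInner_isChar_nat
    (CharInduce.IsChar.res (CharBasic.IsIrr.isCharacter hχ) N) (CharBasic.IsIrr.isCharacter hθ)
  obtain ⟨m, -, hm⟩ := CharBasic.IsIrr.exists_degree hθ
  refine ⟨e, m, hm, ?_⟩
  have := clifford_degree N hχ hθ h
  rw [he, hm, hd] at this
  exact_mod_cast this

theorem Prime'.normal (h : Prime' p G) (N : Subgroup G) [N.Normal] : Prime' p N := by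
  classical
  intro θ hθ m hm
  obtain ⟨χ, hχ, hne⟩ := exists_above N hθ
  obtain ⟨d, -, hd⟩ := CharBasic.IsIrr.exists_degree hχ
  obtain ⟨e, m', hm', hdm⟩ := exists_degrees N hχ hθ hne hd
  intro hp
  have : m' = m := by rw [hm, Nat.cast_inj] at hm'; exact hm'.symm
  exact h χ hχ d hd (hdm ▸ this ▸ hp.mul_left _)

/-- `p`-groups with all degrees prime to `p` are abelian. -/
theorem comm_of_isPGroup [Fact p.Prime] (h : Prime' p G) (hG : IsPGroup p G) :
    ∀ a b : G, a * b = b * a := by
  refine commutative_iff_forall_linear.2 fun χ => ?_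
  obtain ⟨d, -, hd, hdvd, -⟩ := CharBasic.IsIrr.degree_dvd χ.2
  obtain ⟨k, hk⟩ := IsPGroup.iff_card.1 hG
  rw [hk] at hdvd
  obtain ⟨c, -, rfl⟩ := (Nat.dvd_prime_pow (Fact.out : p.Prime)).1 hdvd
  rcases c with _ | c
  · rw [hd, pow_zero, Nat.cast_one]
  · exact absurd (dvd_pow_self p c.succ_ne_zero) (h χ χ.2 _ hd)

/-- If `G = K P` with `K` a normal `p'`-subgroup and all degrees prime to `p`, then `P` centralises
`K`. -/
theorem centralize_of_prime' [Fact p.Prime] (h : Prime' p G) (K : Subgroup G) [K.Normal]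
    (hK : (Nat.card K).Coprime p) (P : Sylow p G) (htop : (P : Subgroup G) ⊔ K = ⊤) :
    ∀ y ∈ (P : Subgroup G), ∀ k ∈ K, k * y = y * k := by
  classical
  haveI : Fintype K := Fintype.ofFinite K
  have hp : p.Prime := Fact.out
  -- `|G : K|` is a power of `p`
  have hidx : ∃ j, K.index = p ^ j := by
    obtain ⟨j, hj⟩ := IsPGroup.iff_card.1 (P.isPGroup'.map (QuotientGroup.mk' K))
    refine ⟨j, ?_⟩
    have e : (P : Subgroup G).map (QuotientGroup.mk' K) = ⊤ := by
      rw [← Subgroup.map_top_of_surjective _ (QuotientGroup.mk'_surjective K), ← htop,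
        Subgroup.map_sup, QuotientGroup.map_mk'_self, sup_bot_eq]
    rw [← hj, e, Subgroup.card_top, Subgroup.index_eq_card]
  have hfix : ∀ (θ : K → ℂ), IsIrrCharacter K θ → inertia K θ = ⊤ := fun θ hθ => by
    obtain ⟨χ, hχ, hne⟩ := exists_above K hθ
    obtain ⟨d, -, hd⟩ := CharBasic.IsIrr.exists_degree hχ
    obtain ⟨e, m, -, hdm⟩ := exists_degrees K hχ hθ hne hd
    obtain ⟨j, hj⟩ := hidx
    obtain ⟨i, -, hi⟩ := (Nat.dvd_prime_pow hp).1
      (hj ▸ Subgroup.index_dvd_of_le (le_inertia K (CharBasic.IsIrr.isClassFunction hθ)))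
    rcases i with _ | i
    · exact Subgroup.index_eq_one.1 (by rw [hi, pow_zero])
    · exfalso
      refine h χ hχ d hd (hdm ▸ ?_)
      rw [hi]
      exact ((dvd_pow_self p i.succ_ne_zero).mul_left e).mul_right m
  -- every class of `K` is stable
  have hcls : ∀ (y : G) (k : K), IsConj k ⟨y * k * y⁻¹, ‹K.Normal›.conj_mem k k.2 y⟩ := by
    intro y k
    set σ : K → K := fun k => ⟨y * k * y⁻¹, ‹K.Normal›.conj_mem k k.2 y⟩ with hσ
    have hσi : ∀ χ : IrrCharacter K, IsIrrCharacter K ((χ : K → ℂ) ∘ σ) := fun χ =>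
      isIrrCharacter_conjFun K χ.2 y
    have hall : ∀ χ : IrrCharacter K, (χ : K → ℂ) ∘ σ = χ := fun χ =>
      (mem_inertia K).1 ((hfix _ χ.2).symm ▸ Subgroup.mem_top y : y ∈ inertia K (χ : K → ℂ))
    refine (isConj_iff_forall_irr _ _).2 fun χ => ?_
    exact (congrFun (hall χ) k).symm
  set C : Subgroup K := ((Subgroup.centralizer ((P : Subgroup G) : Set G)).subgroupOf K) with hC
  have hCtop : C = ⊤ := by
    refine H75.eq_top_of_conj_cover C fun k => ?_
    -- `P` acts on the class of `k`, of size prime to `p`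
    let X := {c : K // IsConj k c}
    let act : MulAction (P : Subgroup G) X :=
      { smul := fun y c => ⟨⟨(y : G) * (c.1 : G) * (y : G)⁻¹, ‹K.Normal›.conj_mem _ c.1.2 _⟩,
          c.2.trans (hcls y c.1)⟩
        one_smul := fun c => Subtype.ext (Subtype.ext (show ((1 : (P : Subgroup G)) : G) * (c.1 : G) *
          (((1 : (P : Subgroup G)) : G))⁻¹ = (c.1 : G) by simp))
        mul_smul := fun a b c => Subtype.ext (Subtype.ext (show ((a * b : (P : Subgroup G)) : G) *
          (c.1 : G) * ((a * b : (P : Subgroup G)) : G)⁻¹ = (a : G) * ((b : G) * (c.1 : G) * (b : G)⁻¹) *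
            (a : G)⁻¹ by simp [mul_assoc])) }
    letI := act
    have hcard : ¬ p ∣ Nat.card X := by
      have e : Nat.card X = (Subgroup.centralizer ({k} : Set K)).index := by
        rw [← CharBasic.card_conjugates_eq_index]
      rw [e]
      exact fun h' => hp.coprime_iff_not_dvd.1 hK.symm (h'.trans (Subgroup.index_dvd_card _))
    obtain ⟨c, hc⟩ := P.isPGroup'.nonempty_fixed_point_of_prime_not_dvd_card X hcard
    obtain ⟨a, ha⟩ := isConj_iff.1 c.2
    refine ⟨a, ?_⟩
    rw [ha, hC, Subgroup.mem_subgroupOf, Subgroup.mem_centralizer_iff]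
    intro y hy
    have h1 : y * (c.1 : G) * y⁻¹ = (c.1 : G) :=
      congrArg (fun t : X => ((t.1 : K) : G)) (hc ⟨y, hy⟩)
    exact mul_inv_eq_iff_eq_mul.1 h1
  intro y hy k hk
  have : (⟨k, hk⟩ : K) ∈ C := hCtop ▸ Subgroup.mem_top _
  rw [hC, Subgroup.mem_subgroupOf, Subgroup.mem_centralizer_iff] at this
  exact (this y hy).symm

/-- Itô's theorem for `p`-soluble groups. -/
theorem sylow_normal_comm : ∀ (n : ℕ) (G : Type u) [Group G] [Finite G] (p : ℕ) [Fact p.Prime],
    Nat.card G = n → IsPSolvable p G → Prime' p G → ∀ P : Sylow p G,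
      (P : Subgroup G).Normal ∧ ∀ a ∈ (P : Subgroup G), ∀ b ∈ (P : Subgroup G), a * b = b * a := by
  intro n
  induction n using Nat.strong_induction_on with
  | _ n ih =>
  intro G _ _ p _ hn hsolv hdeg P
  classical
  haveI := Fintype.ofFinite G
  have habel : (P : Subgroup G).Normal →
      ∀ a ∈ (P : Subgroup G), ∀ b ∈ (P : Subgroup G), a * b = b * a := fun hPn a ha b hb => by
    haveI := hPn
    exact congrArg Subtype.val (comm_of_isPGroup (hdeg.normal (P : Subgroup G)) P.isPGroup' ⟨a, ha⟩ ⟨b, hb⟩)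
  suffices hPn : (P : Subgroup G).Normal from ⟨hPn, habel hPn⟩
  rcases subsingleton_or_nontrivial G with hG | hG
  · exact ⟨fun x hx g => by rw [Subsingleton.elim (g * x * g⁻¹) x]; exact hx⟩
  have hquot : ∀ N : Subgroup G, N.Normal → N ≠ ⊥ → ((P : Subgroup G) ⊔ N).Normal := fun N hN hN1 => by
    haveI := hN
    have hlt : Nat.card (G ⧸ N) < n := by
      rw [← hn, ← Subgroup.index_eq_card, ← N.card_mul_index]
      exact lt_mul_left (Nat.pos_of_ne_zero N.index_ne_zero_of_finite)
        (N.one_lt_card_iff_ne_bot.2 hN1)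
    have h1 := (ih _ hlt (G ⧸ N) p rfl (Cores.isPSolvable_quotient hsolv N) (hdeg.quotient N)
      (P.mapSurjective (QuotientGroup.mk'_surjective N))).1.comap (QuotientGroup.mk' N)
    rwa [Sylow.coe_mapSurjective, Subgroup.comap_map_eq, QuotientGroup.ker_mk'] at h1
  by_cases hK : pPrimeCore p G = ⊥
  · have hO : pCore p G ≠ ⊥ := fun h => by
      have h1 := Cores.centralizer_pCore_le hsolv hK
      rw [h, Subgroup.coe_bot] at h1
      have h2 : (⊤ : Subgroup G) ≤ ⊥ := fun g _ => h1 (Subgroup.mem_centralizer_iff.2 (by simp))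
      exact top_ne_bot (le_bot_iff.1 h2)
    have h1 := hquot (pCore p G) inferInstance hO
    rwa [sup_eq_left.2 (Cores.pCore_le_sylow P)] at h1
  · set K := pPrimeCore p G with hKdef
    haveI hKn : K.Normal := inferInstance
    haveI hUn : ((P : Subgroup G) ⊔ K).Normal := hquot K hKn hK
    by_cases hU : (P : Subgroup G) ⊔ K = ⊤
    · have hc := centralize_of_prime' hdeg K Cores.coprime_card_pPrimeCore P hU
      rw [← Subgroup.normalizer_eq_top_iff, eq_top_iff, ← hU, sup_le_iff]
      refine ⟨Subgroup.le_normalizer, fun k hk => ?_⟩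
      rw [Subgroup.mem_normalizer_iff]
      intro y
      refine ⟨fun hy => by rwa [hc y hy k hk, mul_inv_cancel_right], fun hy => ?_⟩
      have h1 := hc _ hy k hk
      have h2 : k * y * k⁻¹ = y := by
        have := congrArg (fun t => k⁻¹ * t) h1
        simpa [mul_assoc] using this
      rwa [h2] at hy
    · haveI : Fintype ↥((P : Subgroup G) ⊔ K) := Fintype.ofFinite _
      have hlt : Nat.card ↥((P : Subgroup G) ⊔ K) < n := hn ▸ lt_of_le_of_ne (Subgroup.card_le_card_group _)
        fun h => hU (Subgroup.eq_top_of_card_eq _ h)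
      have hQ := (ih _ hlt _ p rfl (Cores.isPSolvable_subgroup hsolv _)
        (hdeg.normal ((P : Subgroup G) ⊔ K)) (P.subtype le_sup_left)).1
      haveI := Sylow.characteristic_of_normal _ hQ
      have hmap : (P.subtype (le_sup_left : (P : Subgroup G) ≤ (P : Subgroup G) ⊔ K) : Subgroup _).map
          ((P : Subgroup G) ⊔ K).subtype = P := by
        rw [Sylow.coe_subtype, Subgroup.map_subgroupOf_eq_of_le le_sup_left]
      exact hmap ▸ ConjAct.normal_of_characteristic_of_normal

end Cfsg.Agent.H48.PrimeDegree
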