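import Cfsg.Prelude.Def_CaseTheorems
import Cfsg.Agent.H48.SylowIn
import Cfsg.Agent.PGroups.CyclicMaximal
import Cfsg.Agent.Linear.Generation
import Mathlib.GroupTheory.GroupAction.ConjAct

/-!
# A group of `p`-rank two over `Qd(p)` has trivial kernel (abstract form)

`f : G → SL₂(p)` is onto with a `p`-group kernel `R`, and `τ` is an additive equivariant map of `R`
onto the natural module. If `p > 3` and `G` has `p`-rank at most two, then `τ` is injective on `R`.
-/

set_option autoImplicit false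
set_option linter.unusedSectionVars false

namespace Cfsg.Agent.H48

open Subgroup
open scoped commutatorElement MatrixGroups

variable {G : Type*} [Group G] [Finite G] {p : ℕ} [Fact p.Prime]

theorem false_of_rank_le_two (hr : Cfsg.PRankLE p 2 G) {E : Subgroup G} (hc : IsMulCommutative E)
    (he : ∀ a ∈ E, a ^ p = 1) (hcard : p ^ 2 ≤ Nat.card E) {v : G} (hv : v ∉ E) (hvp : v ^ p = 1)
    (hcomm : ∀ a ∈ E, a * v = v * a) : False := by
  have h1 : ∀ x ∈ (E : Set G) ∪ {v}, ∀ y ∈ (E : Set G) ∪ {v}, x * y = y * x := by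
    rintro x (hx | rfl) y (hy | rfl)
    · exact congrArg Subtype.val (hc.is_comm.comm ⟨x, hx⟩ ⟨y, hy⟩)
    · exact hcomm x hx
    · exact (hcomm y hy).symm
    · rfl
  have h2 : IsMulCommutative (closure ((E : Set G) ∪ {v})) := isMulCommutative_closure h1
  have h3 : ∀ a ∈ closure ((E : Set G) ∪ {v}), a ^ p = 1 := by
    intro a ha
    induction ha using closure_induction with
    | mem x hx =>
      rcases hx with hx | rfl
      · exact he x hx
      · exact hvp
    | one => exact one_pow p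
    | mul x y hx hy hxp hyp =>
      have : Commute x y := congrArg Subtype.val (h2.is_comm.comm ⟨x, hx⟩ ⟨y, hy⟩)
      rw [this.mul_pow, hxp, hyp, one_mul]
    | inv x _ hxp => rw [inv_pow, hxp, inv_one]
  have h4 : E < closure ((E : Set G) ∪ {v}) :=
    lt_of_le_of_ne (fun x hx => subset_closure (Or.inl hx))
      (fun h => hv (h ▸ subset_closure (Or.inr rfl)))
  refine h4.ne (eq_of_le_of_card_le h4.le ?_)
  exact (hr _ h2 h3).trans hcard

theorem isPGroup_zpowers {x : G} {m : ℕ} (h : x ^ p ^ m = 1) : IsPGroup p (zpowers x) := by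
  rintro ⟨y, n, rfl⟩
  refine ⟨m, Subtype.ext ?_⟩
  simp only [Subgroup.coe_pow, OneMemClass.coe_one]
  rw [← zpow_natCast, ← zpow_mul, mul_comm, zpow_mul, zpow_natCast, h, one_zpow]

/-- An inverted element of odd `p`-power order has an inverted square root among its powers. -/
theorem exists_sqrt_pow (hp2 : p ≠ 2) {R : Subgroup G} (hR : IsPGroup p R) {s : G} (hs : s ∈ R) :
    ∃ m : ℕ, (s ^ m) * (s ^ m) = s := by
  obtain ⟨n, hn⟩ := hR ⟨s, hs⟩
  have hn' : s ^ p ^ n = 1 := by simpa using congrArg Subtype.val hn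
  obtain ⟨m, hm⟩ : Odd (p ^ n) := ((Fact.out : p.Prime).odd_of_ne_two hp2).pow
  refine ⟨m + 1, ?_⟩
  rw [← pow_add, show m + 1 + (m + 1) = p ^ n + 1 by omega, pow_succ, hn', one_mul]

variable {F : Type*} [Field F]

theorem neg_one_comm (g : SL(2, F)) : g * (-1) = (-1) * g := by
  simp [mul_neg, neg_mul]

section Aux

variable (f : G →* SL(2, ZMod p))

/-- Elements of order `p` that are inverted by `j` and fixed by `x`. -/
theorem exists_fixed_inverted {Y : Subgroup G} (hY : IsPGroup p Y) {j x : G} (hj : j * j = 1)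
    (hjY : ∀ y ∈ Y, j * y * j ∈ Y) (hxj : x * j = j * x) {m : ℕ} (hx : x ^ p ^ m = 1)
    (hxY : x ∈ normalizer (Y : Set G)) (hne : ∃ y ∈ Y, y * j ≠ j * y) :
    ∃ v ∈ Y, v ≠ 1 ∧ j * v * j = v⁻¹ ∧ v ^ p = 1 ∧ x * v = v * x := by
  classical
  have hjinv : j⁻¹ = j := inv_eq_of_mul_eq_one_right hj
  set Q : Subgroup Y := (centralizer ({j} : Set G)).subgroupOf Y with hQ
  let σ : Y → G := fun y => (y : G)⁻¹ * j * y * j
  have hσ : ∀ a b : Y, σ a = σ b ↔ b * a⁻¹ ∈ Q := by
    intro a b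
    rw [hQ, mem_subgroupOf, mem_centralizer_singleton_iff, Subgroup.coe_mul, Subgroup.coe_inv]
    simp only [σ]
    constructor
    · intro h
      have h2 : (a : G)⁻¹ * j * a = (b : G)⁻¹ * j * b := mul_right_cancel h
      calc (b : G) * (a : G)⁻¹ * j = (b : G) * ((a : G)⁻¹ * j * a) * (a : G)⁻¹ := by group
        _ = j * ((b : G) * (a : G)⁻¹) := by rw [h2]; group
    · intro h
      congr 1
      calc (a : G)⁻¹ * j * a = (b : G)⁻¹ * ((b : G) * (a : G)⁻¹ * j) * a := by group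
        _ = (b : G)⁻¹ * j * b := by rw [h]; group
  have hσmem : ∀ y : Y, σ y ∈ Y := fun y => by
    have := Y.mul_mem (Y.inv_mem y.2) (hjY _ y.2)
    simpa [σ, mul_assoc] using this
  let S := Set.range σ
  have hcard : Nat.card S = Q.index := by
    rw [Subgroup.index, ← Nat.card_congr (QuotientGroup.quotientRightRelEquivQuotientLeftRel Q)]
    refine (Nat.card_congr (Equiv.ofBijective
      (Quotient.lift (fun y => (⟨σ y, y, rfl⟩ : S))
        (fun a b h => Subtype.ext ((hσ a b).mpr (QuotientGroup.rightRel_apply.mp h)))) ⟨?_, ?_⟩)).symm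
    · intro a b
      induction a using Quotient.inductionOn with | _ a => ?_
      induction b using Quotient.inductionOn with | _ b => ?_
      intro h
      exact Quotient.sound (QuotientGroup.rightRel_apply.mpr ((hσ a b).mp (congrArg Subtype.val h)))
    · rintro ⟨_, y, rfl⟩; exact ⟨⟦y⟧, rfl⟩
  have hQne : Q ≠ ⊤ := by
    obtain ⟨y, hy, hne⟩ := hne
    intro h
    exact hne (mem_centralizer_singleton_iff.mp (h.ge (mem_top (⟨y, hy⟩ : Y))))
  obtain ⟨e, he⟩ := IsPGroup.index hY Q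
  have hdvd : p ∣ Nat.card S := by
    rw [hcard, he]
    refine dvd_pow_self p fun h0 => hQne ?_
    rw [← Subgroup.index_eq_one, he, h0, pow_zero]
  have hxz : ∀ g ∈ zpowers x, g * j = j * g ∧ g ∈ normalizer (Y : Set G) := by
    rintro g ⟨k, rfl⟩
    exact ⟨(Commute.zpow_left (show Commute x j from hxj) k).eq, zpow_mem hxY k⟩
  have hclosed : ∀ g ∈ zpowers x, ∀ s ∈ S, g * s * g⁻¹ ∈ S := by
    rintro g hg _ ⟨y, rfl⟩
    obtain ⟨hgj, hgY⟩ := hxz g hg
    refine ⟨⟨g * y * g⁻¹, (mem_normalizer_iff.mp hgY y).mp y.2⟩, ?_⟩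
    have e1 : g⁻¹ * j * g = j := by rw [mul_assoc, ← hgj, inv_mul_cancel_left]
    simp only [σ]
    calc (g * (y : G) * g⁻¹)⁻¹ * j * (g * y * g⁻¹) * j
        = g * (y : G)⁻¹ * (g⁻¹ * j * g) * y * (g⁻¹ * j * g) * g⁻¹ := by group
      _ = g * ((y : G)⁻¹ * j * y * j) * g⁻¹ := by rw [e1]; group
  letI : MulAction (zpowers x) S :=
    { smul := fun g s => ⟨(g : G) * s * (g : G)⁻¹, hclosed g g.2 s s.2⟩
      one_smul := fun s => Subtype.ext (by show ((1 : zpowers x) : G) * s * _ = _; simp)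
      mul_smul := fun g h s => Subtype.ext (by
        show ((g * h : zpowers x) : G) * s * _ = (g : G) * ((h : G) * s * (h : G)⁻¹) * (g : G)⁻¹
        simp [mul_assoc]) }
  have h1S : (1 : G) ∈ S := ⟨1, by simp [σ, hj]⟩
  obtain ⟨b, hb, hne1⟩ := (isPGroup_zpowers hx).exists_fixed_point_of_prime_dvd_card_of_fixed_point
    S hdvd (a := ⟨1, h1S⟩) (fun g => Subtype.ext (by
      show (g : G) * 1 * (g : G)⁻¹ = 1; simp))
  have hbY : (b : G) ∈ Y := by obtain ⟨y, hy⟩ := b.2; rw [← hy]; exact hσmem y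
  have hbinv : j * b * j = (b : G)⁻¹ := by
    obtain ⟨y, hy⟩ := b.2
    rw [← hy]
    simp only [σ, mul_inv_rev, inv_inv, hjinv]
    calc j * ((y : G)⁻¹ * j * y * j) * j = j * (y : G)⁻¹ * j * y * (j * j) := by group
      _ = j * ((y : G)⁻¹ * (j * y)) := by rw [hj]; group
  have hbx : Commute x (b : G) := by
    have := congrArg Subtype.val (hb ⟨x, mem_zpowers x⟩)
    exact mul_inv_eq_iff_eq_mul.mp this
  have hb1 : (b : G) ≠ 1 := fun h => hne1 (Subtype.ext h.symm)
  obtain ⟨k, hk⟩ := IsPGroup.iff_orderOf.mp hY ⟨b, hbY⟩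
  have hk' : orderOf (b : G) = p ^ k := by rw [← hk]; exact (Subgroup.orderOf_mk (b : G) hbY).symm
  obtain ⟨k, rfl⟩ : ∃ k', k = k' + 1 := Nat.exists_eq_succ_of_ne_zero (fun h => by
    rw [h, pow_zero, orderOf_eq_one_iff] at hk'; exact hb1 hk')
  refine ⟨(b : G) ^ p ^ k, Y.pow_mem hbY _, fun h => ?_, ?_, ?_, (hbx.pow_right _).eq⟩
  · have := orderOf_dvd_of_pow_eq_one h
    rw [hk'] at this
    exact absurd ((Nat.pow_dvd_pow_iff_le_right (Fact.out : p.Prime).one_lt).mp this) (by omega)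
  · have : (j * b * j⁻¹) ^ p ^ k = j * (b : G) ^ p ^ k * j⁻¹ := conj_pow
    rw [hjinv, hbinv, inv_pow] at this
    exact this.symm
  · rw [← pow_mul, ← pow_succ, ← hk', pow_orderOf_eq_one]

end Aux

end Cfsg.Agent.H48
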