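import Cfsg.Agent.H67.TwoByTwo

/-!
A group `Z = V^ι ⋊ (±PSL₂(q))`, `q` an odd power of `3`, `V` the twisted tensor square `g X σ(g)ᵀ`,
with element orders exactly the divisors of `6`, `9`, `q - 1`, `(q + 1)/2`.
-/

set_option autoImplicit false

namespace Cfsg.Agent.H48.ReeCube

open Matrix

variable {F : Type*} [Field F]

local notation "SL₂" => SpecialLinearGroup (Fin 2) F
local notation "M₂" => Matrix (Fin 2) (Fin 2) F

theorem cayley_two (g : M₂) (hg : g.det = 1) : g * g = g.trace • g - 1 := by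
  rw [Matrix.det_fin_two] at hg
  ext i j
  fin_cases i <;> fin_cases j <;>
    simp [Matrix.mul_apply, Fin.sum_univ_two, Matrix.trace_fin_two] <;> (try ring) <;> linear_combination -hg

theorem trace_adjugate_two (A : M₂) : A.adjugate.trace = A.trace := by
  rw [Matrix.adjugate_fin_two]
  simp [Matrix.trace_fin_two, add_comm]

section Act

variable [CharP F 3]

local instance : Fact (Nat.Prime 3) := ⟨Nat.prime_three⟩

/-- the transposed Frobenius twist -/
def tau (g : SL₂) : M₂ := ((g : M₂).map (frobenius F 3))ᵀ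

theorem tau_one : tau (1 : SL₂) = 1 := by
  rw [tau, Matrix.SpecialLinearGroup.coe_one, Matrix.map_one _ (map_zero _) (map_one _), transpose_one]

theorem tau_mul (g h : SL₂) : tau (g * h) = tau h * tau g := by
  rw [tau, Matrix.SpecialLinearGroup.coe_mul, Matrix.map_mul, transpose_mul]; rfl

theorem tau_det (g : SL₂) : (tau g).det = 1 := by
  rw [tau, det_transpose, ← RingHom.mapMatrix_apply, ← RingHom.map_det, g.2, map_one]

theorem tau_trace (g : SL₂) : (tau g).trace = (g : M₂).trace ^ 3 := by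
  rw [tau, trace_transpose, Matrix.trace_fin_two, Matrix.trace_fin_two, map_apply, map_apply,
    ← map_add, frobenius_def]

/-- the action on one matrix -/
def act (p : SL₂ × ℤˣ) (X : M₂) : M₂ := ((p.2 : ℤ)) • ((p.1 : M₂) * X * tau p.1)

theorem act_one (X : M₂) : act 1 X = X := by
  simp [act, tau_one]

theorem act_mul (p p' : SL₂ × ℤˣ) (X : M₂) : act (p * p') X = act p (act p' X) := by
  simp only [act, Prod.fst_mul, Prod.snd_mul, Units.val_mul, Matrix.SpecialLinearGroup.coe_mul, tau_mul]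
  rw [mul_smul_comm, smul_mul_assoc, smul_smul]
  simp only [mul_assoc]

theorem act_add (p : SL₂ × ℤˣ) (X Y : M₂) : act p (X + Y) = act p X + act p Y := by
  simp only [act, mul_add, add_mul, smul_add]

/-- **A fixed matrix forces the trace into `{0, ±1}`**, into `{0}` for the sign `-1`. -/
theorem trace_of_fixed {g : SL₂} {e : ℤˣ} {X : M₂} (hX : X ≠ 0) (h : act (g, e) X = X) :
    ((e : ℤ) : F) * (g : M₂).trace ^ 3 = (g : M₂).trace := by
  set A : M₂ := (g : M₂)
  set s := A.trace
  set ε : F := ((e : ℤ) : F)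
  have hε : ε * ε = 1 := by
    rcases Int.units_eq_one_or e with he | he <;> simp [ε, he]
  obtain ⟨k, hkdef⟩ : ∃ k : M₂, k = ε • (tau g).adjugate := ⟨_, rfl⟩
  have hk : k * k = (ε * s ^ 3) • k - 1 := by
    rw [cayley_two k]
    · rw [show k.trace = ε * s ^ 3 by rw [hkdef, Matrix.trace_smul, trace_adjugate_two, tau_trace, smul_eq_mul]]
    · rw [hkdef, det_smul, det_adjugate, tau_det, one_pow, Fintype.card_fin, mul_one, sq, hε]
  have hgX : A * X = X * k := by
    have h1 : ε • (A * X * tau g) = X := by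
      rw [show ε • (A * X * tau g) = (e : ℤ) • (A * X * tau g) from Int.cast_smul_eq_zsmul F _ _]
      exact h
    calc A * X = ε • ((ε • (A * X * tau g)) * (tau g).adjugate) := by
          rw [smul_mul_assoc, smul_smul, hε, one_smul, mul_assoc (A * X), mul_adjugate, tau_det, one_smul, mul_one]
      _ = X * k := by rw [h1, hkdef, mul_smul_comm]
  have hA2 : A * A = s • A - 1 := cayley_two A g.2
  have h2 : (ε * s ^ 3) • (X * k) - X = s • (X * k) - X := by
    calc (ε * s ^ 3) • (X * k) - X = X * (k * k) := by rw [hk, mul_sub, mul_smul_comm, mul_one]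
      _ = (A * A) * X := by rw [mul_assoc A A X, hgX, ← mul_assoc A X k, hgX, mul_assoc]
      _ = s • (X * k) - X := by rw [hA2, sub_mul, smul_mul_assoc, one_mul, hgX]
  by_contra hne
  have h3 : X * k = 0 := by
    have h4 := sub_eq_zero.2 (sub_left_inj.1 h2)
    rw [← sub_smul] at h4
    exact (smul_eq_zero.1 h4).resolve_left (sub_ne_zero.2 hne)
  apply hX
  have h5 : A.adjugate * (A * X) = X := by rw [← mul_assoc, adjugate_mul, g.2, one_smul, one_mul]
  rw [← h5, hgX, h3, mul_zero]

/-- Only `±1` acts trivially. -/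
theorem eq_one_or_neg_one_of_act (h2 : (2 : F) ≠ 0) {g : SL₂} (h : ∀ X : M₂, act (g, 1) X = X) :
    (g : M₂) = 1 ∨ (g : M₂) = -1 := by
  set A : M₂ := (g : M₂) with hA
  have hinv : A * tau g = 1 := by simpa [act, hA] using h 1
  have hinv' : tau g * A = 1 := mul_eq_one_comm.1 hinv
  have hc : ∀ X : M₂, A * X = X * A := fun X => by
    have hX : A * X * tau g = X := by simpa [act, hA] using h X
    calc A * X = A * X * (tau g * A) := by rw [hinv', mul_one]
      _ = X * A := by rw [← mul_assoc, hX]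
  have e01 := hc !![0, 1; 0, 0]
  have e10 := hc !![0, 0; 1, 0]
  have h10 : A 1 0 = 0 := by
    have := congrFun (congrFun e01 0) 0
    simpa [Matrix.mul_apply, Fin.sum_univ_two] using this.symm
  have h01 : A 0 1 = 0 := by
    have := congrFun (congrFun e10 0) 0
    simpa [Matrix.mul_apply, Fin.sum_univ_two] using this
  have h11 : A 0 0 = A 1 1 := by
    have := congrFun (congrFun e01 0) 1
    simpa [Matrix.mul_apply, Fin.sum_univ_two] using this
  have hd : A 0 0 * A 0 0 = 1 := by
    have hdet : A.det = 1 := g.2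
    rw [Matrix.det_fin_two, h01, ← h11] at hdet
    linear_combination hdet
  rcases mul_self_eq_one_iff.1 hd with hd | hd
  · left; ext i j; fin_cases i <;> fin_cases j <;> simp [h01, h10, ← h11, hd]
  · right; ext i j; fin_cases i <;> fin_cases j <;> simp [h01, h10, ← h11, hd]

variable (ι : Type*)

/-- the module -/
abbrev W (F : Type*) (ι : Type*) : Type _ := Multiplicative (ι → Matrix (Fin 2) (Fin 2) F)

/-- the automorphism of `V^ι` -/
def wAut (p : SL₂ × ℤˣ) : MulAut (W F ι) where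
  toFun w := .ofAdd fun i => act p (w.toAdd i)
  invFun w := .ofAdd fun i => act p⁻¹ (w.toAdd i)
  left_inv w := Multiplicative.toAdd.injective (funext fun i =>
    show act p⁻¹ (act p _) = _ by rw [← act_mul, inv_mul_cancel, act_one])
  right_inv w := Multiplicative.toAdd.injective (funext fun i =>
    show act p (act p⁻¹ _) = _ by rw [← act_mul, mul_inv_cancel, act_one])
  map_mul' w w' := Multiplicative.toAdd.injective (funext fun _ => act_add p _ _)

/-- the representation -/
def phi : SL₂ × ℤˣ →* MulAut (W F ι) where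
  toFun := wAut ι
  map_one' := MulEquiv.ext fun _ => Multiplicative.toAdd.injective (funext fun _ => act_one _)
  map_mul' p p' := MulEquiv.ext fun _ => Multiplicative.toAdd.injective (funext fun _ => act_mul p p' _)

/-- the group `V^ι ⋊ (±PSL₂(q))` -/
abbrev Z (F : Type*) [Field F] [CharP F 3] (ι : Type*) : Type _ :=
  W F ι ⋊[((phi (F := F) ι).range).subtype] ↥(phi (F := F) ι).range

theorem phi_apply (p : SL₂ × ℤˣ) (w : W F ι) (i : ι) :
    (phi ι p w).toAdd i = act p (w.toAdd i) := rfl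

theorem phi_neg_one : phi ι ((-1 : SL₂), (1 : ℤˣ)) = (1 : MulAut (W F ι)) :=
  MulEquiv.ext fun w => Multiplicative.toAdd.injective (funext fun i => by
    show act _ (w.toAdd i) = w.toAdd i
    simp [act, tau, Matrix.map_neg, Matrix.map_one])

theorem pow_three_W (w : W F ι) : w ^ 3 = 1 := by
  refine Multiplicative.toAdd.injective (funext fun i => ?_)
  show (3 : ℕ) • w.toAdd i = 0
  rw [← Nat.cast_smul_eq_nsmul F, show ((3 : ℕ) : F) = 0 from CharP.cast_eq_zero F 3, zero_smul]

variable {ι}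

theorem pow_three_of_right (z : Z F ι) {n : ℕ} (h : z.right ^ n = 1) : z ^ (3 * n) = 1 := by
  have hr : (z ^ n).right = 1 := by
    rw [← h]; exact map_pow SemidirectProduct.rightHom z n
  rw [mul_comm, pow_mul,
    show z ^ n = SemidirectProduct.inl (z ^ n).left from SemidirectProduct.ext (by simp) (by simp [hr]),
    ← map_pow, pow_three_W, map_one]

theorem pow_eq_one_of_fpf (z : Z F ι) {g : SL₂} {e : ℤˣ} (hz : (z.right : MulAut _) = phi ι (g, e))
    (hne : ((e : ℤ) : F) * (g : M₂).trace ^ 3 ≠ (g : M₂).trace) {n : ℕ} (h : z.right ^ n = 1) :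
    z ^ n = 1 := by
  have hr : (z ^ n).right = 1 := by
    rw [← h]; exact map_pow SemidirectProduct.rightHom z n
  have hfix : (z.right : MulAut _) (z ^ n).left = (z ^ n).left := by
    have := congrArg SemidirectProduct.left (((Commute.refl z).pow_right n).eq)
    rw [SemidirectProduct.mul_left, SemidirectProduct.mul_left, hr, map_one, MulAut.one_apply,
      mul_comm (z ^ n).left] at this
    exact mul_left_cancel this
  refine SemidirectProduct.ext (Multiplicative.toAdd.injective (funext fun i => ?_)) hr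
  by_contra hi
  apply hne
  refine trace_of_fixed hi ?_
  rw [← phi_apply ι (g, e), ← hz, hfix]

theorem sq_eq_one_or (h2 : (2 : F) ≠ 0) (x : SL₂) (hx : x ^ 2 = 1) : x = 1 ∨ x = -1 := by
  set A : M₂ := (x : M₂)
  have hx' : A * A = 1 := by rw [← Matrix.SpecialLinearGroup.coe_mul, ← sq, hx]; simp
  have h1 : A.trace • A = (2 : F) • (1 : M₂) := by
    rw [cayley_two A x.2] at hx'
    rw [two_smul]; exact sub_eq_iff_eq_add.1 hx'
  have e00 := congrFun (congrFun h1 0) 0
  have e01 := congrFun (congrFun h1 0) 1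
  have e10 := congrFun (congrFun h1 1) 0
  have e11 := congrFun (congrFun h1 1) 1
  simp at e00 e01 e10 e11
  have hs : A.trace ≠ 0 := fun h => h2 (by rw [← e00, h, zero_mul])
  have h01 : A 0 1 = 0 := e01.resolve_left hs
  have h10 : A 1 0 = 0 := e10.resolve_left hs
  have h11 : A 0 0 = A 1 1 := mul_left_cancel₀ hs (e00.trans e11.symm)
  have hd : A 0 0 * A 0 0 = 1 := by
    have := congrFun (congrFun hx' 0) 0
    simpa [Matrix.mul_apply, Fin.sum_univ_two, h01] using this
  rcases mul_self_eq_one_iff.1 hd with hd | hd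
  · left; refine Matrix.SpecialLinearGroup.ext _ _ fun i j => ?_
    show A i j = _
    fin_cases i <;> fin_cases j <;> simp [h01, h10, ← h11, hd]
  · right; refine Matrix.SpecialLinearGroup.ext _ _ fun i j => ?_
    show A i j = _
    fin_cases i <;> fin_cases j <;> simp [h01, h10, ← h11, hd]

theorem phi_sl_neg (h2 : (2 : F) ≠ 0) {x : SL₂} (hx : x ^ 2 = 1) : phi ι (x, (1 : ℤˣ)) = 1 := by
  rcases sq_eq_one_or h2 x hx with rfl | rfl
  · exact map_one _
  · exact phi_neg_one ι

/-- `phi` of an element of even order has half the order. -/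
theorem orderOf_phi [Nonempty ι] (h2 : (2 : F) ≠ 0) {g : SL₂} {a : ℕ} (hg : orderOf g = 2 * a) :
    orderOf (phi ι (g, (1 : ℤˣ))) = a := by
  refine H67.orderOf_eq_of_iff fun n => ?_
  rw [← map_pow, Prod.pow_mk, one_pow]
  constructor
  · intro h
    have h' : ∀ X : M₂, act (g ^ n, 1) X = X := fun X => by
      obtain ⟨i⟩ := ‹Nonempty ι›
      have := congrArg (fun w => (Multiplicative.toAdd w) i)
        (DFunLike.congr_fun h (Multiplicative.ofAdd fun _ => X))
      exact this
    have hsq : g ^ (2 * n) = 1 := by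
      rw [mul_comm, pow_mul]
      refine Subtype.ext ?_
      rw [Matrix.SpecialLinearGroup.coe_pow]
      rcases eq_one_or_neg_one_of_act h2 h' with h1 | h1 <;> simp [h1]
    exact Nat.dvd_of_mul_dvd_mul_left two_pos (hg ▸ orderOf_dvd_of_pow_eq_one hsq)
  · rintro ⟨c, rfl⟩
    refine phi_sl_neg h2 ?_
    rw [← pow_mul, show a * c * 2 = orderOf g * c by rw [hg]; ring, pow_mul, pow_orderOf_eq_one, one_pow]

variable [Fintype F]

theorem card_facts {d : ℕ} (hF : Fintype.card F = 3 ^ (2 * d + 1)) :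
    Fintype.card F % 4 = 3 ∧ Odd (Fintype.card F) := by
  have h : Fintype.card F % 4 = 3 := by rw [hF, pow_add, pow_mul, Nat.mul_mod, Nat.pow_mod]; simp
  exact ⟨h, Nat.odd_iff.2 (by omega)⟩

/-- **Every element order of `Z` divides one of `6`, `9`, `q - 1`, `(q + 1)/2`.** -/
theorem orderOf_dvd {d : ℕ} (hF : Fintype.card F = 3 ^ (2 * d + 1)) (z : Z F ι) :
    orderOf z ∣ 6 ∨ orderOf z ∣ 9 ∨ orderOf z ∣ Fintype.card F - 1 ∨
      orderOf z ∣ (Fintype.card F + 1) / 2 := by
  classical
  obtain ⟨hq4, hodd⟩ := card_facts hF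
  have h2 : (2 : F) ≠ 0 := H67.two_ne_zero_of_odd hodd
  obtain ⟨⟨g, e⟩, hge⟩ := z.right.2
  have hz := hge.symm
  set s := (g : M₂).trace with hs
  have hcay := cayley_two (g : M₂) g.2
  have hpow : ∀ n, z.right ^ n = 1 ↔ phi ι (g ^ n, e ^ n) = 1 := fun n => by
    rw [Subtype.ext_iff, Subgroup.coe_pow, Subgroup.coe_one, hz, ← map_pow]; rfl
  have he2 : ∀ n, Even n → e ^ n = 1 := fun n ⟨k, hk⟩ => by
    rw [hk, pow_add, ← mul_pow, Int.units_mul_self, one_pow]
  by_cases h0 : s = 0
  · left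
    refine orderOf_dvd_of_pow_eq_one (pow_three_of_right z (n := 2) ?_)
    rw [hpow, he2 2 even_two]
    have : g ^ 2 = -1 := Subtype.ext (by
      rw [Matrix.SpecialLinearGroup.coe_pow, sq, hcay, ← hs, h0]; simp)
    rw [this, phi_neg_one]
  by_cases hu : e = 1 ∧ (s = 1 ∨ s = -1)
  · obtain ⟨rfl, hu⟩ := hu
    right; left
    refine orderOf_dvd_of_pow_eq_one (pow_three_of_right z (n := 3) ?_)
    rw [hpow, one_pow]
    refine phi_sl_neg h2 (Subtype.ext ?_)
    simp only [Matrix.SpecialLinearGroup.coe_pow, Matrix.SpecialLinearGroup.coe_one]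
    have h3 : (g : M₂) ^ 3 = (-s) • (1 : M₂) := by
      rw [pow_succ, sq, hcay, ← hs, sub_mul, smul_mul_assoc, hcay, ← hs, one_mul, smul_sub, smul_smul]
      rcases hu with hu | hu <;> rw [hu] <;> module
    rw [h3, smul_pow, one_pow]
    rcases hu with hu | hu <;> rw [hu] <;> simp
  have hne : ((e : ℤ) : F) * s ^ 3 ≠ s := by
    intro h
    rcases Int.units_eq_one_or e with rfl | rfl
    · apply hu ⟨rfl, ?_⟩
      have : s * ((s - 1) * (s + 1)) = 0 := by simp at h; linear_combination h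
      rcases mul_eq_zero.1 ((mul_eq_zero.1 this).resolve_left h0) with h1 | h1
      · exact Or.inl (sub_eq_zero.1 h1)
      · exact Or.inr (eq_neg_of_add_eq_zero_left h1)
    · have : s * (s * s + 1) = 0 := by simp at h; linear_combination -h
      have h1 : IsSquare (-1 : F) :=
        ⟨s, (eq_neg_of_add_eq_zero_left ((mul_eq_zero.1 this).resolve_left h0)).symm⟩
      exact FiniteField.isSquare_neg_one_iff.1 h1 hq4
  have key : ∀ n, Even n → (g ^ n) ^ 2 = 1 → orderOf z ∣ n := fun n hn h =>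
    orderOf_dvd_of_pow_eq_one (pow_eq_one_of_fpf z hz hne (by rw [hpow, he2 n hn, phi_sl_neg h2 h]))
  rcases H67.pow_card_cases hodd (g : M₂) with h1 | h1 | h1
  · right; right; left
    have h3 : g ^ Fintype.card F = g := Subtype.ext (by rw [Matrix.SpecialLinearGroup.coe_pow, h1])
    rw [← Nat.sub_add_cancel (Fintype.card_pos : 1 ≤ Fintype.card F), pow_succ, mul_eq_right] at h3
    exact key _ ⟨(Fintype.card F - 1) / 2, by omega⟩ (by rw [h3, one_pow])
  · right; right; right
    refine key _ ⟨(Fintype.card F + 1) / 4, by omega⟩ ?_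
    rw [← pow_mul, show (Fintype.card F + 1) / 2 * 2 = Fintype.card F + 1 by omega]
    refine Subtype.ext ?_
    rw [Matrix.SpecialLinearGroup.coe_pow, pow_succ', h1, H67.mul_trace_sub, g.2, one_smul]; rfl
  · left
    refine key 6 ⟨3, rfl⟩ ?_
    rw [ringChar.eq F 3] at h1
    have hc : ((s / 2) ^ 3) * ((s / 2) ^ 3) = 1 := by
      have h3 := (g ^ 3).2
      rw [Matrix.SpecialLinearGroup.coe_pow, h1, Matrix.det_smul, Matrix.det_one, mul_one, Fintype.card_fin, sq] at h3
      exact h3
    refine Subtype.ext ?_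
    rw [← pow_mul, show (6 : ℕ) * 2 = 3 * 4 from rfl, pow_mul]
    simp only [Matrix.SpecialLinearGroup.coe_pow, Matrix.SpecialLinearGroup.coe_one, h1, smul_pow, one_pow]
    rw [show ((s / 2) ^ 3) ^ 4 = ((s / 2) ^ 3 * (s / 2) ^ 3) * ((s / 2) ^ 3 * (s / 2) ^ 3) by ring,
      hc, mul_one, one_smul]

/-- the diagonal torus -/
def diagHom : Fˣ →* SL₂ where
  toFun t := ⟨!![(t : F), 0; 0, ((t⁻¹ : Fˣ) : F)], by simp [det_fin_two]⟩
  map_one' := by
    refine Subtype.ext ?_
    ext i j; fin_cases i <;> fin_cases j <;> simp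
  map_mul' t t' := by
    refine Subtype.ext ?_
    show (!![((t * t' : Fˣ) : F), 0; 0, (((t * t')⁻¹ : Fˣ) : F)] : M₂) =
      !![(t : F), 0; 0, ((t⁻¹ : Fˣ) : F)] * !![(t' : F), 0; 0, ((t'⁻¹ : Fˣ) : F)]
    ext i j; fin_cases i <;> fin_cases j <;> simp [Matrix.mul_apply, Fin.sum_univ_two, mul_comm]

theorem exists_SL_orders (hodd : Odd (Fintype.card F)) :
    (∃ g : SL₂, orderOf g = Fintype.card F - 1) ∧ ∃ g : SL₂, orderOf g = Fintype.card F + 1 := by
  classical
  set q := Fintype.card F with hq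
  constructor
  · obtain ⟨t, ht⟩ := IsCyclic.exists_ofOrder_eq_natCard (α := Fˣ)
    refine ⟨diagHom t, ?_⟩
    rw [orderOf_injective diagHom (fun x y h => Units.ext ?_), ht, Nat.card_units, Nat.card_eq_fintype_card]
    exact congrArg (fun g : SL₂ => (g : M₂) 0 0) h
  · obtain ⟨D, a, b, g, -, -, hord⟩ := H67.exists_singer hodd
    have hdet : (g ^ (q - 1)).val.det = 1 := by
      rw [Units.val_pow_eq_pow_val, det_pow]
      exact FiniteField.pow_card_sub_one_eq_one _ (g.isUnit.map Matrix.detMonoidHom).ne_zero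
    let x : SL₂ := ⟨_, hdet⟩
    refine ⟨x, ?_⟩
    rw [← orderOf_injective Matrix.SpecialLinearGroup.toGL Matrix.SpecialLinearGroup.toGL_injective,
      show Matrix.SpecialLinearGroup.toGL x = g ^ (q - 1) from Units.ext rfl,
      orderOf_pow' g (by have := Fintype.one_lt_card (α := F); omega), hord]
    have hq1 : 1 < q := Fintype.one_lt_card
    rw [show q ^ 2 - 1 = (q + 1) * (q - 1) by rw [← Nat.sq_sub_sq, one_pow], Nat.gcd_mul_left_left,
      Nat.mul_div_cancel _ (by omega)]

/-- **Every divisor of `6`, `9`, `q - 1`, `(q + 1)/2` is an element order of `Z`.** -/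
theorem exists_orderOf [Finite ι] [Nonempty ι] {d : ℕ} (hF : Fintype.card F = 3 ^ (2 * d + 1)) (n : ℕ)
    (hn : n ∣ 6 ∨ n ∣ 9 ∨ n ∣ Fintype.card F - 1 ∨ n ∣ (Fintype.card F + 1) / 2) :
    ∃ z : Z F ι, orderOf z = n := by
  classical
  obtain ⟨hq4, hodd⟩ := card_facts hF
  have h2 : (2 : F) ≠ 0 := H67.two_ne_zero_of_odd hodd
  have h3 : (3 : F) = 0 := by exact_mod_cast CharP.cast_eq_zero F 3
  set q := Fintype.card F
  suffices H : ∀ N ∈ ({6, 9, q - 1, (q + 1) / 2} : Set ℕ), ∃ z : Z F ι, orderOf z = N by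
    obtain ⟨N, hN, hnN⟩ : ∃ N ∈ ({6, 9, q - 1, (q + 1) / 2} : Set ℕ), n ∣ N := by
      rcases hn with h | h | h | h
      exacts [⟨_, by simp, h⟩, ⟨_, by simp, h⟩, ⟨_, by simp, h⟩, ⟨_, by simp, h⟩]
    obtain ⟨z, hz⟩ := H N hN
    have hN0 : N ≠ 0 := by
      rcases hN with rfl | rfl | rfl | rfl <;> omega
    exact ⟨z ^ (orderOf z / n), orderOf_pow_orderOf_div (by rw [hz]; exact hN0) (by rw [hz]; exact hnN)⟩
  have lift : ∀ p : SL₂ × ℤˣ, ∃ z : Z F ι, orderOf z = orderOf (phi ι p) := fun p =>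
    ⟨SemidirectProduct.inr ⟨phi ι p, p, rfl⟩, by
      rw [orderOf_injective _ SemidirectProduct.inr_injective]
      exact (orderOf_injective _ (Subgroup.subtype_injective _) _).symm⟩
  have hneg : orderOf (phi ι ((1 : SL₂), (-1 : ℤˣ))) = 2 := by
    refine orderOf_eq_prime ?_ fun h => ?_
    · rw [← map_pow, Prod.pow_mk, one_pow, Int.units_sq, ← Prod.one_eq_mk, map_one]
    · obtain ⟨i⟩ := ‹Nonempty ι›
      have h' := congrArg (fun w => (Multiplicative.toAdd w) i 0 0)
        (DFunLike.congr_fun h (Multiplicative.ofAdd fun _ => (1 : M₂)))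
      change act ((1 : SL₂), (-1 : ℤˣ)) 1 0 0 = (1 : M₂) 0 0 at h'
      simp [act, tau_one] at h'
      exact h2 (by linear_combination -h')
  have dbl : ∀ {g : SL₂} {a : ℕ}, orderOf (phi ι (g, (1 : ℤˣ))) = a → Odd a →
      ∃ z : Z F ι, orderOf z = 2 * a := by
    intro g a ha hoa
    obtain ⟨z, hz⟩ := lift (((1 : SL₂), (-1 : ℤˣ)) * (g, 1))
    refine ⟨z, ?_⟩
    rw [hz, map_mul, Commute.orderOf_mul_eq_mul_orderOf_of_coprime, hneg, ha]
    · exact (Commute.prod (Commute.one_left g) (Commute.one_right (-1 : ℤˣ))).map _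
    · rw [hneg, ha]; exact Nat.coprime_two_left.2 hoa
  let U : SL₂ := ⟨!![1, 1; 0, 1], by simp [det_fin_two]⟩
  have hUt : ∀ X : M₂, act (U, 1) X = !![1, 1; 0, 1] * X * !![1, 0; 1, 1] := fun X => by
    have ht : tau U = !![1, 0; 1, 1] := by
      ext i j
      show frobenius F 3 ((!![1, 1; 0, 1] : M₂) j i) = _
      fin_cases i <;> fin_cases j <;> simp
    show ((1 : ℤˣ) : ℤ) • ((!![1, 1; 0, 1] : M₂) * X * tau U) = _
    rw [ht, Units.val_one, one_smul]
  have hU : orderOf (phi ι (U, (1 : ℤˣ))) = 3 := by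
    refine orderOf_eq_prime ?_ fun h => ?_
    · rw [← map_pow, Prod.pow_mk, one_pow, show U ^ 3 = 1 from Subtype.ext (by
        show (!![1, 1; 0, 1] : M₂) ^ 3 = (1 : M₂)
        ext i j; fin_cases i <;> fin_cases j <;>
          simp [pow_succ, Matrix.mul_apply, Fin.sum_univ_two] <;> linear_combination h3),
        ← Prod.one_eq_mk, map_one]
    · obtain ⟨i⟩ := ‹Nonempty ι›
      have := congrArg (fun w => (Multiplicative.toAdd w) i 0 0)
        (DFunLike.congr_fun h (Multiplicative.ofAdd fun _ => (!![0, 0; 0, 1] : M₂)))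
      change act (U, (1 : ℤˣ)) !![0, 0; 0, 1] 0 0 = (!![0, 0; 0, 1] : M₂) 0 0 at this
      rw [hUt] at this
      simp [Matrix.mul_apply, Fin.sum_univ_two] at this
  intro N hN
  rcases hN with rfl | rfl | rfl | rfl
  · exact dbl hU (by decide)
  · let w : W F ι := Multiplicative.ofAdd fun _ => !![0, 0; 0, 1]
    let m : ↥(phi (F := F) ι).range := ⟨phi ι (U, 1), _, rfl⟩
    refine ⟨⟨w, m⟩, ?_⟩
    have hm : m ^ 3 = 1 := Subtype.ext (by rw [Subgroup.coe_pow]; exact hU ▸ pow_orderOf_eq_one _)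
    haveI : Fact (Nat.Prime 3) := ⟨Nat.prime_three⟩
    refine orderOf_eq_prime_pow (p := 3) (n := 1) ?_ (pow_three_of_right _ hm)
    intro h
    obtain ⟨i⟩ := ‹Nonempty ι›
    have := congrArg (fun z : Z F ι => (Multiplicative.toAdd z.left) i 0 0) h
    simp [pow_succ, m, w, phi_apply, hUt, Matrix.mul_apply, Fin.sum_univ_two] at this
    exact h2 (by linear_combination this - h3)
  · obtain ⟨g, hg⟩ := (exists_SL_orders hodd).1
    obtain ⟨z, hz⟩ := dbl (orderOf_phi (ι := ι) h2 (a := (q - 1) / 2) (g := g) (by rw [hg]; omega))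
      (Nat.odd_iff.2 (by omega))
    exact ⟨z, by omega⟩
  · obtain ⟨g, hg⟩ := (exists_SL_orders hodd).2
    obtain ⟨z, hz⟩ := lift (g, 1)
    exact ⟨z, by rw [hz, orderOf_phi (ι := ι) h2 (a := (q + 1) / 2) (by rw [hg]; omega)]⟩

end Act

end Cfsg.Agent.H48.ReeCube
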