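import Cfsg.Agent.H99.Subfield
import Cfsg.Agent.H54.RegularClasses
import Cfsg.Agent.Linear.Elusive.Criterion
import Cfsg.Agent.Linear.Order

/-!
Elements of odd prime order `r ≠ p` of `SL_n(q)` and subfield subgroups.
-/

set_option autoImplicit false

namespace Cfsg.Agent.H48.SubfieldPrime

open Polynomial Cfsg.Agent.H99
open scoped MatrixGroups

theorem pow_prime_pow {L : Type*} [Field L] (p : ℕ) [Fact p.Prime] [CharP L p] {Q s : ℕ} (hQ : Q = p ^ s) :
    ∃ τ : L →+* L, ∀ x, τ x = x ^ Q :=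
  ⟨iterateFrobenius L p s, fun x => by rw [iterateFrobenius_def, hQ]⟩

theorem charpoly_smul_eval {K : Type*} [Field K] {ι : Type*} [Fintype ι] [DecidableEq ι] (M : Matrix ι ι K) {a : K}
    (ha : a ≠ 0) (μ : K) : (a • M).charpoly.eval μ = a ^ Fintype.card ι * M.charpoly.eval (μ / a) := by
  rw [Matrix.eval_charpoly, Matrix.eval_charpoly, ← Matrix.det_smul]
  congr 1
  rw [smul_sub, Matrix.scalar_apply, Matrix.scalar_apply, ← Matrix.diagonal_smul]
  congr 2
  funext i
  simp [mul_div_cancel₀ _ ha]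

theorem roots_smul {K : Type*} [Field K] [IsAlgClosed K] {n : ℕ} (M : Matrix (Fin n) (Fin n) K) {a : K} (ha : a ≠ 0) :
    (a • M).charpoly.roots = M.charpoly.roots.map (a * ·) := by
  have hsp : M.charpoly.Splits := IsAlgClosed.splits _
  have hcard : M.charpoly.roots.card = n := by
    rw [← hsp.natDegree_eq_card_roots, M.charpoly_natDegree_eq_dim, Fintype.card_fin]
  suffices (a • M).charpoly = ((M.charpoly.roots.map (a * ·)).map fun t => X - C t).prod by
    rw [this, roots_multiset_prod_X_sub_C]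
  refine Polynomial.funext fun μ => ?_
  rw [charpoly_smul_eval M ha]
  conv_lhs => rw [hsp.eq_prod_roots_of_monic M.charpoly_monic]
  rw [eval_multiset_prod, eval_multiset_prod, Multiset.map_map, Multiset.map_map, Multiset.map_map, Fintype.card_fin]
  nth_rewrite 1 [← hcard]
  rw [← Multiset.prod_replicate, ← Multiset.map_const', ← Multiset.prod_map_mul]
  refine congrArg Multiset.prod (Multiset.map_congr rfl fun t _ => ?_)
  simp only [Function.comp_apply, eval_sub, eval_X, eval_C]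
  field_simp

variable {F : Type*} [Field F] {n : ℕ}

/-- The eigenvalues of a root of a scalar. -/
theorem root_pow {K : Type*} [Field K] [Algebra F K] (A : Matrix (Fin n) (Fin n) F) {r : ℕ} {z : F}
    (hA : A ^ r = z • 1) {t : K} (ht : t ∈ (A.charpoly.map (algebraMap F K)).roots) : t ^ r = algebraMap F K z := by
  obtain ⟨-, ht⟩ := mem_roots'.1 ht
  rw [IsRoot.def, ← Matrix.charpoly_map, Matrix.eval_charpoly] at ht
  obtain ⟨v, hv0, hv⟩ := Matrix.exists_mulVec_eq_zero_iff.2 ht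
  set B := A.map (algebraMap F K) with hB
  have hev : B.mulVec v = t • v := by
    rw [Matrix.sub_mulVec, sub_eq_zero] at hv
    rw [← hv]
    funext i; simp [Matrix.scalar_apply, Matrix.mulVec_diagonal]
  have hpow : ∀ j : ℕ, (B ^ j).mulVec v = t ^ j • v := by
    intro j
    induction j with
    | zero => simp
    | succ j ih => rw [pow_succ, ← Matrix.mulVec_mulVec, hev, Matrix.mulVec_smul, ih, smul_smul, pow_succ, mul_comm]
  have h1 := hpow r
  rw [hB, show (A.map (algebraMap F K)) ^ r = (algebraMap F K).mapMatrix (A ^ r) from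
    (map_pow (algebraMap F K).mapMatrix A r).symm, hA] at h1
  have h2 : ((algebraMap F K).mapMatrix (z • (1 : Matrix (Fin n) (Fin n) F))).mulVec v = algebraMap F K z • v := by
    rw [RingHom.mapMatrix_apply, Matrix.map_smul' _ _ _ (map_mul _), Matrix.map_one _ (map_zero _) (map_one _),
      Matrix.smul_mulVec, Matrix.one_mulVec]
  obtain ⟨i, hi⟩ := Function.ne_iff.1 hv0
  have h3 := congrFun (h1.symm.trans h2) i
  exact mul_right_cancel₀ hi h3

theorem exists_fn_of_multiset {α : Type*} (M : Multiset α) (hM : M.card = n) :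
    ∃ g : Fin n → α, (Finset.univ : Finset (Fin n)).val.map g = M := by
  subst hM
  refine ⟨fun i => M.toList.get (Fin.cast (Multiset.length_toList M).symm i), ?_⟩
  have h : (List.finRange M.card).map (fun i => M.toList.get (Fin.cast (Multiset.length_toList M).symm i)) = M.toList := by
    apply List.ext_getElem <;> simp
  conv_rhs => rw [← M.coe_toList, ← h]
  rfl

variable [Fintype F] {p : ℕ} [Fact p.Prime] [CharP F p] (F₀ : Subfield F) {q₀ k : ℕ}

include p in
theorem exists_pow_eq (hF₀ : Nat.card F₀ = q₀) : ∃ s : ℕ, q₀ = p ^ s := by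
  haveI : Fintype F₀ := Fintype.ofFinite _
  haveI : CharP F₀ p := (F₀.subtype.charP_iff_charP p).2 inferInstance
  obtain ⟨s, -, hs⟩ := FiniteField.card F₀ p
  exact ⟨s, by rw [← hF₀, Nat.card_eq_fintype_card, hs]⟩

theorem mem_iff_pow (hF₀ : Nat.card F₀ = q₀) (a : F) : a ∈ F₀ ↔ a ^ q₀ = a := by
  classical
  haveI : Fintype F₀ := Fintype.ofFinite _
  rw [Nat.card_eq_fintype_card] at hF₀
  have h1 : ∀ x : F, x ∈ F₀ → x ^ q₀ = x := fun x hx => by
    have := congrArg Subtype.val (FiniteField.pow_card (⟨x, hx⟩ : F₀))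
    rwa [hF₀] at this
  refine ⟨h1 a, fun ha => ?_⟩
  have hq1 : 1 < q₀ := hF₀ ▸ Fintype.one_lt_card
  have hne : (X ^ q₀ - X : F[X]) ≠ 0 := FiniteField.X_pow_card_sub_X_ne_zero F hq1
  set S : Finset F := (Finset.univ : Finset F₀).map ⟨Subtype.val, Subtype.val_injective⟩
  have hsub : S ⊆ (X ^ q₀ - X : F[X]).roots.toFinset := fun x hx => by
    obtain ⟨⟨y, hy⟩, -, rfl⟩ := Finset.mem_map.1 hx
    rw [Multiset.mem_toFinset, mem_roots hne]
    simp [h1 y hy]
  have heq : S = (X ^ q₀ - X : F[X]).roots.toFinset := Finset.eq_of_subset_of_card_le hsub (by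
    refine (Multiset.toFinset_card_le _).trans ((card_roots' _).trans ?_)
    rw [FiniteField.X_pow_card_sub_X_natDegree_eq F hq1, Finset.card_map, Finset.card_univ, hF₀])
  have hm : a ∈ S := by
    rw [heq, Multiset.mem_toFinset, mem_roots hne]
    simp [ha]
  obtain ⟨⟨y, hy⟩, -, rfl⟩ := Finset.mem_map.1 hm
  exact hy

/-- A monic polynomial whose roots are permuted by `t ↦ t^q₀` is defined over the subfield. -/
theorem exists_lift {K : Type*} [Field K] [IsAlgClosed K] [Algebra F K] [CharP K p] (hF₀ : Nat.card F₀ = q₀)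
    {P : F[X]} (hP : P.Monic)
    (h : (P.map (algebraMap F K)).roots.map (· ^ q₀) = (P.map (algebraMap F K)).roots) :
    ∃ P₀ : F₀[X], P₀.Monic ∧ P₀.map F₀.subtype = P := by
  obtain ⟨s, hs⟩ := exists_pow_eq (p := p) F₀ hF₀
  obtain ⟨τ, hτ⟩ := pow_prime_pow (L := K) p hs
  have hfix : (P.map (algebraMap F K)).map τ = P.map (algebraMap F K) := by
    have hsp : (P.map (algebraMap F K)).Splits := IsAlgClosed.splits _
    rw [(IsAlgClosed.splits _).eq_prod_roots_of_monic ((hP.map _).map τ), hsp.roots_map,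
      show (τ : K → K) = (· ^ q₀) from funext hτ, h, ← hsp.eq_prod_roots_of_monic (hP.map _)]
  have hl : P ∈ lifts F₀.subtype := by
    refine (lifts_iff_coeff_lifts P).2 fun i => ⟨⟨P.coeff i, (mem_iff_pow F₀ hF₀ _).2 ?_⟩, rfl⟩
    have h1 := congrArg (fun f => coeff f i) hfix
    rw [coeff_map, coeff_map, hτ, ← map_pow] at h1
    exact (algebraMap F K).injective h1
  obtain ⟨P₀, h0, -, hm⟩ := lifts_and_natDegree_eq_and_monic hl hP
  exact ⟨P₀, hm, h0⟩

/-- Sufficient condition. -/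
theorem conj_into_of_roots [NeZero n] (hF₀ : Nat.card F₀ = q₀) {r : ℕ} (hr : r.Prime) (hrp : r ≠ p)
    (x : Matrix.SpecialLinearGroup (Fin n) F) {c : F} (hc : c ≠ 0)
    (hx : (c⁻¹ • (x : Matrix (Fin n) (Fin n) F)) ^ r = 1)
    (h : ((c⁻¹ • (x : Matrix (Fin n) (Fin n) F)).charpoly.map (algebraMap F (AlgebraicClosure F))).roots.map (· ^ q₀) =
      ((c⁻¹ • (x : Matrix (Fin n) (Fin n) F)).charpoly.map (algebraMap F (AlgebraicClosure F))).roots) :
    ∃ Q : Matrix.SpecialLinearGroup (Fin n) F, Q⁻¹ * x * Q ∈ slSubfield n F₀ := by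
  classical
  haveI : CharP (AlgebraicClosure F) p := (algebraMap F (AlgebraicClosure F)).charP_iff_charP p |>.1 inferInstance
  set y := c⁻¹ • (x : Matrix (Fin n) (Fin n) F) with hy
  obtain ⟨P₀, hm, hP⟩ := exists_lift (p := p) F₀ hF₀ y.charpoly_monic h
  haveI : CharP F₀ p := (F₀.subtype.charP_iff_charP p).2 inferInstance
  have hdeg : P₀.natDegree = n := by
    rw [← natDegree_map_eq_of_injective F₀.subtype.injective P₀, hP, y.charpoly_natDegree_eq_dim, Fintype.card_fin]
  have hyd : y.det ≠ 0 := fun h0 => by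
    have := congrArg Matrix.det hx
    rw [Matrix.det_pow, h0, zero_pow hr.ne_zero, Matrix.det_one] at this
    exact zero_ne_one this
  have h0 : P₀.coeff 0 ≠ 0 := by
    intro h0
    apply hyd
    rw [Matrix.det_eq_sign_charpoly_coeff, ← hP, coeff_map, h0, map_zero, mul_zero]
  obtain ⟨s₀, hs₀, hsP⟩ := Cfsg.Agent.H54.exists_regular_charpoly (F := F₀) p hm hdeg h0
  let g : GL (Fin n) F := Matrix.GeneralLinearGroup.mkOfDetNeZero y hyd
  have hg : (orderOf g).Coprime p := by
    refine Nat.Coprime.coprime_dvd_left (orderOf_dvd_of_pow_eq_one (n := r) (Units.ext ?_))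
      ((Nat.coprime_primes hr Fact.out).2 hrp)
    rw [Units.val_pow_eq_pow_val]; exact hx
  let hG : GL (Fin n) F := Matrix.GeneralLinearGroup.map F₀.subtype s₀
  have hh : (orderOf hG).Coprime p := Nat.Coprime.coprime_dvd_left (orderOf_map_dvd _ _) hs₀
  obtain ⟨C, hC, hCd⟩ := Cfsg.Agent.H54.exists_conj_det p hg hh (by
    show y.charpoly = ((s₀ : Matrix (Fin n) (Fin n) F₀).map F₀.subtype).charpoly
    rw [Matrix.charpoly_map, hsP, hP]) 1
  have hCd1 : ((C⁻¹ : GL (Fin n) F) : Matrix (Fin n) (Fin n) F).det = 1 := by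
    rw [Matrix.coe_units_inv, Matrix.det_nonsing_inv, hCd (Nat.pos_of_ne_zero (NeZero.ne n))]
    simp
  refine conj_into F₀ x _ hCd1 c (s₀ : Matrix (Fin n) (Fin n) F₀) ?_
  have h2 : g * C⁻¹ = C⁻¹ * hG := by rw [eq_inv_mul_iff_mul_eq, ← mul_assoc, hC, mul_inv_cancel_right]
  have h3 : y * ((C⁻¹ : GL (Fin n) F) : Matrix (Fin n) (Fin n) F) =
      ((C⁻¹ : GL (Fin n) F) : Matrix (Fin n) (Fin n) F) * (s₀ : Matrix (Fin n) (Fin n) F₀).map F₀.subtype :=
    congrArg Units.val h2
  rw [Matrix.mul_smul, ← h3, hy, Matrix.smul_mul, smul_smul, mul_inv_cancel₀ hc, one_smul]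

/-- Necessary condition. -/
theorem charpoly_of_conj [NeZero n] (x Q : Matrix.SpecialLinearGroup (Fin n) F) (h : Q⁻¹ * x * Q ∈ slSubfield n F₀) :
    ∃ (c : F) (P₀ : F₀[X]), c ≠ 0 ∧ (c⁻¹ • (x : Matrix (Fin n) (Fin n) F)).charpoly = P₀.map F₀.subtype := by
  classical
  obtain ⟨c, A₀, hc, hxQ⟩ := exists_of_conj_mem F₀ x Q h
  refine ⟨c, A₀.charpoly, hc, ?_⟩
  let U : GL (Fin n) F := Matrix.SpecialLinearGroup.toGL Q
  have hU : (U : Matrix (Fin n) (Fin n) F) = Q := rfl
  have h1 : (U : Matrix (Fin n) (Fin n) F) * A₀.map F₀.subtype * ((U⁻¹ : GL (Fin n) F) : Matrix (Fin n) (Fin n) F) =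
      c⁻¹ • (x : Matrix (Fin n) (Fin n) F) := by
    rw [Units.mul_inv_eq_iff_eq_mul, hU, Matrix.smul_mul, hxQ, Matrix.mul_smul, smul_smul, inv_mul_cancel₀ hc, one_smul]
  rw [← h1, Matrix.charpoly_mul_comm, ← mul_assoc, Units.inv_mul, one_mul, Matrix.charpoly_map]

include p in
/-- Diagonal witnesses. -/
theorem diag_invariant [NeZero n] (hF₀ : Nat.card F₀ = q₀) {r : ℕ} (M : Multiset F) (hM : M.card = n)
    (hprod : M.prod = 1) (z : F) (hz : ∀ v ∈ M, v ^ r = z) (hne : ∃ v ∈ M, ∃ w ∈ M, v ≠ w)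
    (hall : ∀ x : Matrix.SpecialLinearGroup (Fin n) F,
      (∃ z : F, ((x ^ r : Matrix.SpecialLinearGroup (Fin n) F) : Matrix (Fin n) (Fin n) F) = z • (1 : Matrix (Fin n) (Fin n) F)) →
      (∀ z : F, (x : Matrix (Fin n) (Fin n) F) ≠ z • (1 : Matrix (Fin n) (Fin n) F)) →
      ∃ P : Matrix.SpecialLinearGroup (Fin n) F, P⁻¹ * x * P ∈ slSubfield n F₀) :
    ∃ γ : F, γ ≠ 0 ∧ M.map (· ^ q₀) = M.map (γ * ·) := by
  classical
  obtain ⟨s, hs⟩ := exists_pow_eq (p := p) F₀ hF₀
  obtain ⟨τ, hτ⟩ := pow_prime_pow (L := F) p hs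
  obtain ⟨g, hg⟩ := exists_fn_of_multiset M hM
  have hmem : ∀ i, g i ∈ M := fun i => hg ▸ Multiset.mem_map_of_mem g (Finset.mem_univ_val i)
  let x : Matrix.SpecialLinearGroup (Fin n) F := ⟨Matrix.diagonal g, by
    rw [Matrix.det_diagonal]; show ((Finset.univ : Finset (Fin n)).val.map g).prod = 1; rw [hg, hprod]⟩
  obtain ⟨Q, hQ⟩ := hall x ⟨z, by
      rw [Matrix.SpecialLinearGroup.coe_pow]
      show Matrix.diagonal g ^ r = _
      rw [Matrix.diagonal_pow, Matrix.smul_one_eq_diagonal]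
      congr 1; funext i; exact hz _ (hmem i)⟩ (fun w hw => by
      obtain ⟨v, hv, v', hv', hvv⟩ := hne
      apply hvv
      rw [← hg] at hv hv'
      obtain ⟨i, -, rfl⟩ := Multiset.mem_map.1 hv
      obtain ⟨j, -, rfl⟩ := Multiset.mem_map.1 hv'
      have h1 := congrFun (congrFun hw i) i
      have h2 := congrFun (congrFun hw j) j
      simp [x] at h1 h2
      rw [h1, h2])
  obtain ⟨c, P₀, hc, hP⟩ := charpoly_of_conj F₀ x Q hQ
  have hd : c⁻¹ • (x : Matrix (Fin n) (Fin n) F) = Matrix.diagonal (fun i => c⁻¹ * g i) := by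
    show c⁻¹ • Matrix.diagonal g = _
    rw [← Matrix.diagonal_smul]; rfl
  rw [hd, Matrix.charpoly_diagonal] at hP
  have hfix : (∏ i, (X - C (c⁻¹ * g i))).map τ = ∏ i, (X - C (c⁻¹ * g i)) := by
    rw [hP, Polynomial.map_map]
    congr 1
    refine RingHom.ext fun a => ?_
    rw [RingHom.comp_apply, hτ]
    exact (mem_iff_pow F₀ hF₀ _).1 a.2
  rw [Polynomial.map_prod] at hfix
  simp only [Polynomial.map_sub, map_X, map_C] at hfix
  have h2 := congrArg roots hfix
  rw [Finset.prod_eq_multiset_prod, Finset.prod_eq_multiset_prod] at h2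
  have e : ∀ f : Fin n → F, ((Finset.univ : Finset (Fin n)).val.map fun i => X - C (f i)) =
      (((Finset.univ : Finset (Fin n)).val.map f).map fun t => X - C t) := fun f => (Multiset.map_map (fun t => X - C t) f _).symm
  rw [e, e, roots_multiset_prod_X_sub_C, roots_multiset_prod_X_sub_C] at h2
  refine ⟨c ^ q₀ / c, div_ne_zero (pow_ne_zero _ hc) hc, ?_⟩
  have h3 := congrArg (Multiset.map (c ^ q₀ * ·)) h2
  rw [Multiset.map_map, Multiset.map_map] at h3
  rw [← hg, Multiset.map_map, Multiset.map_map]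
  refine Eq.trans (Multiset.map_congr rfl fun i _ => ?_) (h3.trans (Multiset.map_congr rfl fun i _ => ?_))
  · simp only [Function.comp_apply, hτ, mul_pow, inv_pow]
    rw [← mul_assoc, mul_inv_cancel₀ (pow_ne_zero _ hc), one_mul]
  · simp only [Function.comp_apply, div_eq_mul_inv, mul_assoc]

include p in
theorem image_of_count [DecidableEq F] (hF₀ : Nat.card F₀ = q₀) {M : Multiset F} {γ : F} (hγ : γ ≠ 0)
    (h : M.map (· ^ q₀) = M.map (γ * ·)) {a : F} (ha : a ∈ M) (huniq : ∀ v ∈ M, M.count v = M.count a → v = a) :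
    a ^ q₀ = γ * a := by
  obtain ⟨s, hs⟩ := exists_pow_eq (p := p) F₀ hF₀
  obtain ⟨τ, hτ⟩ := pow_prime_pow (L := F) p hs
  have hinj : Function.Injective fun t : F => t ^ q₀ := fun u v huv => τ.injective (by simpa [hτ] using huv)
  have h1 : a ^ q₀ ∈ M.map (γ * ·) := h ▸ Multiset.mem_map_of_mem (fun t : F => t ^ q₀) ha
  obtain ⟨v, hv, hva⟩ := Multiset.mem_map.1 h1
  have h2 : M.count v = M.count a := by
    rw [← Multiset.count_map_eq_count' (fun t : F => γ * t) M (mul_right_injective₀ hγ) v,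
      ← Multiset.count_map_eq_count' (fun t : F => t ^ q₀) M hinj a, ← hva, h]
  rw [← hva, huniq v hv h2]

end Cfsg.Agent.H48.SubfieldPrime
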