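import Cfsg.Agent.H48.SubfieldPrime

/-!
The cases for elements of odd prime order and subfield subgroups of `SL_n(q)`.
-/

set_option autoImplicit false
set_option linter.style.haveILetI false

namespace Cfsg.Agent.H48.SubfieldPrime

open Polynomial Cfsg.Agent.H99
open scoped MatrixGroups

theorem five : ∀ a b c d : Fin 6, (a : ℕ) + b + c + d ≤ 5 →
    ((b : ℕ) + 2 * c + 3 * d + 4 * (5 - (a + b + c + d))) % 5 = 0 →
    ∃ m : Fin 5, ∀ j : Fin 5, (![(a : ℕ), b, c, d, 5 - (a + b + c + d)]) j =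
      (![(a : ℕ), b, c, d, 5 - (a + b + c + d)]) (2 * m - j) := by
  decide +kernel

theorem three : ∀ a b : Fin 4, (a : ℕ) + b ≤ 3 → ((b : ℕ) + 2 * (3 - (a + b))) % 3 = 0 →
    ∃ m : Fin 3, ∀ j : Fin 3, (![(a : ℕ), b, 3 - (a + b)]) j = (![(a : ℕ), b, 3 - (a + b)]) (2 * m - j) := by
  decide +kernel

theorem sym_three (f : Fin 3 → ℕ) (h : f 0 + f 1 + f 2 = 3) (h2 : 3 ∣ f 1 + 2 * f 2) :
    ∃ m : Fin 3, ∀ j, f j = f (2 * m - j) := by
  obtain ⟨m, hm⟩ := three ⟨f 0, by omega⟩ ⟨f 1, by omega⟩ (by simp only; omega) (by simp only; omega)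
  refine ⟨m, fun j => ?_⟩
  have hv : ∀ i : Fin 3, (![f 0, f 1, 3 - (f 0 + f 1)]) i = f i := by
    intro i; fin_cases i <;> simp <;> omega
  exact (hv j).symm.trans ((hm j).trans (hv _))

theorem sym_five (f : Fin 5 → ℕ) (h : f 0 + f 1 + f 2 + f 3 + f 4 = 5)
    (h2 : 5 ∣ f 1 + 2 * f 2 + 3 * f 3 + 4 * f 4) : ∃ m : Fin 5, ∀ j, f j = f (2 * m - j) := by
  obtain ⟨m, hm⟩ := five ⟨f 0, by omega⟩ ⟨f 1, by omega⟩ ⟨f 2, by omega⟩ ⟨f 3, by omega⟩ (by simp only; omega)
    (by simp only; omega)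
  refine ⟨m, fun j => ?_⟩
  have hv : ∀ i : Fin 5, (![f 0, f 1, f 2, f 3, 5 - (f 0 + f 1 + f 2 + f 3)]) i = f i := by
    intro i; fin_cases i <;> simp <;> omega
  exact (hv j).symm.trans ((hm j).trans (hv _))

theorem sum_zmod_three {M : Type*} [AddCommMonoid M] [Fintype (ZMod 3)] (f : ZMod 3 → M) :
    ∑ j, f j = f 0 + f 1 + f 2 := by
  rw [show (Finset.univ : Finset (ZMod 3)) = {0, 1, 2} from Finset.ext fun x => by simp; exact (by decide : ∀ x : Fin 3, x = 0 ∨ x = 1 ∨ x = 2) x,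
    Finset.sum_insert (by decide), Finset.sum_insert (by decide), Finset.sum_singleton, add_assoc]

theorem sum_zmod_five {M : Type*} [AddCommMonoid M] [Fintype (ZMod 5)] (f : ZMod 5 → M) :
    ∑ j, f j = f 0 + f 1 + f 2 + f 3 + f 4 := by
  rw [show (Finset.univ : Finset (ZMod 5)) = {0, 1, 2, 3, 4} from Finset.ext fun x => by simp; exact (by decide : ∀ x : Fin 5, x = 0 ∨ x = 1 ∨ x = 2 ∨ x = 3 ∨ x = 4) x,
    Finset.sum_insert (by decide), Finset.sum_insert (by decide), Finset.sum_insert (by decide),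
    Finset.sum_insert (by decide), Finset.sum_singleton, add_assoc, add_assoc, add_assoc]

theorem symmetric_of_sum_zero {r : ℕ} [Fact r.Prime] (h35 : r = 3 ∨ r = 5) (E : Multiset (ZMod r))
    (hE : E.card = r) (hs : E.sum = 0) : ∃ m : ZMod r, E.map (fun i => 2 * m - i) = E := by
  classical
  have key : (∃ m : ZMod r, ∀ j, E.count j = E.count (2 * m - j)) → ∃ m : ZMod r, E.map (fun i => 2 * m - i) = E := by
    rintro ⟨m, hm⟩
    refine ⟨m, Multiset.ext.2 fun j => ?_⟩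
    conv_lhs => rw [show j = 2 * m - (2 * m - j) by ring]
    rw [Multiset.count_map_eq_count' _ E (fun u v h => sub_right_injective h), ← hm j]
  apply key
  have hcard : ∑ j : ZMod r, E.count j = r := by rw [Multiset.sum_count_eq_card (fun _ _ => Finset.mem_univ _), hE]
  have hsum : ∑ j : ZMod r, E.count j • j = 0 := by
    rw [← Finset.sum_multiset_count_of_subset E Finset.univ (Finset.subset_univ _), hs]
  rcases h35 with rfl | rfl
  · rw [sum_zmod_three] at hsum hcard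
    have h2 : ((E.count 1 + 2 * E.count 2 : ℕ) : ZMod 3) = 0 := by
      simp only [nsmul_eq_mul] at hsum
      push_cast
      linear_combination hsum
    refine sym_three (fun i => E.count i) ?_ ((ZMod.natCast_eq_zero_iff _ _).1 h2)
    show E.count (0 : ZMod 3) + E.count (1 : ZMod 3) + E.count (2 : ZMod 3) = 3
    omega
  · rw [sum_zmod_five] at hsum hcard
    have h2 : ((E.count 1 + 2 * E.count 2 + 3 * E.count 3 + 4 * E.count 4 : ℕ) : ZMod 5) = 0 := by
      simp only [nsmul_eq_mul] at hsum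
      push_cast
      linear_combination hsum
    refine sym_five (fun i => E.count i) ?_ ((ZMod.natCast_eq_zero_iff _ _).1 h2)
    show E.count (0 : ZMod 5) + E.count (1 : ZMod 5) + E.count (2 : ZMod 5) + E.count (3 : ZMod 5) +
      E.count (4 : ZMod 5) = 5
    omega

theorem pow_eq_of_cast {M : Type*} [Monoid M] {r : ℕ} {w : M} (hw : w ^ r = 1) {a b : ℕ} (h : (a : ZMod r) = b) :
    w ^ a = w ^ b := by
  rw [pow_eq_pow_mod a hw, pow_eq_pow_mod b hw, (ZMod.natCast_eq_natCast_iff' _ _ _).1 h]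

variable {F : Type*} [Field F] [Fintype F] {p : ℕ} [Fact p.Prime] [CharP F p] {n : ℕ} (F₀ : Subfield F) {q₀ k r : ℕ}
  [Fact r.Prime]

/-- The primes dividing the index. -/
theorem exists_of_dvd_index (hn : 1 ≤ n) (hF₀ : Nat.card F₀ = q₀) (hqk : Fintype.card F = q₀ ^ k) (hk : k.Prime)
    (hrq : ¬ r ∣ q₀) (hrk : r ≠ k) (hdvd : r ∣ (slSubfield n F₀).index) :
    ∃ j, 2 ≤ j ∧ j ≤ n ∧ ((q₀ : ZMod r) ^ j) ^ k = 1 ∧ (q₀ : ZMod r) ^ j ≠ 1 := by
  classical
  haveI : NeZero n := ⟨by omega⟩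
  haveI : Fintype F₀ := Fintype.ofFinite _
  have hr : r.Prime := Fact.out
  rw [Nat.card_eq_fintype_card] at hF₀
  let f : Matrix.SpecialLinearGroup (Fin n) F₀ →* Matrix.SpecialLinearGroup (Fin n) F :=
    Matrix.SpecialLinearGroup.map F₀.subtype
  have hf : Function.Injective f := fun a b h =>
    Subtype.ext (Matrix.map_injective F₀.subtype.injective (congrArg Subtype.val h))
  have hle : f.range ≤ slSubfield n F₀ := by
    rintro _ ⟨a, rfl⟩
    exact (mem_subfield_iff F₀ _).2 ⟨1, (a : Matrix (Fin n) (Fin n) F₀), one_ne_zero,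
      by rw [a.det_coe]; exact one_ne_zero, by rw [one_smul]; rfl⟩
  have hcardR : Nat.card f.range = Nat.card (Matrix.SpecialLinearGroup (Fin n) F₀) :=
    (Nat.card_congr (MonoidHom.ofInjective hf).toEquiv).symm
  have hq0 : 1 < q₀ := hF₀ ▸ Fintype.one_lt_card
  have h1 := Cfsg.Agent.Linear.card_SL_mul (F := F) n hn
  have h2 := Cfsg.Agent.Linear.card_SL_mul (F := F₀) n hn
  rw [hqk] at h1
  rw [hF₀] at h2
  let S : ℕ → ℕ := fun j => ∑ t ∈ Finset.range k, (q₀ ^ j) ^ t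
  have hS : ∀ j, (q₀ ^ j) ^ k - 1 = (q₀ ^ j - 1) * S j := fun j => by
    have h := geom_sum_mul_add (q₀ ^ j - 1) k
    rw [Nat.sub_add_cancel (Nat.one_le_pow _ _ (by omega))] at h
    rw [← h, Nat.add_sub_cancel, mul_comm]
  let o : Fin n → ℕ := fun i => q₀ ^ ((k - 1) * i) * S (n - i)
  have hfo : ∀ i : Fin n, (q₀ ^ k) ^ n - (q₀ ^ k) ^ (i : ℕ) = (q₀ ^ n - q₀ ^ (i : ℕ)) * o i := fun i => by
    obtain ⟨c, hc⟩ := Nat.exists_eq_add_of_le i.2.le
    have e0 : ∀ Q : ℕ, Q ^ n = Q ^ (i : ℕ) * Q ^ c := fun Q => by rw [← pow_add, ← hc]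
    have e1 : (q₀ ^ k) ^ n - (q₀ ^ k) ^ (i : ℕ) = (q₀ ^ k) ^ (i : ℕ) * ((q₀ ^ c) ^ k - 1) := by
      rw [Nat.mul_sub, mul_one, e0, ← pow_mul q₀ c k, ← pow_mul q₀ k c, mul_comm c k]
    have e2 : q₀ ^ n - q₀ ^ (i : ℕ) = q₀ ^ (i : ℕ) * (q₀ ^ c - 1) := by
      rw [Nat.mul_sub, mul_one, e0]
    have e3 : n - (i : ℕ) = c := by omega
    have e4 : (q₀ ^ k) ^ (i : ℕ) = q₀ ^ (i : ℕ) * q₀ ^ ((k - 1) * i) := by
      obtain ⟨k', rfl⟩ := Nat.exists_eq_add_of_le hk.one_le
      rw [← pow_mul, ← pow_add, Nat.add_sub_cancel_left]; ring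
    rw [e1, e2, e4, hS c]
    show _ = _ * (q₀ ^ ((k - 1) * i) * S (n - i))
    rw [e3]; ring
  rw [Finset.prod_congr rfl (fun i _ => hfo i), Finset.prod_mul_distrib, ← h2, ← f.range.card_mul_index, hcardR] at h1
  have hfo₁ : q₀ ^ k - 1 = (q₀ - 1) * S 1 := by simpa using hS 1
  rw [hfo₁] at h1
  have hpos : 0 < (q₀ - 1) * Nat.card (Matrix.SpecialLinearGroup (Fin n) F₀) := Nat.mul_pos (by omega) Nat.card_pos
  have h3 : S 1 * f.range.index = ∏ i, o i := Nat.eq_of_mul_eq_mul_left hpos (by linear_combination h1)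
  let i0 : Fin n := ⟨n - 1, by omega⟩
  have hS1 : 0 < S 1 := Finset.sum_pos (fun t _ => pow_pos (pow_pos (by omega) _) _) ⟨0, Finset.mem_range.2 hk.pos⟩
  have h4 : f.range.index = q₀ ^ ((k - 1) * (n - 1)) * ∏ i ∈ Finset.univ.erase i0, o i := by
    refine Nat.eq_of_mul_eq_mul_left hS1 ?_
    rw [h3, ← Finset.mul_prod_erase _ _ (Finset.mem_univ i0)]
    show q₀ ^ ((k - 1) * (n - 1)) * S (n - (n - 1)) * _ = _
    rw [show n - (n - 1) = 1 by omega]; ring
  have h5 : r ∣ q₀ ^ ((k - 1) * (n - 1)) * ∏ i ∈ Finset.univ.erase i0, o i :=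
    h4 ▸ hdvd.trans (Subgroup.index_dvd_of_le hle)
  obtain ⟨i, hi, hio⟩ := (Prime.dvd_finsetProd_iff hr.prime _).1
    ((hr.dvd_mul.1 h5).resolve_left fun h => hrq (hr.dvd_of_dvd_pow h))
  have hiS : r ∣ S (n - i) := (hr.dvd_mul.1 hio).resolve_left fun h => hrq (hr.dvd_of_dvd_pow h)
  have hne : (i : ℕ) ≠ n - 1 := fun h => (Finset.mem_erase.1 hi).1 (Fin.ext h)
  refine ⟨n - i, by omega, Nat.sub_le _ _, ?_⟩
  have h6 := (ZMod.natCast_eq_zero_iff _ _).2 hiS
  simp only [S, Nat.cast_sum, Nat.cast_pow] at h6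
  refine ⟨sub_eq_zero.1 (by rw [← geom_sum_mul, h6, zero_mul]), fun h => hrk ?_⟩
  rw [h] at h6
  simp only [one_pow, Finset.sum_const, Finset.card_range, nsmul_eq_mul, mul_one] at h6
  exact (Nat.prime_dvd_prime_iff_eq hr hk).1 ((ZMod.natCast_eq_zero_iff _ _).1 h6)

include p in
theorem frob_conj [NeZero n] (hF₀ : Nat.card F₀ = q₀) (hrp : r ≠ p) (hr2 : r ≠ 2)
    (hq : (Fintype.card F : ZMod r) = (q₀ : ZMod r))
    (hgapk : r ∣ Fintype.card F - 1 → padicValNat r n ≤ padicValNat r (Fintype.card F - 1))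
    (x : Matrix.SpecialLinearGroup (Fin n) F) {z : F} (hz : (x : Matrix (Fin n) (Fin n) F) ^ r = z • 1) :
    ∃ Q : Matrix.SpecialLinearGroup (Fin n) F, Q⁻¹ * x * Q ∈ slSubfield n F₀ := by
  classical
  have hr : r.Prime := Fact.out
  have hz0 : z ≠ 0 := by
    intro h0
    have := congrArg Matrix.det hz
    rw [Matrix.det_pow, x.det_coe, h0, zero_smul, Matrix.det_zero, one_pow] at this
    exact one_ne_zero this
  obtain ⟨b, hb⟩ : ∃ b : F, b ^ r = z := by
    by_cases hdvd : r ∣ Fintype.card F - 1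
    · by_contra hno
      push Not at hno
      obtain ⟨hP, hm, hdeg, hcoeff⟩ := Cfsg.Agent.Linear.Elusive.uniform_pow_sub_C (r := r) hno
      obtain ⟨k', hk', hdet⟩ := Cfsg.Agent.Linear.Elusive.det_of_irreducible hP hm
        (T := Matrix.toLinAlgEquiv' (x : Matrix (Fin n) (Fin n) F)) (by
          rw [Polynomial.aeval_algHom_apply, map_sub, map_pow, aeval_X, aeval_C, hz, Algebra.algebraMap_eq_smul_one,
            sub_self, map_zero])
      rw [hdeg, Module.finrank_fin_fun] at hk'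
      rw [hdeg, hcoeff, show LinearMap.det (Matrix.toLinAlgEquiv' (x : Matrix (Fin n) (Fin n) F)) = 1 from
        (LinearMap.det_toLin' _).trans x.det_coe] at hdet
      have hbad : Cfsg.Agent.Linear.Elusive.Bad F r n :=
        ⟨⟨k', hk'⟩, z, hno, by rw [hk', Nat.mul_div_cancel_left _ hr.pos]; exact hdet.symm⟩
      exact (Cfsg.Agent.Linear.Elusive.bad_iff (p := p) rfl hrp (Nat.pos_of_ne_zero (NeZero.ne n)) hdvd).1 hbad
        ⟨hgapk hdvd, fun h => absurd h hr2⟩
    · exact Cfsg.Agent.Linear.Elusive.exists_root_of_not_dvd rfl hdvd z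
  have hb0 : b ≠ 0 := fun h => hz0 (by rw [← hb, h, zero_pow hr.ne_zero])
  have hy : (b⁻¹ • (x : Matrix (Fin n) (Fin n) F)) ^ r = 1 := by
    rw [_root_.smul_pow, hz, smul_smul, inv_pow, hb, inv_mul_cancel₀ hz0, one_smul]
  refine conj_into_of_roots (p := p) F₀ hF₀ hr hrp x hb0 hy ?_
  set P := (b⁻¹ • (x : Matrix (Fin n) (Fin n) F)).charpoly
  haveI : CharP (AlgebraicClosure F) p := (algebraMap F (AlgebraicClosure F)).charP_iff_charP p |>.1 inferInstance
  obtain ⟨s, -, hs⟩ := FiniteField.card F p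
  obtain ⟨τ, hτ⟩ := pow_prime_pow (L := AlgebraicClosure F) p (Q := Fintype.card F) hs
  have hfix : (P.map (algebraMap F (AlgebraicClosure F))).map τ = P.map (algebraMap F (AlgebraicClosure F)) := by
    rw [Polynomial.map_map]
    congr 1
    exact RingHom.ext fun a => by rw [RingHom.comp_apply, hτ, ← map_pow, FiniteField.pow_card]
  conv_rhs => rw [← hfix, (IsAlgClosed.splits _).roots_map]
  refine Multiset.map_congr rfl fun t ht => ?_
  rw [hτ]
  have h1 := root_pow _ (z := 1) (by rw [hy, one_smul]) ht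
  rw [map_one] at h1
  exact pow_eq_of_cast h1 hq.symm

include p in
theorem half_conj [NeZero n] (hF₀ : Nat.card F₀ = q₀) (hrp : r ≠ p) (hnr : n = r) (h35 : r = 3 ∨ r = 5)
    (h1q : r ∣ q₀ + 1) (hdvd : r ∣ Fintype.card F - 1) (hsq : ¬ r ^ 2 ∣ Fintype.card F - 1)
    (x : Matrix.SpecialLinearGroup (Fin n) F) {z : F} (hz : (x : Matrix (Fin n) (Fin n) F) ^ r = z • 1) :
    ∃ Q : Matrix.SpecialLinearGroup (Fin n) F, Q⁻¹ * x * Q ∈ slSubfield n F₀ := by
  classical
  have hr : r.Prime := Fact.out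
  have hodd : Odd r := hr.odd_of_ne_two (by omega)
  haveI : CharP (AlgebraicClosure F) p := (algebraMap F (AlgebraicClosure F)).charP_iff_charP p |>.1 inferInstance
  set A := (x : Matrix (Fin n) (Fin n) F) with hA
  obtain ⟨b, hb⟩ : ∃ b : F, b ^ r = z := by
    by_contra hno
    push Not at hno
    obtain ⟨hP, hm, hdeg, hcoeff⟩ := Cfsg.Agent.Linear.Elusive.uniform_pow_sub_C (r := r) hno
    obtain ⟨k', hk', hdet⟩ := Cfsg.Agent.Linear.Elusive.det_of_irreducible hP hm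
      (T := Matrix.toLinAlgEquiv' A) (by
        rw [Polynomial.aeval_algHom_apply, map_sub, map_pow, aeval_X, aeval_C, hz, Algebra.algebraMap_eq_smul_one,
          sub_self, map_zero])
    rw [hdeg, Module.finrank_fin_fun, hnr] at hk'
    have hk1 : k' = 1 := Nat.eq_of_mul_eq_mul_left hr.pos (by rw [mul_one, ← hk'])
    rw [hdeg, hcoeff, show LinearMap.det (Matrix.toLinAlgEquiv' A) = 1 from
      (LinearMap.det_toLin' _).trans x.det_coe, hk1, pow_one, hodd.neg_one_pow, neg_one_mul, neg_neg] at hdet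
    exact hno 1 (by rw [one_pow, hdet])
  have hzr : z ^ r = 1 := by
    have := congrArg Matrix.det hz
    rw [Matrix.det_pow, hA, x.det_coe, one_pow, Matrix.det_smul, Matrix.det_one, mul_one, Fintype.card_fin, hnr] at this
    exact this.symm
  have hz1 : z = 1 := by
    have hb0 : b ≠ 0 := fun h => by
      rw [← hb, h, zero_pow hr.ne_zero, zero_pow hr.ne_zero] at hzr; exact zero_ne_one hzr
    have h1 : b ^ (r ^ 2) = 1 := by rw [sq, pow_mul, hb, hzr]
    have h2 := pow_gcd_eq_one.2 ⟨h1, FiniteField.pow_card_sub_one_eq_one b hb0⟩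
    obtain ⟨i, hi, hg⟩ := (Nat.dvd_prime_pow hr).1 (Nat.gcd_dvd_left (r ^ 2) (Fintype.card F - 1))
    rw [hg] at h2
    have hi1 : i ≤ 1 := by
      by_contra h
      exact hsq ((pow_dvd_pow r (show 2 ≤ i by omega)).trans (hg ▸ Nat.gcd_dvd_right _ _))
    rw [← hb]
    interval_cases i
    · rw [pow_zero, pow_one] at h2; rw [h2, one_pow]
    · rwa [pow_one] at h2
  rw [hz1, one_smul] at hz
  obtain ⟨g, hg⟩ := IsCyclic.exists_ofOrder_eq_natCard (α := Fˣ)
  rw [Nat.card_units, Nat.card_eq_fintype_card] at hg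
  obtain ⟨w, hw⟩ : ∃ w : F, IsPrimitiveRoot w r :=
    ⟨((g ^ ((Fintype.card F - 1) / r) : Fˣ) : F), IsPrimitiveRoot.coe_units_iff.2 (IsPrimitiveRoot.iff_orderOf.2 (by
      rw [orderOf_pow, hg, Nat.gcd_eq_right (Nat.div_dvd_of_dvd hdvd),
        Nat.div_div_self hdvd (by have := Fintype.one_lt_card (α := F); omega)]))⟩
  set al := algebraMap F (AlgebraicClosure F)
  have hw' : IsPrimitiveRoot (al w) r := hw.map_of_injective al.injective
  haveI : NeZero r := ⟨hr.ne_zero⟩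
  let φ : ZMod r → AlgebraicClosure F := fun i => al w ^ i.val
  have hφ : ∀ N : ℕ, φ (N : ZMod r) = al w ^ N := fun N =>
    pow_eq_of_cast hw'.pow_eq_one (by rw [ZMod.natCast_val, ZMod.cast_id])
  have hφadd : ∀ i j, φ (i + j) = φ i * φ j := fun i j => by
    rw [← ZMod.natCast_zmod_val i, ← ZMod.natCast_zmod_val j, ← Nat.cast_add, hφ, hφ, hφ, pow_add]
  have hφinj : Function.Injective φ := fun i j h =>
    ZMod.val_injective r (hw'.pow_inj (ZMod.val_lt i) (ZMod.val_lt j) h)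
  set R := (A.charpoly.map al).roots with hR
  have hex : ∀ t ∈ R, ∃ i, φ i = t := fun t ht => by
    obtain ⟨i, -, hi⟩ := hw'.eq_pow_of_pow_eq_one (ξ := t)
      (by rw [root_pow A (z := 1) (by rw [hz, one_smul]) ht, map_one])
    exact ⟨(i : ZMod r), by rw [hφ, hi]⟩
  have hExists : ∃ E : Multiset (ZMod r), E.map φ = R := by
    refine ⟨R.map (Function.invFun φ), ?_⟩
    rw [Multiset.map_map]
    conv_rhs => rw [← Multiset.map_id R]
    exact Multiset.map_congr rfl fun t ht => Function.invFun_eq (hex t ht)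
  obtain ⟨E, hE⟩ := hExists
  have hsp : (A.charpoly.map al).Splits := IsAlgClosed.splits _
  have hEc : E.card = r := by
    have h1 := congrArg Multiset.card hE
    rw [Multiset.card_map] at h1
    rw [h1, hR, ← hsp.natDegree_eq_card_roots, natDegree_map, A.charpoly_natDegree_eq_dim, Fintype.card_fin, hnr]
  have hEs : E.sum = 0 := hφinj (by
    have h1 : ∀ E' : Multiset (ZMod r), φ E'.sum = (E'.map φ).prod := fun E' => by
      induction E' using Multiset.induction with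
      | empty => simp [φ]
      | cons a s ih => rw [Multiset.sum_cons, hφadd, ih, Multiset.map_cons, Multiset.prod_cons]
    rw [h1, hE, hR, ← Matrix.charpoly_map]
    rw [← Matrix.det_eq_prod_roots_charpoly_of_splits (IsAlgClosed.splits _), ← RingHom.mapMatrix_apply,
      ← RingHom.map_det, hA, x.det_coe, map_one]
    simp [φ])
  obtain ⟨m, hm⟩ := symmetric_of_sum_zero h35 E hEc hEs
  have hc : w ^ m.val ≠ 0 := pow_ne_zero _ (hw.ne_zero hr.ne_zero)
  refine conj_into_of_roots (p := p) F₀ hF₀ hr hrp x hc ?_ ?_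
  · rw [_root_.smul_pow, ← hA, hz, inv_pow, ← pow_mul, mul_comm, pow_mul, hw.pow_eq_one, one_pow, inv_one, one_smul]
  · have hRy : ((((w ^ m.val)⁻¹ • A).charpoly).map al).roots = E.map (fun i => φ (i - m)) := by
      rw [← Matrix.charpoly_map, Matrix.map_smul' _ _ _ (map_mul al), roots_smul _ (by simpa using hc),
        Matrix.charpoly_map, ← hR, ← hE, Multiset.map_map]
      refine Multiset.map_congr rfl fun i _ => ?_
      rw [Function.comp_apply, map_inv₀, map_pow, inv_mul_eq_iff_eq_mul₀ (pow_ne_zero _ (hw'.ne_zero hr.ne_zero))]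
      show φ i = φ m * φ (i - m)
      rw [← hφadd, add_sub_cancel]
    rw [← hA, hRy, Multiset.map_map]
    have hneg : (q₀ : ZMod r) = -1 := by
      rw [eq_neg_iff_add_eq_zero, ← Nat.cast_one, ← Nat.cast_add, ZMod.natCast_eq_zero_iff]
      exact h1q
    conv_rhs => rw [← hm, Multiset.map_map]
    refine Multiset.map_congr rfl fun i _ => ?_
    show φ (i - m) ^ q₀ = φ (2 * m - i - m)
    show (al w ^ (i - m).val) ^ q₀ = _
    rw [← pow_mul, ← hφ, Nat.cast_mul, ZMod.natCast_zmod_val, hneg]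
    congr 1
    ring

include p in
/-- The witness with an irreducible block. -/
theorem not_all_of_ne_one [NeZero n] (hF₀ : Nat.card F₀ = q₀) (hqk : Fintype.card F = q₀ ^ k) (hk : k.Prime)
    (hrp : r ≠ p) {j : ℕ} (hj0 : 0 < j) (hjn : j ≤ n) (hj : (Fintype.card F : ZMod r) ^ j = 1)
    (hj1 : (q₀ : ZMod r) ^ j ≠ 1) (hq1 : (Fintype.card F : ZMod r) ≠ 1)
    (hall : ∀ x : Matrix.SpecialLinearGroup (Fin n) F,
      (∃ z : F, ((x ^ r : Matrix.SpecialLinearGroup (Fin n) F) : Matrix (Fin n) (Fin n) F) = z • (1 : Matrix (Fin n) (Fin n) F)) →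
      (∀ z : F, (x : Matrix (Fin n) (Fin n) F) ≠ z • (1 : Matrix (Fin n) (Fin n) F)) →
      ∃ P : Matrix.SpecialLinearGroup (Fin n) F, P⁻¹ * x * P ∈ slSubfield n F₀) : False := by
  classical
  have hr : r.Prime := Fact.out
  have hrF : (r : F) ≠ 0 := fun h0 => hrp ((Nat.prime_dvd_prime_iff_eq Fact.out hr).1
    ((CharP.cast_eq_zero_iff F p r).1 h0)).symm
  set q := Fintype.card F with hq
  obtain ⟨ψ, hψm, hψ, hψd⟩ : ∃ ψ : F[X], ψ.Monic ∧ Irreducible ψ ∧ ψ ∣ cyclotomic r F := by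
    obtain ⟨ψ, h0, h1, h2⟩ := exists_monic_irreducible_factor (cyclotomic r F)
      (fun hu => by
        have := natDegree_eq_zero_of_isUnit hu
        rw [natDegree_cyclotomic, Nat.totient_prime hr] at this
        have := hr.two_le; omega)
    exact ⟨ψ, h0, h1, h2⟩
  haveI : Fact (Irreducible ψ) := ⟨hψ⟩
  let L := AdjoinRoot ψ
  let pb := AdjoinRoot.powerBasis hψ.ne_zero
  haveI : Module.Finite F L := pb.finite
  haveI : Finite L := Module.finite_of_finite F
  set ω : L := AdjoinRoot.root ψ with hω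
  have hψω : aeval ω ψ = 0 := by rw [hω, AdjoinRoot.aeval_eq, AdjoinRoot.mk_self]
  haveI : NeZero ((r : L)) := ⟨fun h => hrF ((algebraMap F L).injective (by simpa using h))⟩
  have hprim : IsPrimitiveRoot ω r := by
    rw [← isRoot_cyclotomic_iff, ← map_cyclotomic r (algebraMap F L), IsRoot.def, eval_map_algebraMap]
    obtain ⟨u, hu⟩ := hψd
    rw [hu, map_mul, hψω, zero_mul]
  have hdj : ψ.natDegree ∣ j := by
    refine Irreducible.natDegree_dvd_of_dvd_X_pow_card_pow_sub_X hψ ?_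
    rw [← AdjoinRoot.mk_eq_zero, ← AdjoinRoot.aeval_eq, map_sub, map_pow, aeval_X, sub_eq_zero,
      Nat.card_eq_fintype_card, ← hq]
    rw [← hω, pow_eq_of_cast hprim.pow_eq_one (b := 1) (by rw [Nat.cast_pow, hj, Nat.cast_one]), pow_one]
  have hdn : pb.dim ≤ n := by
    rw [AdjoinRoot.powerBasis_dim]; exact (Nat.le_of_dvd hj0 hdj).trans hjn
  have hrq1 : ¬ r ∣ q - 1 := fun h => hq1 (by
    have := (ZMod.natCast_eq_zero_iff _ _).2 h
    rwa [Nat.cast_sub Fintype.card_pos, Nat.cast_one, sub_eq_zero] at this)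
  let B := Algebra.leftMulMatrix pb.basis ω
  let Y : Matrix (Fin (n - pb.dim) ⊕ Fin pb.dim) (Fin (n - pb.dim) ⊕ Fin pb.dim) F := Matrix.fromBlocks 1 0 0 B
  let e : Fin (n - pb.dim) ⊕ Fin pb.dim ≃ Fin n := finSumFinEquiv.trans (finCongr (by omega))
  let y : Matrix (Fin n) (Fin n) F := Matrix.reindexAlgEquiv F F e Y
  have hYp : ∀ t : ℕ, Y ^ t = Matrix.fromBlocks 1 0 0 (B ^ t) := by
    intro t
    induction t with
    | zero => rw [pow_zero, pow_zero, Matrix.fromBlocks_one]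
    | succ t ih => rw [pow_succ, ih, Matrix.fromBlocks_multiply]; simp [pow_succ]
  have hBr : B ^ r = 1 := by rw [← map_pow, hprim.pow_eq_one, map_one]
  have hyr : y ^ r = 1 := by rw [← map_pow, hYp, hBr, Matrix.fromBlocks_one, map_one]
  have hych : y.charpoly = (X - 1) ^ (n - pb.dim) * ψ := by
    show (Matrix.reindexAlgEquiv F F e Y).charpoly = _
    rw [Matrix.reindexAlgEquiv_apply, Matrix.charpoly_reindex, Matrix.charpoly_fromBlocks_zero₁₂, Matrix.charpoly_one,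
      Fintype.card_fin]
    congr 1
    show (Algebra.leftMulMatrix pb.basis pb.gen).charpoly = ψ
    rw [charpoly_leftMulMatrix]
    show minpoly F (AdjoinRoot.root ψ) = ψ
    rw [AdjoinRoot.minpoly_root hψm.ne_zero, hψm.leadingCoeff, inv_one, map_one, mul_one]
  have hyd : y.det = 1 := by
    have h1 := congrArg Matrix.det hyr
    rw [Matrix.det_pow, Matrix.det_one] at h1
    exact Cfsg.Agent.Linear.Elusive.pow_r_of_not_dvd rfl hrq1
      (fun h => by rw [h, zero_pow hr.ne_zero] at h1; exact zero_ne_one h1) h1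
  have hscal : ∀ a : F, algebraMap F L a ≠ ω := fun a ha => by
    have h1 : a ^ r = 1 := (algebraMap F L).injective (by rw [map_pow, ha, hprim.pow_eq_one, map_one])
    have h2 := Cfsg.Agent.Linear.Elusive.pow_r_of_not_dvd (r := r) rfl hrq1
      (fun h => by rw [h, zero_pow hr.ne_zero] at h1; exact zero_ne_one h1) h1
    exact hprim.ne_one hr.one_lt (by rw [← ha, h2, map_one])
  obtain ⟨Q, hQ⟩ := hall (⟨y, hyd⟩ : Matrix.SpecialLinearGroup (Fin n) F) ⟨1, by rw [one_smul]; exact (Matrix.SpecialLinearGroup.coe_pow _ r).trans hyr⟩ (fun a ha => by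
    have h1 := congrArg (fun M => aeval ω (Matrix.charpoly M)) (show y = a • 1 from ha)
    rw [hych, map_mul, hψω, mul_zero, Matrix.smul_one_eq_diagonal, Matrix.charpoly_diagonal, map_prod,
      Finset.prod_const, map_sub, aeval_X, aeval_C] at h1
    exact hscal a (sub_eq_zero.1 (eq_zero_of_pow_eq_zero h1.symm)).symm)
  obtain ⟨c, P₀, hc, hP⟩ := charpoly_of_conj F₀ ⟨y, hyd⟩ Q hQ
  obtain ⟨s, hs⟩ := exists_pow_eq (p := p) F₀ hF₀
  haveI : CharP L p := (algebraMap F L).charP_iff_charP p |>.1 inferInstance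
  obtain ⟨τ, hτ⟩ := pow_prime_pow (L := L) p hs
  set c' := algebraMap F L c with hc'
  have hc'0 : c' ≠ 0 := (_root_.map_ne_zero _).2 hc
  have hev : ∀ μ : L, aeval μ (c⁻¹ • y).charpoly = c'⁻¹ ^ n * aeval (c' * μ) y.charpoly := fun μ => by
    rw [← eval_map_algebraMap, ← eval_map_algebraMap, ← Matrix.charpoly_map, ← Matrix.charpoly_map,
      Matrix.map_smul' _ _ _ (map_mul _), map_inv₀, charpoly_smul_eval _ (inv_ne_zero hc'0), Fintype.card_fin,
      div_inv_eq_mul, mul_comm μ]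
  have hμ : aeval (τ (c'⁻¹ * ω)) (c⁻¹ • y).charpoly = 0 := by
    have h0 : aeval (c'⁻¹ * ω) (c⁻¹ • y).charpoly = 0 := by
      rw [hev, ← mul_assoc c', mul_inv_cancel₀ hc'0, one_mul, hych, map_mul, hψω, mul_zero, mul_zero]
    rw [show ((⟨y, hyd⟩ : Matrix.SpecialLinearGroup (Fin n) F) : Matrix (Fin n) (Fin n) F) = y from rfl] at hP
    rw [hP, aeval_def, eval₂_map] at h0 ⊢
    have h1 := congrArg τ h0
    rw [hom_eval₂, map_zero] at h1
    rwa [show τ.comp ((algebraMap F L).comp F₀.subtype) = (algebraMap F L).comp F₀.subtype from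
      RingHom.ext fun a => by
        rw [RingHom.comp_apply, hτ, RingHom.comp_apply, ← map_pow]
        exact congrArg _ ((mem_iff_pow F₀ hF₀ _).1 a.2)] at h1
  rw [hev, hych, map_mul] at hμ
  set ν := c' * τ (c'⁻¹ * ω) with hν
  have hνeq : ν = algebraMap F L (c * c⁻¹ ^ q₀) * ω ^ q₀ := by
    rw [hν, hτ, mul_pow, map_mul, map_pow, map_inv₀, ← hc']; ring
  have hq0r : ¬ r ∣ q₀ := fun h => hj1 (by
    exfalso
    rw [hqk, Nat.cast_pow, (ZMod.natCast_eq_zero_iff _ _).2 h, zero_pow hk.ne_zero, zero_pow hj0.ne'] at hj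
    exact zero_ne_one hj)
  have hν1 : ν ≠ 1 := fun h1 => by
    have hco : q₀.Coprime r := (hr.coprime_iff_not_dvd.2 hq0r).symm
    have h2 : IsPrimitiveRoot (ω ^ q₀) r := hprim.pow_of_coprime _ hco
    have h3 : (c * c⁻¹ ^ q₀)⁻¹ ^ r = 1 := (algebraMap F L).injective (by
      rw [map_pow, map_inv₀, map_one]
      rw [hνeq] at h1
      rw [inv_eq_of_mul_eq_one_right h1, h2.pow_eq_one])
    have h4 := Cfsg.Agent.Linear.Elusive.pow_r_of_not_dvd (r := r) rfl hrq1
      (fun h => by rw [h, zero_pow hr.ne_zero] at h3; exact zero_ne_one h3) h3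
    rw [hνeq, inv_eq_one.1 h4, map_one, one_mul] at h1
    exact h2.ne_one hr.one_lt h1
  have hψν : aeval ν ψ = 0 := by
    rcases mul_eq_zero.1 hμ with h | h
    · exact absurd h (pow_ne_zero _ (inv_ne_zero hc'0))
    rcases mul_eq_zero.1 h with h | h
    · rw [map_pow, map_sub, aeval_X, map_one] at h
      exact absurd (sub_eq_zero.1 (eq_zero_of_pow_eq_zero h)) hν1
    · exact h
  let σ : L →ₐ[F] L := AdjoinRoot.liftAlgHom ψ (Algebra.ofId F L) ν hψν
  have hσ : σ ω = ν := AdjoinRoot.liftAlgHom_root _ _ _ _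
  have hνr : ν ^ r = 1 := by rw [← hσ, ← map_pow, hprim.pow_eq_one, map_one]
  have hc1 : c * c⁻¹ ^ q₀ = 1 := by
    have h3 : (c * c⁻¹ ^ q₀) ^ r = 1 := (algebraMap F L).injective (by
      rw [hνeq, mul_pow, ← pow_mul ω, mul_comm q₀, pow_mul, hprim.pow_eq_one, one_pow, mul_one] at hνr
      rw [map_pow, hνr, map_one])
    exact Cfsg.Agent.Linear.Elusive.pow_r_of_not_dvd (r := r) rfl hrq1
      (fun h => by rw [h, zero_pow hr.ne_zero] at h3; exact zero_ne_one h3) h3
  rw [hc1, map_one, one_mul] at hνeq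
  obtain ⟨i, hi⟩ := (FiniteField.bijective_frobeniusAlgHom_pow F L).2 σ
  have hfr : ∀ (t : ℕ) (u : L), (FiniteField.frobeniusAlgHom F L ^ t) u = u ^ (q ^ t) := by
    intro t
    induction t with
    | zero => intro u; simp
    | succ t ih =>
      intro u
      rw [pow_succ', AlgHom.mul_apply, ih, FiniteField.coe_frobeniusAlgHom, pow_succ, pow_mul, hq]
  have h5 : ω ^ (q ^ (i : ℕ)) = ω ^ q₀ := by rw [← hfr, ← hνeq, ← hσ, ← hi]
  have hmod : (q : ZMod r) ^ (i : ℕ) = (q₀ : ZMod r) := by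
    have h6 := (IsOfFinOrder.pow_eq_pow_iff_modEq (hprim.isOfFinOrder hr.pos.ne')).1 h5
    rw [← hprim.eq_orderOf] at h6
    exact_mod_cast (ZMod.natCast_eq_natCast_iff _ _ _).2 h6
  rw [hqk, Nat.cast_pow, ← pow_mul] at hmod
  set a : ZMod r := (q₀ : ZMod r) with ha
  have ha0 : a ≠ 0 := by rw [ha, Ne, ZMod.natCast_eq_zero_iff]; exact hq0r
  have hQk : (a ^ j) ^ k = 1 := by rw [← pow_mul, mul_comm, pow_mul, ha, ← Nat.cast_pow, ← hqk]; exact hj
  have hko : k ∣ orderOf a := by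
    haveI : Fact k.Prime := ⟨hk⟩
    rw [← orderOf_eq_prime hQk hj1]
    exact orderOf_pow_dvd j
  have hfo : IsOfFinOrder a := orderOf_pos_iff.1 (Nat.pos_of_ne_zero fun h0 => by
    rw [orderOf_eq_zero_iff'] at h0
    exact h0 (j * k) (Nat.mul_pos hj0 hk.pos) (by rw [pow_mul]; exact hQk))
  have h7 := ((hfo.pow_eq_pow_iff_modEq).1 (hmod.trans (pow_one a).symm)).of_dvd hko
  rw [Nat.ModEq, Nat.mul_mod_right, Nat.mod_eq_of_lt hk.one_lt] at h7
  exact zero_ne_one h7

end Cfsg.Agent.H48.SubfieldPrime
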