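import Cfsg.Agent.S1217

/-!
# Recognising quasi-dihedral and wreathed Sylow `2`-subgroups from generators
-/

set_option autoImplicit false

open Subgroup
open Cfsg

namespace Cfsg.Agent.H48

variable {G : Type*} [Group G] [Finite G]

theorem quasiDihedral_sylow_of_gens (P : Sylow 2 G) {x y : G} {k m : ℕ} (hk : 2 ≤ k)
    (hG : Nat.card G = 2 ^ (k + 2) * m) (hm : ¬ 2 ∣ m) (hxo : orderOf x = 2 ^ (k + 1))
    (hy : y * y = 1) (hxc : y * x * y⁻¹ = x ^ (2 ^ k - 1)) :
    IsQuasiDihedral (P : Subgroup G) := by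
  have hx_ne : x ^ (2 ^ k - 1) ≠ x := fun h => by
    have h1 := pow_eq_pow_iff_modEq.mp (h.trans (pow_one x).symm)
    rw [hxo] at h1
    have h2 : 4 ≤ 2 ^ k := le_trans (by norm_num) (Nat.pow_le_pow_right two_pos hk)
    have h3 := (Nat.modEq_iff_dvd' (by omega)).mp h1.symm
    exact Nat.not_dvd_of_pos_of_lt (by omega) (by rw [pow_succ]; omega) h3
  have : Fact (Nat.Prime 2) := ⟨Nat.prime_two⟩
  have hyo : orderOf y = 2 := orderOf_eq_prime (by rw [sq, hy]) fun h => hx_ne (by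
    rw [← hxc, h, one_mul, inv_one, mul_one])
  have hn : zpowers y ≤ normalizer ((zpowers x : Subgroup G) : Set G) := by
    rw [zpowers_le, mem_normalizer_iff]
    have key : ∀ w ∈ zpowers x, y * w * y⁻¹ ∈ zpowers x := fun w hw => by
      obtain ⟨i, rfl⟩ := mem_zpowers_iff.mp hw
      rw [← conj_zpow, hxc]
      exact zpow_mem (pow_mem (mem_zpowers x) _) i
    refine fun w => ⟨key w, fun hw => ?_⟩
    have h1 := key _ hw
    rw [inv_eq_of_mul_eq_one_right hy] at h1
    simpa [← mul_assoc, hy, mul_assoc w y y] using h1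
  have hd : zpowers x ⊓ zpowers y = ⊥ := eq_bot_iff.mpr fun w hw => by
    obtain ⟨i, rfl⟩ := mem_zpowers_iff.mp hw.2
    rcases Int.even_or_odd i with ⟨l, rfl⟩ | ⟨l, rfl⟩
    · rw [mem_bot, zpow_add, ← (Commute.refl y).mul_zpow, hy, one_zpow]
    · exfalso
      refine hx_ne ?_
      have hwx : y ∈ zpowers x := by
        have h1 := hw.1
        rwa [zpow_add, zpow_one, two_mul, zpow_add, ← (Commute.refl y).mul_zpow, hy, one_zpow,
          one_mul] at h1
      obtain ⟨s, hs⟩ := mem_zpowers_iff.mp hwx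
      rw [← hxc, ← hs, (Commute.zpow_self x s).eq, mul_inv_cancel_right]
  have hH := Coprime.card_sup hn hd
  rw [Nat.card_zpowers, Nat.card_zpowers, hxo, hyo, ← pow_succ] at hH
  obtain ⟨E⟩ := Cfsg.Agent.S1217.exists_equiv (MulEquiv.refl G) P (zpowers x ⊔ zpowers y) hH hG hm
  refine ⟨k + 1, by omega, ?_, E ⟨x, mem_sup_left (mem_zpowers x)⟩,
    E ⟨y, mem_sup_right (mem_zpowers y)⟩, ?_, ?_, ?_⟩
  · rw [← Nat.card_congr E.toEquiv, hH]
  · rw [MulEquiv.orderOf_eq, Subgroup.orderOf_mk, hxo]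
  · rw [MulEquiv.orderOf_eq, Subgroup.orderOf_mk, hyo]
  · rw [← map_inv, ← map_mul, ← map_mul, ← map_pow]
    exact congrArg E (Subtype.ext (by push_cast; simpa using hxc))

theorem wreathed_sylow_of_gens (P : Sylow 2 G) {x y z : G} {n m : ℕ} (hn : 2 ≤ n)
    (hG : Nat.card G = 2 ^ (2 * n + 1) * m) (hm : ¬ 2 ∣ m) (hxo : orderOf x = 2 ^ n)
    (hxy : x * y = y * x) (hdis : zpowers x ⊓ zpowers y = ⊥) (hz2 : z * z = 1)
    (hzx : z * x * z⁻¹ = y) : IsWreathed (P : Subgroup G) := by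
  have : Fact (Nat.Prime 2) := ⟨Nat.prime_two⟩
  have hzy : z * y * z⁻¹ = x := by
    rw [← hzx, inv_eq_of_mul_eq_one_right hz2, mul_assoc, mul_assoc, hz2, mul_one, ← mul_assoc,
      hz2, one_mul]
  have hyo : orderOf y = 2 ^ n := by
    rw [← hxo, ← hzx]
    exact (MulEquiv.orderOf_eq (MulAut.conj z) x)
  have hx1 : x ≠ 1 := fun h => by
    rw [h, orderOf_one] at hxo
    exact (Nat.one_lt_two_pow (by omega)).ne hxo
  have hne : x ≠ y := fun h => hx1 (by
    have : x ∈ zpowers x ⊓ zpowers y := ⟨mem_zpowers x, h ▸ mem_zpowers y⟩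
    rwa [hdis, mem_bot] at this)
  have hzo : orderOf z = 2 := orderOf_eq_prime (by rw [sq, hz2]) fun h => hne (by
    rw [← hzx, h, one_mul, inv_one, mul_one])
  have hyn : zpowers y ≤ normalizer ((zpowers x : Subgroup G) : Set G) := by
    refine le_trans ?_ (centralizer_le_normalizer _)
    rw [zpowers_le, mem_centralizer_iff]
    intro w hw
    obtain ⟨i, rfl⟩ := mem_zpowers_iff.mp hw
    exact ((show Commute x y from hxy).zpow_left i).eq
  have hA := Coprime.card_sup hyn hdis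
  rw [Nat.card_zpowers, Nat.card_zpowers, hxo, hyo, ← pow_add] at hA
  have hcjA : (zpowers x ⊔ zpowers y).map (MulAut.conj z).toMonoidHom = zpowers x ⊔ zpowers y := by
    rw [Subgroup.map_sup, MonoidHom.map_zpowers, MonoidHom.map_zpowers,
      show (MulAut.conj z).toMonoidHom x = y from hzx,
      show (MulAut.conj z).toMonoidHom y = x from hzy, sup_comm]
  have hzn : zpowers z ≤ normalizer ((zpowers x ⊔ zpowers y : Subgroup G) : Set G) :=
    zpowers_le.mpr (Coprime.mem_normalizer_of_map_conj hcjA)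
  have hzA : z ∉ zpowers x ⊔ zpowers y := fun h => hne (by
    have hle : zpowers x ⊔ zpowers y ≤ centralizer {x} :=
      sup_le (zpowers_le.mpr (mem_centralizer_singleton_iff.mpr rfl))
        (zpowers_le.mpr (mem_centralizer_singleton_iff.mpr hxy.symm))
    rw [← hzx, mem_centralizer_singleton_iff.mp (hle h), mul_inv_cancel_right])
  have hdz : (zpowers x ⊔ zpowers y) ⊓ zpowers z = ⊥ := eq_bot_iff.mpr fun w hw => by
    obtain ⟨i, rfl⟩ := mem_zpowers_iff.mp hw.2
    rcases Int.even_or_odd i with ⟨l, rfl⟩ | ⟨l, rfl⟩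
    · rw [mem_bot, zpow_add, ← (Commute.refl z).mul_zpow, hz2, one_zpow]
    · exfalso
      refine hzA ?_
      have h1 := hw.1
      rwa [zpow_add, zpow_one, two_mul, zpow_add, ← (Commute.refl z).mul_zpow, hz2, one_zpow,
        one_mul] at h1
  have hH := Coprime.card_sup hzn hdz
  rw [hA, Nat.card_zpowers, hzo, ← pow_succ, show n + n + 1 = 2 * n + 1 by ring] at hH
  obtain ⟨E⟩ := Cfsg.Agent.S1217.exists_equiv (MulEquiv.refl G) P
    (zpowers x ⊔ zpowers y ⊔ zpowers z) hH hG hm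
  refine ⟨n, hn, ?_, E ⟨x, mem_sup_left (mem_sup_left (mem_zpowers x))⟩,
    E ⟨y, mem_sup_left (mem_sup_right (mem_zpowers y))⟩,
    E ⟨z, mem_sup_right (mem_zpowers z)⟩, ?_, ?_, ?_, ?_, ?_⟩
  · rw [← Nat.card_congr E.toEquiv, hH]
  · rw [MulEquiv.orderOf_eq, Subgroup.orderOf_mk, hxo]
  · rw [← map_mul, ← map_mul]; exact congrArg E (Subtype.ext hxy)
  · refine eq_bot_iff.mpr fun v hv => ?_
    obtain ⟨i, hi⟩ := mem_zpowers_iff.mp hv.1
    obtain ⟨l, hl⟩ := mem_zpowers_iff.mp hv.2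
    obtain ⟨w, rfl⟩ := E.surjective v
    rw [← map_zpow] at hi hl
    have hi' := congrArg Subtype.val (E.injective hi)
    have hl' := congrArg Subtype.val (E.injective hl)
    push_cast at hi' hl'
    have h1 : (w : G) ∈ zpowers x ⊓ zpowers y := ⟨⟨i, hi'⟩, ⟨l, hl'⟩⟩
    rw [hdis, mem_bot] at h1
    rw [mem_bot, show w = 1 from Subtype.ext h1, map_one]
  · rw [MulEquiv.orderOf_eq, Subgroup.orderOf_mk, hzo]
  · rw [← map_inv, ← map_mul, ← map_mul]; exact congrArg E (Subtype.ext hzx)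

end Cfsg.Agent.H48
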