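import Cfsg.Agent.S5976

/-!
A symplectic space over a field subalgebra of self-adjoint matrices.
-/

set_option autoImplicit false
set_option linter.style.haveILetI false

namespace Cfsg.Agent.H48.SympField

open scoped Matrix MatrixGroups
open Polynomial Cfsg.Agent.Symplectic Cfsg.Agent.S5976

variable {F : Type*} [Field F] {d : ℕ}

local notation "sf" => Cfsg.sympForm d F
local notation "Mat" => Matrix (Fin d ⊕ Fin d) (Fin d ⊕ Fin d) F
local notation "Vec" => Fin d ⊕ Fin d → F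

variable {k : ℕ} {K : Subalgebra F (Matrix (Fin d ⊕ Fin d) (Fin d ⊕ Fin d) F)}

theorem isField (hk : 0 < k) (hK : Cfsg.Geo.IsFieldSubalgebra k K) : IsField K where
  exists_pair_ne := by
    haveI : Nontrivial K := Module.nontrivial_of_finrank_pos (R := F) (by rw [hK.finrank_eq]; exact hk)
    exact exists_pair_ne K
  mul_comm a b := Subtype.ext (hK.comm _ a.2 _ b.2)
  mul_inv_cancel := fun {a} ha => by
    obtain ⟨b, hb, hab⟩ := hK.inv _ a.2 fun h => ha (Subtype.ext h)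
    exact ⟨⟨b, hb⟩, Subtype.ext hab⟩

theorem eq_zero_of_mulVec (hK : Cfsg.Geo.IsFieldSubalgebra k K) {b : Mat} (hb : b ∈ K) (hb0 : b ≠ 0) {v : Vec}
    (h : b *ᵥ v = 0) : v = 0 := by
  obtain ⟨c, hc, hbc⟩ := hK.inv b hb hb0
  have h1 := congrArg (c *ᵥ ·) h
  simp only [Matrix.mulVec_mulVec, Matrix.mulVec_zero] at h1
  rwa [hK.comm c hc b hb, hbc, Matrix.one_mulVec] at h1

theorem exists_gen [Finite F] (hk : k.Prime) (hK : Cfsg.Geo.IsFieldSubalgebra k K) :
    ∃ κ ∈ K, ∃ m : F[X], m.Monic ∧ Irreducible m ∧ m.natDegree = k ∧ aeval κ m = 0 ∧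
      (∀ s : F, κ ≠ s • 1) ∧ ∀ (s : F) (v : Vec), κ *ᵥ v = s • v → v = 0 := by
  letI : Field K := (isField hk.pos hK).toField
  haveI : Module.Finite F K := Module.Finite.of_finite
  obtain ⟨κ, hκ⟩ : ∃ κ : K, κ ∉ (⊥ : Subalgebra F K) := by
    by_contra hno
    push Not at hno
    have h1 : Module.finrank F K = 1 := Subalgebra.bot_eq_top_iff_finrank_eq_one.1 (eq_top_iff.2 fun x _ => hno x)
    rw [hK.finrank_eq] at h1
    exact hk.ne_one h1
  have hint := IsIntegral.of_finite F κ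
  have hdeg : (minpoly F κ).natDegree = k := by
    have h1 : (minpoly F κ).natDegree ∣ k := hK.finrank_eq ▸ minpoly.degree_dvd hint
    refine (hk.eq_one_or_self_of_dvd _ h1).resolve_left fun h => hκ ?_
    obtain ⟨c, hc⟩ := minpoly.natDegree_eq_one_iff.1 h
    exact Algebra.mem_bot.2 ⟨c, hc⟩
  have hns : ∀ s : F, (κ : Mat) ≠ s • 1 := fun s h => hκ (Algebra.mem_bot.2 ⟨s, Subtype.ext (by
    show algebraMap F Mat s = _
    rw [h, Algebra.algebraMap_eq_smul_one])⟩)
  refine ⟨κ, κ.2, minpoly F κ, minpoly.monic hint, minpoly.irreducible hint, hdeg, ?_, hns, fun s v h => ?_⟩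
  · have := aeval_algHom_apply K.val κ (minpoly F κ)
    rw [minpoly.aeval, map_zero] at this
    exact this
  · refine eq_zero_of_mulVec hK (K.sub_mem κ.2 (K.smul_mem K.one_mem s)) (sub_ne_zero.2 (hns s)) ?_
    rw [Matrix.sub_mulVec, h, Matrix.smul_mulVec, Matrix.one_mulVec, sub_self]

theorem finrank_le (hk : 0 < k) (hd : 0 < d) (hK : Cfsg.Geo.IsFieldSubalgebra k K)
    (hKf : Cfsg.Geo.IsSelfAdjointFor sf K) (hKalt : ∀ a ∈ K, ∀ v : Vec, sf (a *ᵥ v) v = 0) : k ≤ d := by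
  let v : Vec := Pi.single (.inl ⟨0, hd⟩) 1
  have hv : v ≠ 0 := fun h => by simpa [v] using congrFun h (.inl ⟨0, hd⟩)
  let φ : K →ₗ[F] Vec :=
    { toFun := fun a => (a : Mat) *ᵥ v
      map_add' := fun a b => Matrix.add_mulVec _ _ _
      map_smul' := fun c a => Matrix.smul_mulVec _ _ _ }
  have hφ : Function.Injective φ := (injective_iff_map_eq_zero φ).2 fun a ha => by
    by_contra h0
    exact hv (eq_zero_of_mulVec hK a.2 (fun h => h0 (Subtype.ext h)) ha)
  have hW : LinearMap.range φ ≤ (spB d F).orthogonal (LinearMap.range φ) := by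
    rintro - ⟨a, rfl⟩ - ⟨b, rfl⟩
    show spB d F ((b : Mat) *ᵥ v) ((a : Mat) *ᵥ v) = 0
    rw [← sf_eq_spB, ← hKf _ a.2, Matrix.mulVec_mulVec]
    exact hKalt _ (K.mul_mem a.2 b.2) v
  have h1 := Submodule.finrank_mono hW
  have h2 := LinearMap.BilinForm.finrank_orthogonal (spB_nondeg d F) (LinearMap.range φ)
  rw [LinearMap.finrank_range_of_inj hφ, hK.finrank_eq] at h1 h2
  rw [Module.finrank_pi, Fintype.card_sum, Fintype.card_fin] at h2
  omega

theorem conj_aeval (g : GL (Fin d ⊕ Fin d) F) (κ : Mat) (Q : F[X]) :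
    aeval ((g : Mat) * κ * ((g⁻¹ : GL (Fin d ⊕ Fin d) F) : Mat)) Q =
      (g : Mat) * aeval κ Q * ((g⁻¹ : GL (Fin d ⊕ Fin d) F) : Mat) := by
  induction Q using Polynomial.induction_on' with
  | add A A' hA hA' => simp only [map_add, hA, hA', mul_add, add_mul]
  | monomial j c =>
    have : ∀ j : ℕ, ((g : Mat) * κ * ((g⁻¹ : GL (Fin d ⊕ Fin d) F) : Mat)) ^ j =
        (g : Mat) * κ ^ j * ((g⁻¹ : GL (Fin d ⊕ Fin d) F) : Mat) := by
      intro j
      induction j with
      | zero => simp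
      | succ j ih => rw [pow_succ, ih, pow_succ]; simp only [mul_assoc, Units.inv_mul_cancel_left]
    rw [aeval_monomial, aeval_monomial, this, ← Algebra.smul_def, ← Algebra.smul_def, Matrix.mul_smul, Matrix.smul_mul]

/-- No generator of a field of degree `k` of self-adjoint alternating maps commutes with `x`. -/
def Obstructed (k : ℕ) (x : Matrix (Fin d ⊕ Fin d) (Fin d ⊕ Fin d) F) : Prop :=
  ∀ κ : Matrix (Fin d ⊕ Fin d) (Fin d ⊕ Fin d) F, κ * x = x * κ →
    (∀ u v, sf (κ *ᵥ u) v = sf u (κ *ᵥ v)) → (∀ v, sf (κ *ᵥ v) v = 0) →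
    (∀ (s : F) v, κ *ᵥ v = s • v → v = 0) →
    ∀ m : F[X], m.Monic → Irreducible m → m.natDegree = k → aeval κ m = 0 → False

theorem not_conj [Finite F] (hk : k.Prime) (hK : Cfsg.Geo.IsFieldSubalgebra k K)
    (hKf : Cfsg.Geo.IsSelfAdjointFor sf K) (hKalt : ∀ a ∈ K, ∀ v : Vec, sf (a *ᵥ v) v = 0)
    (x : GL (Fin d ⊕ Fin d) F) {r : ℕ} (hxr : x ^ r = 1) (hobs : Obstructed k (x : Mat))
    (hsemi : r.Coprime k ∨ d < Module.finrank F (LinearMap.ker (Matrix.toLin' ((x : Mat) - 1))))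
    {g : GL (Fin d ⊕ Fin d) F} (hg : g ∈ Cfsg.spGL d F) :
    g⁻¹ * x * g ∉ Cfsg.Geo.subalgebraNormalizer K := by
  intro hy
  obtain ⟨κ, hκK, m, hmm, hmi, hmd, hma, -, hne⟩ := exists_gen hk hK
  set y := g⁻¹ * x * g with hydef
  set κ₁ := (g : Mat) * κ * ((g⁻¹ : GL (Fin d ⊕ Fin d) F) : Mat) with hκ₁
  have hgi : ∀ u, ((g⁻¹ : GL (Fin d ⊕ Fin d) F) : Mat) *ᵥ ((g : Mat) *ᵥ u) = u := fun u => by
    rw [Matrix.mulVec_mulVec, Units.inv_mul, Matrix.one_mulVec]
  have hgi' : ∀ u, (g : Mat) *ᵥ (((g⁻¹ : GL (Fin d ⊕ Fin d) F) : Mat) *ᵥ u) = u := fun u => by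
    rw [Matrix.mulVec_mulVec, Units.mul_inv, Matrix.one_mulVec]
  have hκ₁v : ∀ u, κ₁ *ᵥ ((g : Mat) *ᵥ u) = (g : Mat) *ᵥ (κ *ᵥ u) := fun u => by
    rw [hκ₁, ← Matrix.mulVec_mulVec, hgi, ← Matrix.mulVec_mulVec]
  have hcomm : κ * (y : Mat) = (y : Mat) * κ := by
    rcases hsemi with hcop | hbig
    · letI : Field K := (isField hk.pos hK).toField
      haveI : Module.Finite F K := Module.Finite.of_finite
      haveI : Finite K := Module.finite_of_finite F
      haveI : IsGalois F K := inferInstance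
      let α : K →ₐ[F] K :=
        { toFun := fun a => ⟨(y : Mat) * a * ((y⁻¹ : GL (Fin d ⊕ Fin d) F) : Mat), (hy _).1 a.2⟩
          map_one' := Subtype.ext (by simp)
          map_mul' := fun a b => Subtype.ext (by simp [mul_assoc])
          map_zero' := Subtype.ext (by simp)
          map_add' := fun a b => Subtype.ext (by simp [mul_add, add_mul])
          commutes' := fun c => Subtype.ext (by
            show (y : Mat) * algebraMap F Mat c * _ = algebraMap F Mat c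
            rw [← Algebra.commutes c (y : Mat), mul_assoc, Units.mul_inv, mul_one]) }
      have hαp : ∀ (j : ℕ) (a : K), (((α ^ j) a : K) : Mat) =
          ((y ^ j : GL (Fin d ⊕ Fin d) F) : Mat) * a * (((y ^ j)⁻¹ : GL (Fin d ⊕ Fin d) F) : Mat) := by
        intro j
        induction j with
        | zero => intro a; simp
        | succ j ih =>
          intro a
          rw [pow_succ', AlgHom.mul_apply, pow_succ', mul_inv_rev, Units.val_mul y (y ^ j), Units.val_mul (y ^ j)⁻¹ y⁻¹]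
          show (y : Mat) * _ * _ = _
          rw [ih]
          simp only [mul_assoc]
      have hyr : y ^ r = 1 := by
        have := conj_pow (i := r) (a := g⁻¹) (b := x)
        rw [inv_inv] at this
        rw [hydef, this, hxr, mul_one, inv_mul_cancel]
      have hαr : α ^ r = 1 := AlgHom.ext fun a => Subtype.ext (by rw [hαp, hyr]; simp)
      let α' : K ≃ₐ[F] K := AlgEquiv.ofBijective α ⟨α.toRingHom.injective, Finite.surjective_of_injective α.toRingHom.injective⟩
      have hα' : ∀ (j : ℕ) (a : K), (α' ^ j) a = (α ^ j) a := by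
        intro j
        induction j with
        | zero => intro a; rfl
        | succ j ih => intro a; rw [pow_succ', pow_succ', AlgEquiv.mul_apply, AlgHom.mul_apply, ih]; rfl
      have h1 : orderOf α' ∣ r := orderOf_dvd_of_pow_eq_one (AlgEquiv.ext fun a => by rw [hα', hαr]; rfl)
      have h2 : orderOf α' ∣ k := by
        rw [← hK.finrank_eq, ← IsGalois.card_aut_eq_finrank]
        exact orderOf_dvd_natCard _
      have h3 : α' = 1 := orderOf_eq_one_iff.1 (Nat.eq_one_of_dvd_coprimes hcop h1 h2)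
      have h4 : (α ⟨κ, hκK⟩ : Mat) = κ := congrArg Subtype.val (AlgEquiv.congr_fun h3 ⟨κ, hκK⟩)
      change (y : Mat) * κ * ((y⁻¹ : GL (Fin d ⊕ Fin d) F) : Mat) = κ at h4
      calc κ * (y : Mat) = (y : Mat) * κ * ((y⁻¹ : GL (Fin d ⊕ Fin d) F) : Mat) * (y : Mat) := by rw [h4]
        _ = (y : Mat) * κ := by rw [mul_assoc, Units.inv_mul, mul_one]
    · by_contra hne'
      set H := LinearMap.ker (Matrix.toLin' ((x : Mat) - 1))
      have hH : ∀ h, h ∈ H → (x : Mat) *ᵥ h = h := fun h hh => by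
        have h1 : ((x : Mat) - 1) *ᵥ h = 0 := hh
        rwa [Matrix.sub_mulVec, Matrix.one_mulVec, sub_eq_zero] at h1
      have hdiff : (y : Mat) * κ * ((y⁻¹ : GL (Fin d ⊕ Fin d) F) : Mat) - κ ≠ 0 := fun h => hne' (by
        conv_lhs => rw [← sub_eq_zero.1 h]
        rw [mul_assoc, Units.inv_mul, mul_one])
      have hdis : Disjoint H (H.map (Matrix.toLin' κ₁)) := by
        rw [Submodule.disjoint_def]
        rintro w hw ⟨h, hh, rfl⟩
        have h1 : (x : Mat) *ᵥ (κ₁ *ᵥ h) = κ₁ *ᵥ ((x : Mat) *ᵥ h) := by rw [hH _ hh]; exact hH _ hw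
        have h2 : ((y : Mat) * κ * ((y⁻¹ : GL (Fin d ⊕ Fin d) F) : Mat) - κ) *ᵥ
            (((g⁻¹ : GL (Fin d ⊕ Fin d) F) : Mat) *ᵥ h) = 0 := by
          rw [Matrix.sub_mulVec, sub_eq_zero]
          have hy2 : ((y⁻¹ : GL (Fin d ⊕ Fin d) F) : Mat) *ᵥ (((g⁻¹ : GL (Fin d ⊕ Fin d) F) : Mat) *ᵥ h) =
              ((g⁻¹ : GL (Fin d ⊕ Fin d) F) : Mat) *ᵥ h := by
            have : (y : Mat) *ᵥ (((g⁻¹ : GL (Fin d ⊕ Fin d) F) : Mat) *ᵥ h) = ((g⁻¹ : GL (Fin d ⊕ Fin d) F) : Mat) *ᵥ h := by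
              rw [hydef, Units.val_mul, Units.val_mul, ← Matrix.mulVec_mulVec, hgi', ← Matrix.mulVec_mulVec, hH _ hh]
            conv_lhs => rw [← this]
            rw [Matrix.mulVec_mulVec, Units.inv_mul, Matrix.one_mulVec]
          rw [← Matrix.mulVec_mulVec, hy2, ← Matrix.mulVec_mulVec, hydef, Units.val_mul, Units.val_mul,
            ← Matrix.mulVec_mulVec, ← Matrix.mulVec_mulVec]
          have h3 : (g : Mat) *ᵥ (κ *ᵥ (((g⁻¹ : GL (Fin d ⊕ Fin d) F) : Mat) *ᵥ h)) = κ₁ *ᵥ h := by rw [← hκ₁v, hgi']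
          rw [h3, h1, hH _ hh, hκ₁, ← Matrix.mulVec_mulVec, ← Matrix.mulVec_mulVec, hgi]
        have h4 := eq_zero_of_mulVec hK (K.sub_mem ((hy κ).1 hκK) hκK) hdiff h2
        have h5 : h = 0 := by rw [← hgi' h, h4, Matrix.mulVec_zero]
        simp [h5]
      have hinj : Function.Injective (Matrix.toLin' κ₁) := (injective_iff_map_eq_zero _).2 fun v hv => by
        have h1 : κ *ᵥ (((g⁻¹ : GL (Fin d ⊕ Fin d) F) : Mat) *ᵥ v) = (0 : F) • (((g⁻¹ : GL (Fin d ⊕ Fin d) F) : Mat) *ᵥ v) := by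
          have h2 : (g : Mat) *ᵥ (κ *ᵥ (((g⁻¹ : GL (Fin d ⊕ Fin d) F) : Mat) *ᵥ v)) = 0 := by
            rw [← hκ₁v, hgi']; exact hv
          rw [zero_smul, ← hgi (κ *ᵥ _), h2, Matrix.mulVec_zero]
        rw [← hgi' v, hne 0 _ h1, Matrix.mulVec_zero]
      have hdim : Module.finrank F (H.map (Matrix.toLin' κ₁)) = Module.finrank F H :=
        (Submodule.equivMapOfInjective _ hinj H).finrank_eq.symm
      have h6 := Submodule.finrank_add_finrank_le_of_disjoint hdis
      rw [hdim, Module.finrank_pi, Fintype.card_sum, Fintype.card_fin] at h6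
      omega
  refine hobs κ₁ ?_ ?_ ?_ ?_ m hmm hmi hmd ?_
  · have e : x = g * y * g⁻¹ := by rw [hydef]; group
    rw [hκ₁, e, Units.val_mul, Units.val_mul]
    simp only [mul_assoc, Units.inv_mul_cancel_left]
    rw [← mul_assoc κ, hcomm, mul_assoc]
  · intro u v
    obtain ⟨u, rfl⟩ : ∃ u', (g : Mat) *ᵥ u' = u := ⟨_, hgi' u⟩
    obtain ⟨v, rfl⟩ : ∃ v', (g : Mat) *ᵥ v' = v := ⟨_, hgi' v⟩
    rw [hκ₁v, hκ₁v, mem_spGL.1 hg, mem_spGL.1 hg]
    exact hKf κ hκK u v
  · intro v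
    obtain ⟨v, rfl⟩ : ∃ v', (g : Mat) *ᵥ v' = v := ⟨_, hgi' v⟩
    rw [hκ₁v, mem_spGL.1 hg]
    exact hKalt κ hκK v
  · intro s v h
    obtain ⟨v, rfl⟩ : ∃ v', (g : Mat) *ᵥ v' = v := ⟨_, hgi' v⟩
    rw [hκ₁v, ← Matrix.mulVec_smul] at h
    have h1 : κ *ᵥ v = s • v := by rw [← hgi (κ *ᵥ v), h, hgi]
    rw [hne s v h1, Matrix.mulVec_zero]
  · rw [conj_aeval, hma, mul_zero, zero_mul]

theorem exists_subgroup [Fintype F] (hk : k.Prime) (hK : Cfsg.Geo.IsFieldSubalgebra k K)
    (hKf : Cfsg.Geo.IsSelfAdjointFor sf K) (hKalt : ∀ a ∈ K, ∀ v : Vec, sf (a *ᵥ v) v = 0) :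
    ∃ (m : ℕ) (C : Subgroup (GL (Fin d ⊕ Fin d) F)), d = k * m ∧ C ≤ Cfsg.spGL d F ∧
      C ≤ Cfsg.Geo.subalgebraNormalizer K ∧
      Nat.card C = (Fintype.card F ^ k) ^ (m ^ 2) *
        ∏ i ∈ Finset.range m, ((Fintype.card F ^ k) ^ (2 * (i + 1)) - 1) := by
  classical
  letI : Field K := (isField hk.pos hK).toField
  haveI : Module.Finite F K := Module.Finite.of_finite
  haveI : Finite K := Module.finite_of_finite F
  haveI := Fintype.ofFinite K
  have hsm : ∀ (a : K) (v : Vec), a • v = (a : Mat) *ᵥ v := fun a v => rfl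
  haveI : IsScalarTower F K Vec := ⟨fun c a v => by rw [hsm, hsm]; exact Matrix.smul_mulVec _ _ _⟩
  haveI : FiniteDimensional K Vec := Module.Finite.of_finite
  let T := LinearMap.BilinForm.toDual (Algebra.traceForm F K) (traceForm_nondegenerate F K)
  have hT : ∀ (c : K) a, T c a = Algebra.trace F K (c * a) := fun c a => rfl
  let fn : Vec → Vec → Module.Dual F K := fun u v =>
    { toFun := fun a => sf (a • u) v
      map_add' := fun a b => by rw [add_smul, sf_eq_spB, sf_eq_spB, sf_eq_spB, map_add, LinearMap.add_apply]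
      map_smul' := fun c a => by
        rw [smul_assoc, sf_eq_spB, sf_eq_spB, map_smul, LinearMap.smul_apply, RingHom.id_apply] }
  let b : Vec → Vec → K := fun u v => T.symm (fn u v)
  have hb : ∀ u v a, Algebra.trace F K (b u v * a) = sf (a • u) v := fun u v a => by
    rw [← hT, T.apply_symm_apply]; rfl
  have hext : ∀ c c' : K, (∀ a, Algebra.trace F K (c * a) = Algebra.trace F K (c' * a)) → c = c' := fun c c' h =>
    T.injective (LinearMap.ext fun a => by rw [hT, hT, h])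
  let B : LinearMap.BilinForm K Vec := LinearMap.mk₂ K b
    (fun x y v => hext _ _ fun a => by
      rw [add_mul, map_add, hb, hb, hb, smul_add, sf_eq_spB, sf_eq_spB, sf_eq_spB, map_add, LinearMap.add_apply])
    (fun c x v => hext _ _ fun a => by rw [smul_eq_mul, mul_comm c, mul_assoc, hb, hb, smul_smul, mul_comm a])
    (fun x y v => hext _ _ fun a => by
      rw [add_mul, map_add, hb, hb, hb, sf_eq_spB, sf_eq_spB, sf_eq_spB, map_add])
    (fun c x v => hext _ _ fun a => by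
      rw [smul_eq_mul, mul_comm c, mul_assoc, hb, hb, hsm c v, ← hKf _ c.2, ← hsm, smul_smul])
  have hB : ∀ u v, B u v = b u v := fun u v => rfl
  have hA : B.IsAlt := fun u => hext _ _ fun a => by
    rw [hB, hb, zero_mul, map_zero, hsm]; exact hKalt _ a.2 u
  have hBn : ∀ u, (∀ v, B u v = 0) → u = 0 := fun u h => sf_nd fun v => by
    have h1 := hb u v 1
    rw [← hB, h, zero_mul, map_zero, one_smul] at h1
    exact h1.symm
  obtain ⟨m, e, hm, he⟩ := exists_std_equiv hA ⟨hBn, fun u h => hBn u fun v => by rw [← hA.neg_eq, h, neg_zero]⟩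
  have hdm : d = k * m := by
    have h1 := Module.finrank_mul_finrank F K Vec
    rw [hK.finrank_eq, hm, Module.finrank_pi, Fintype.card_sum, Fintype.card_fin] at h1
    nlinarith
  let eg : GL (Fin d ⊕ Fin d) F ≃* (Vec ≃ₗ[F] Vec) :=
    Matrix.GeneralLinearGroup.toLin.trans (LinearMap.GeneralLinearGroup.generalLinearEquiv F Vec)
  let egK : GL (Fin m ⊕ Fin m) K ≃* ((Fin m ⊕ Fin m → K) ≃ₗ[K] (Fin m ⊕ Fin m → K)) :=
    Matrix.GeneralLinearGroup.toLin.trans (LinearMap.GeneralLinearGroup.generalLinearEquiv K (Fin m ⊕ Fin m → K))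
  let φ : GL (Fin m ⊕ Fin m) K →* GL (Fin d ⊕ Fin d) F :=
    eg.symm.toMonoidHom.comp
      { toFun := fun g => (e.trans ((egK g).trans e.symm)).restrictScalars F
        map_one' := LinearEquiv.ext fun v => by
          simp only [map_one]
          exact e.symm_apply_apply v
        map_mul' := fun g h => LinearEquiv.ext fun v => by
          rw [LinearEquiv.mul_apply]
          simp only [LinearEquiv.restrictScalars_apply, LinearEquiv.trans_apply, LinearEquiv.apply_symm_apply, map_mul]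
          rfl }
  have hφ : ∀ g v, e (((φ g : GL (Fin d ⊕ Fin d) F) : Mat) *ᵥ v) =
      ((g : GL (Fin m ⊕ Fin m) K) : Matrix (Fin m ⊕ Fin m) (Fin m ⊕ Fin m) K) *ᵥ e v := by
    intro g v
    have h1 : ((φ g : GL (Fin d ⊕ Fin d) F) : Mat) *ᵥ v = eg (φ g) v := rfl
    rw [h1]
    show e (eg (eg.symm _) v) = _
    rw [MulEquiv.apply_symm_apply]
    exact e.apply_symm_apply _
  have hφinj : Function.Injective φ := fun g h hgh => Units.ext (Matrix.ext_iff_mulVec.2 fun w => by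
    obtain ⟨v, rfl⟩ := e.surjective w
    rw [← hφ, ← hφ, hgh])
  refine ⟨m, (Cfsg.spGL m K).map φ, hdm, ?_, ?_, ?_⟩
  · rintro - ⟨g, hg, rfl⟩
    refine mem_spGL.2 fun u v => ?_
    rw [← one_smul K (((φ g : GL (Fin d ⊕ Fin d) F) : Mat) *ᵥ u), ← hb, ← hB, ← he, hφ, hφ, mem_spGL.1 hg, he, hB, hb,
      one_smul]
  · rintro - ⟨g, -, rfl⟩
    have hc : ∀ a : K, ((φ g : GL (Fin d ⊕ Fin d) F) : Mat) * a = (a : Mat) * ((φ g : GL (Fin d ⊕ Fin d) F) : Mat) :=
      fun a => Matrix.ext_iff_mulVec.2 fun v => e.injective (by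
        rw [← Matrix.mulVec_mulVec, ← Matrix.mulVec_mulVec, ← hsm, ← hsm, map_smul, hφ, map_smul, Matrix.mulVec_smul,
          hφ])
    intro k'
    constructor
    · intro hk'
      rw [hc ⟨k', hk'⟩, mul_assoc, Units.mul_inv, mul_one]
      exact hk'
    · intro hk'
      have h1 := hc ⟨_, hk'⟩
      simp only [mul_assoc, Units.inv_mul, mul_one] at h1
      rw [Units.mul_right_inj] at h1
      rw [← mul_assoc] at h1
      rwa [h1] at hk'
  · rw [Subgroup.card_map_of_injective hφinj, card_spGL, Module.card_eq_pow_finrank (K := F) (V := K), hK.finrank_eq]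

end Cfsg.Agent.H48.SympField
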