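import Cfsg.Agent.H48.Alperin

/-!
# Conjugacy functors: towers, well-placed subgroups, independence of the Sylow subgroup
-/

set_option autoImplicit false
set_option linter.unusedSectionVars false

namespace Cfsg.Agent.H48

open Subgroup

variable {G : Type*} [Group G] [Finite G] {p : ℕ} [Fact p.Prime]
variable {W : Subgroup G → Subgroup G}

theorem functor_le (hW : Cfsg.IsConjugacyFunctor p W) {P : Subgroup G} (hP : IsPGroup p P) :
    W P ≤ P := (hW P hP).1

theorem functor_ne_bot (hW : Cfsg.IsConjugacyFunctor p W) {P : Subgroup G} (hP : IsPGroup p P)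
    (h : P ≠ ⊥) : W P ≠ ⊥ := (hW P hP).2.1 h

theorem functor_cj (hW : Cfsg.IsConjugacyFunctor p W) {P : Subgroup G} (hP : IsPGroup p P)
    (g : G) : W (cj g P) = cj g (W P) := (hW P hP).2.2 g

theorem normalizer_le_normalizer_functor (hW : Cfsg.IsConjugacyFunctor p W) {P : Subgroup G}
    (hP : IsPGroup p P) :
    normalizer (P : Set G) ≤ normalizer ((W P : Subgroup G) : Set G) := fun g hg => by
  refine mem_normalizer_of_cj_eq ?_
  rw [← functor_cj hW hP, cj_eq_of_mem_normalizer hg]

theorem le_normalizer_functor (hW : Cfsg.IsConjugacyFunctor p W) {P : Subgroup G}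
    (hP : IsPGroup p P) : P ≤ normalizer ((W P : Subgroup G) : Set G) :=
  le_normalizer.trans (normalizer_le_normalizer_functor hW hP)

/-- `N_S` of the `i`-th term of the tower. -/
abbrev towerNorm (W : Subgroup G → Subgroup G) (S T : Subgroup G) (i : ℕ) : Subgroup G :=
  S ⊓ normalizer ((Cfsg.functorTower W S T i : Subgroup G) : Set G)

theorem tower_succ (S T : Subgroup G) (i : ℕ) :
    Cfsg.functorTower W S T (i + 1) = W (towerNorm W S T i) := rfl

theorem tower_shift (S T : Subgroup G) (i : ℕ) :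
    Cfsg.functorTower W S (W (S ⊓ normalizer (T : Set G))) i
      = Cfsg.functorTower W S T (i + 1) := by
  induction i with
  | zero => rfl
  | succ i ih =>
    show W (S ⊓ normalizer _) = W (S ⊓ normalizer _)
    rw [ih]

variable {S : Subgroup G}

theorem towerNorm_isPGroup (hS : IsPGroup p S) (T : Subgroup G) (i : ℕ) :
    IsPGroup p ↥(towerNorm W S T i) := hS.to_le inf_le_left

theorem towerNorm_le_succ (hW : Cfsg.IsConjugacyFunctor p W) (hS : IsPGroup p S) (T : Subgroup G)
    (i : ℕ) : towerNorm W S T i ≤ towerNorm W S T (i + 1) :=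
  le_inf inf_le_left (le_normalizer_functor hW (towerNorm_isPGroup hS T i))

theorem towerNorm_mono (hW : Cfsg.IsConjugacyFunctor p W) (hS : IsPGroup p S) (T : Subgroup G) :
    Monotone (towerNorm W S T) := monotone_nat_of_le_succ (towerNorm_le_succ hW hS T)

theorem tower_le (hW : Cfsg.IsConjugacyFunctor p W) (hS : IsPGroup p S) {T : Subgroup G}
    (hT : T ≤ S) (i : ℕ) : Cfsg.functorTower W S T i ≤ S := by
  cases i with
  | zero => exact hT
  | succ i => exact (functor_le hW (towerNorm_isPGroup hS T i)).trans inf_le_left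

theorem isSylowIn_iff (hS : IsPGroup p S) (U : Subgroup G) :
    IsSylowIn p (S ⊓ normalizer (U : Set G)) (normalizer (U : Set G)) ↔
      ¬ p ∣ (S ⊓ normalizer (U : Set G)).relIndex (normalizer (U : Set G)) :=
  ⟨fun h => h.ndvd, fun h => ⟨inf_le_right, hS.to_le inf_le_left, h⟩⟩

/-- The successor in the tower of a well-placed subgroup is well placed. -/
theorem isWellPlaced_succ (hW : Cfsg.IsConjugacyFunctor p W) (hS : IsPGroup p S) {T : Subgroup G}
    (hT : Cfsg.IsWellPlaced p W S T) :
    Cfsg.IsWellPlaced p W S (W (S ⊓ normalizer (T : Set G))) := by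
  refine ⟨(functor_le hW (hS.to_le inf_le_left)).trans inf_le_left, fun i => ?_⟩
  rw [tower_shift]; exact hT.2 (i + 1)

theorem IsWellPlaced.isSylowIn (hS : IsPGroup p S) {T : Subgroup G}
    (hT : Cfsg.IsWellPlaced p W S T) :
    IsSylowIn p (S ⊓ normalizer (T : Set G)) (normalizer (T : Set G)) :=
  (isSylowIn_iff hS T).mpr (hT.2 0)

/-- Some conjugate of `T` has Sylow normalizers in the first `n` terms of its tower. -/
theorem exists_good (P : Sylow p G) (hW : Cfsg.IsConjugacyFunctor p W) {T : Subgroup G}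
    (hT : T ≤ (P : Subgroup G)) (n : ℕ) :
    ∃ g : G, cj g T ≤ (P : Subgroup G) ∧ ∀ i < n,
      IsSylowIn p (towerNorm W (P : Subgroup G) (cj g T) i)
        (normalizer ((Cfsg.functorTower W (P : Subgroup G) (cj g T) i : Subgroup G) : Set G)) := by
  have hS := P.isPGroup'
  induction n with
  | zero => exact ⟨1, by rwa [cj_one], fun i hi => absurd hi (Nat.not_lt_zero i)⟩
  | succ n ih =>
    obtain ⟨g, hg, hgood⟩ := ih
    set T₁ := cj g T
    set R := towerNorm W (P : Subgroup G) T₁
    set U := Cfsg.functorTower W (P : Subgroup G) T₁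
    obtain ⟨Q, hQ, hRQ⟩ := exists_isSylowIn_ge (p := p) (H := normalizer ((U n : Subgroup G) : Set G))
      (towerNorm_isPGroup hS T₁ n) inf_le_right
    obtain ⟨k, -, hk⟩ := (isSylowIn_sylow P).exists_cj_le hQ.isPGroup le_top
    have hRk : ∀ j ≤ n, cj k (R j) ≤ (P : Subgroup G) := fun j hj =>
      ((cj_mono ((towerNorm_mono hW hS T₁ hj).trans hRQ))).trans hk
    have hk1 : cj k T₁ ≤ (P : Subgroup G) :=
      (cj_mono (le_inf hg le_normalizer)).trans (hRk 0 (Nat.zero_le n))
    set U' := Cfsg.functorTower W (P : Subgroup G) (cj k T₁)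
    have key : ∀ j ≤ n, U' j = cj k (U j) ∧
        cj k (R j) ≤ towerNorm W (P : Subgroup G) (cj k T₁) j := by
      intro j
      induction j with
      | zero =>
        refine fun _ => ⟨rfl, le_inf (hRk 0 (Nat.zero_le n)) ?_⟩
        exact (cj_mono inf_le_right).trans (cj_normalizer k T₁).le
      | succ j ihj =>
        intro hj
        obtain ⟨hU, hle⟩ := ihj (Nat.le_of_succ_le hj)
        have h1 : IsSylowIn p (cj k (R j)) (normalizer ((U' j : Subgroup G) : Set G)) := by
          rw [hU, ← cj_normalizer]; exact (hgood j hj).cj k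
        have heq : cj k (R j) = towerNorm W (P : Subgroup G) (cj k T₁) j :=
          h1.eq_of_le (towerNorm_isPGroup hS _ j) inf_le_right hle
        have hU1 : U' (j + 1) = cj k (U (j + 1)) := by
          show W (towerNorm W (P : Subgroup G) (cj k T₁) j) = cj k (W (R j))
          rw [← heq, functor_cj hW (towerNorm_isPGroup hS T₁ j)]
        refine ⟨hU1, le_inf (hRk _ hj) ?_⟩
        show cj k (R (j + 1)) ≤ normalizer ((U' (j + 1) : Subgroup G) : Set G)
        rw [hU1, ← cj_normalizer]
        exact cj_mono inf_le_right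
    refine ⟨k * g, by rwa [← cj_cj], fun i hi => ?_⟩
    rw [← cj_cj]
    obtain ⟨hU, hle⟩ := key i (Nat.le_of_lt_succ hi)
    rcases Nat.lt_succ_iff_lt_or_eq.mp hi with hlt | rfl
    · have h1 : IsSylowIn p (cj k (R i)) (normalizer ((U' i : Subgroup G) : Set G)) := by
        rw [hU, ← cj_normalizer]; exact (hgood i hlt).cj k
      exact h1.of_card inf_le_right (towerNorm_isPGroup hS _ i) (Subgroup.card_le_of_le hle)
    · have h1 : IsSylowIn p (cj k Q) (normalizer ((U' i : Subgroup G) : Set G)) := by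
        rw [hU, ← cj_normalizer]; exact hQ.cj k
      refine h1.of_card inf_le_right (towerNorm_isPGroup hS _ i) (Subgroup.card_le_of_le ?_)
      exact le_inf hk h1.le

/-- **Every subgroup of a Sylow subgroup has a well-placed conjugate.** -/
theorem exists_isWellPlaced (P : Sylow p G) (hW : Cfsg.IsConjugacyFunctor p W) {T : Subgroup G}
    (hT : T ≤ (P : Subgroup G)) :
    ∃ g : G, Cfsg.IsWellPlaced p W (P : Subgroup G) (cj g T) := by
  have hS := P.isPGroup'
  obtain ⟨g, hg, hgood⟩ := exists_good P hW hT (Nat.card G + 2)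
  refine ⟨g, hg, ?_⟩
  set R := towerNorm W (P : Subgroup G) (cj g T) with hR
  obtain ⟨i, hiN, hi⟩ : ∃ i ≤ Nat.card G, R i = R (i + 1) := by
    by_contra hne
    push Not at hne
    have hgrow : ∀ i ≤ Nat.card G + 1, i ≤ Nat.card (R i) := by
      intro i
      induction i with
      | zero => exact fun _ => Nat.zero_le _
      | succ i ih =>
        intro hi
        have h1 := ih (Nat.le_of_succ_le hi)
        by_contra hc
        exact hne i (Nat.le_of_succ_le_succ hi) (eq_of_le_of_card_le
          (towerNorm_le_succ hW hS _ i) (by omega))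
    have := (hgrow _ le_rfl).trans (Subgroup.card_le_card_group _)
    omega
  have hstab : ∀ j, i + 1 ≤ j →
      Cfsg.functorTower W (P : Subgroup G) (cj g T) j
        = Cfsg.functorTower W (P : Subgroup G) (cj g T) (i + 1) := by
    intro j hj
    induction hj with
    | refl => rfl
    | step _ ih =>
      rw [tower_succ, tower_succ]
      congr 1
      rw [show towerNorm W (P : Subgroup G) (cj g T) _ = R (i + 1) from
        congrArg (fun U : Subgroup G => (P : Subgroup G) ⊓ normalizer (U : Set G)) ih]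
      exact hi.symm
  intro j
  rcases Nat.lt_or_ge j (i + 1) with hj | hj
  · exact (hgood j (by omega)).ndvd
  · rw [hstab j hj]; exact (hgood (i + 1) (by omega)).ndvd

/-- The well-placed subgroups form a conjugation family (`Chain` form). -/
theorem chain_wellPlaced (P : Sylow p G) (hW : Cfsg.IsConjugacyFunctor p W) (A : Set G) (g : G)
    (hA : A ⊆ (P : Subgroup G)) (hg : rimg A g ⊆ (P : Subgroup G)) :
    Chain {T : Subgroup G | Cfsg.IsWellPlaced p W (P : Subgroup G) T} A g := by
  refine chain_of_representatives P.isPGroup' (fun T hT => ?_) A g hA hg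
  obtain ⟨k, hk⟩ := exists_isWellPlaced P hW hT
  exact ⟨_, hk, hk.1, ⟨k, rfl⟩, IsWellPlaced.isSylowIn P.isPGroup' hk⟩

/-- The condition on one Sylow subgroup in the definition of control of strong fusion. -/
def StrongFusionAt (W : Subgroup G → Subgroup G) (H T : Subgroup G) : Prop :=
  ∀ (A : Set G) (h : G), h ∈ H → A ⊆ T → (fun a => h * a * h⁻¹) '' A ⊆ T →
    ∃ x ∈ H ⊓ normalizer ((W T : Subgroup G) : Set G), ∀ a ∈ A, x * a * x⁻¹ = h * a * h⁻¹

theorem strongFusionAt_of_controls (hW : Cfsg.IsConjugacyFunctor p W) {H T : Subgroup G}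
    (h : Cfsg.ControlsStrongFusionIn p W H) (hT : IsSylowIn p T H) : StrongFusionAt W H T := by
  obtain ⟨T₀, h1, h2, h3, hctl⟩ := h
  obtain ⟨k, hk, hkT⟩ := (IsSylowIn.mk h1 h2 h3).exists_conj hT
  subst hkT
  intro A m hm hA hA'
  have hA1 : (fun a => k⁻¹ * a * k) '' A ⊆ (T₀ : Set G) := by
    rintro _ ⟨a, ha, rfl⟩; exact mem_cj.mp (hA ha)
  obtain ⟨x, hx, hxa⟩ := hctl ((fun a => k⁻¹ * a * k) '' A) (k⁻¹ * m * k)
    (mul_mem (mul_mem (inv_mem hk) hm) hk) hA1 (by
      rw [Set.image_image]
      rintro _ ⟨a, ha, rfl⟩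
      have := mem_cj.mp (hA' ⟨a, ha, rfl⟩)
      simpa [mul_assoc] using this)
  refine ⟨k * x * k⁻¹, ⟨H.mul_mem (H.mul_mem hk hx.1) (H.inv_mem hk), ?_⟩, fun a ha => ?_⟩
  · rw [functor_cj hW h2, ← cj_normalizer]
    exact conj_mem_cj hx.2
  · have := hxa _ ⟨a, ha, rfl⟩
    calc k * x * k⁻¹ * a * (k * x * k⁻¹)⁻¹ = k * (x * (k⁻¹ * a * k) * x⁻¹) * k⁻¹ := by group
      _ = k * ((k⁻¹ * m * k) * (k⁻¹ * a * k) * (k⁻¹ * m * k)⁻¹) * k⁻¹ := by rw [this]
      _ = m * a * m⁻¹ := by group

theorem controls_of_strongFusionAt {H T : Subgroup G} (hT : IsSylowIn p T H)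
    (h : StrongFusionAt W H T) : Cfsg.ControlsStrongFusionIn p W H :=
  ⟨T, hT.le, hT.isPGroup, hT.ndvd, h⟩

end Cfsg.Agent.H48
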